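import Cfsg.Agent.Lib.Chev.Twisted.Count
import Cfsg.Agent.Lib.Chev.Aut.GraphExist
import Cfsg.Agent.Lib.Chev.Group.Torus
import Cfsg.Prelude.Def_ChevWords

/-! Construction of twists, decidable checks of their data, words and torus elements. -/
set_option autoImplicit false
open Cfsg.Lie
open scoped Matrix MatrixGroups commutatorElement

namespace CfsgLib.Chev.Twisted

open CfsgLib.Chev CfsgLib.Chev.Checks CfsgLib.Chev.Basic

variable {D : ChevalleyDatum} {F : Type*} [Field F]

/-- compatibility of the graph data with negation and signs of roots -/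
def twOK (D : ChevalleyDatum) (G : Aut.GraphData) : Bool :=
  decide ((List.range D.nroots).map (Aut.gRoot G)).Nodup && (List.range D.nroots).all fun r =>
    (Aut.gRoot G (D.neg r) == D.neg (Aut.gRoot G r)) && (Aut.gSign G (D.neg r) == Aut.gSign G r) &&
    (Aut.gExpo G (D.neg r) == Aut.gExpo G r)

open scoped Classical in
/-- the exponent map of a root -/
noncomputable def expHom (F : Type*) [Field F] (p : ℕ) (e : ℕ) : F →+* F :=
  if h : 1 < p ∧ e = p ∧ CharP F p ∧ p.Prime then
    (haveI := h.2.2.1; haveI := Fact.mk h.2.2.2; frobenius F p)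
  else RingHom.id F

theorem expHom_apply {p e : ℕ} (hp : 1 < p → CharP F p ∧ p.Prime) (he : e = 1 ∨ (e = p ∧ 1 < p)) (t : F) :
    expHom F p e t = t ^ e := by
  unfold expHom
  split_ifs with h
  · obtain ⟨-, rfl, -, -⟩ := h; rfl
  · rcases he with rfl | ⟨rfl, h1⟩
    · simp
    · exact absurd ⟨h1, rfl, (hp h1).1, (hp h1).2⟩ h

/-- data for a twist -/
structure Kind (D : ChevalleyDatum) (F : Type*) [Field F] where
  G : Aut.GraphData
  p : ℕ
  m : ℤ
  hm : (m : F) = 0
  hp : 1 < p → CharP F p ∧ p.Prime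
  hrel : Aut.relOK D G m = true
  hdata : Aut.dataOK D G p = true
  htw : twOK D G = true
  f : F ≃+* F

theorem exists_map (hD : D ∈ dataList) [Finite F] (k : Kind D F) : ∃ φ : MulAut ↥(D.group F), ∀ r, r < D.nroots →
    ∀ t, φ (Aut.xe hD r t) = Aut.xe hD (Aut.gRoot k.G r)
      ((Aut.gSign k.G r : F) * k.f (expHom F k.p (Aut.gExpo k.G r) t)) := by
  obtain ⟨φ, hφ⟩ := Aut.exists_graph (F := F) hD k.G k.p k.m k.hm k.hp k.hrel k.hdata
  obtain ⟨α, hα⟩ := Opposite.exists_field_aut hD k.f
  refine ⟨(φ : ↥(D.group F) ≃* ↥(D.group F)).trans α, fun r hr t => Subtype.ext (Units.ext ?_)⟩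
  have h := k.hdata
  simp only [Aut.dataOK, List.all_eq_true, List.mem_range, Bool.and_eq_true, decide_eq_true_eq, Bool.or_eq_true,
    beq_iff_eq, List.any_eq_true] at h
  have hlt := (h r hr).1.1.1.1
  have he : Aut.gExpo k.G r = 1 ∨ (Aut.gExpo k.G r = k.p ∧ 1 < k.p) := (h r hr).1.1.2
  show ((α (φ (Aut.xe hD r t)) : GL D.Idx F) : Matrix D.Idx D.Idx F) = _
  rw [hφ r hr, hα _ (Aut.gRoot k.G r) _ hlt (xGL_val hD _ _), map_mul, map_intCast, expHom_apply k.hp he]
  rfl

/-- the twist of the data -/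
noncomputable def mkTwist [Finite F] (hD : D ∈ dataList) (k : Kind D F) : Twist hD F where
  φ := (exists_map hD k).choose
  ρ := Aut.gRoot k.G
  c r := (Aut.gSign k.G r : F)
  π r := k.f.toRingHom.comp (expHom F k.p (Aut.gExpo k.G r))
  ρ_inj r s hr hs h := by
    have h' := k.htw
    simp only [twOK, Bool.and_eq_true, decide_eq_true_eq] at h'
    exact List.inj_on_of_nodup_map h'.1 (List.mem_range.2 hr) (List.mem_range.2 hs) h
  ρ_pos r hr := by
    have h' := k.hdata
    simp only [Aut.dataOK, List.all_eq_true, List.mem_range, Bool.and_eq_true, decide_eq_true_eq, beq_iff_eq,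
      decide_eq_decide] at h'
    exact (Weight.pos_iff hD (h' r hr.1).1.1.1.1).2 ((h' r hr.1).2.1 ((Weight.pos_iff hD hr.1).1 hr))
  ρ_negRoot r hr := by
    have h' := k.hdata
    simp only [Aut.dataOK, List.all_eq_true, List.mem_range, Bool.and_eq_true, decide_eq_true_eq, beq_iff_eq,
      decide_eq_decide] at h'
    refine (Weight.neg_iff hD (h' r hr.1).1.1.1.1).2 (Nat.not_le.1 fun h => ?_)
    exact absurd ((Weight.neg_iff hD hr.1).1 hr) (Nat.not_lt.2 ((h' r hr.1).2.2 h))
  ρ_neg r hr := by
    have h' := k.htw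
    simp only [twOK, Bool.and_eq_true, List.all_eq_true, List.mem_range, beq_iff_eq] at h'
    exact (h'.2 r hr).1.1
  c_cases r hr := by
    have h' := k.hdata
    simp only [Aut.dataOK, List.all_eq_true, List.mem_range, Bool.and_eq_true, Bool.or_eq_true, beq_iff_eq] at h'
    rcases (h' r hr).1.1.1.2 with e | e <;> simp [e]
  c_neg r hr := by
    have h' := k.htw
    simp only [twOK, Bool.and_eq_true, List.all_eq_true, List.mem_range, beq_iff_eq] at h'
    show (Aut.gSign k.G (D.neg r) : F) = _
    rw [(h'.2 r hr).1.2]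
  π_neg r hr := by
    have h' := k.htw
    simp only [twOK, Bool.and_eq_true, List.all_eq_true, List.mem_range, beq_iff_eq] at h'
    show k.f.toRingHom.comp (expHom F k.p (Aut.gExpo k.G (D.neg r))) = _
    rw [(h'.2 r hr).2]
  map_x := (exists_map hD k).choose_spec

/-! ### checks -/

/-- membership in the subsystem of a list of fundamental indices -/
def inB (D : ChevalleyDatum) (J : List ℕ) (r : ℕ) : Bool :=
  (List.range D.rank).all fun i => J.contains i || (D.coroot.getD r #[]).getD i 0 == 0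

theorem inB_iff {J : List ℕ} {r : ℕ} (hr : r < D.nroots) : inB D J r = true ↔ D.InRootSub {i | i ∈ J} r := by
  simp only [inB, List.all_eq_true, List.mem_range, Bool.or_eq_true, List.contains_iff_mem, beq_iff_eq,
    ChevalleyDatum.InRootSub, Set.mem_ofPred_eq]
  refine ⟨fun h => ⟨hr, fun i hi hiJ => (h i hi).resolve_left hiJ⟩, fun h i hi => ?_⟩
  by_cases hiJ : i ∈ J
  exacts [Or.inl hiJ, Or.inr (h.2 i hi hiJ)]

/-- the checks of a family of classes -/
def classesOK (D : ChevalleyDatum) (ρ : ℕ → ℕ) (J w : List (List ℕ)) : Bool :=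
  (J.length == w.length) &&
  ((List.range D.rank).all fun i => (List.range J.length).any fun j => (J.getD j []).contains i) &&
  ((List.range J.length).all fun j =>
    let Jj := J.getD j []
    let wj := w.getD j []
    (wj.all fun i => Jj.contains i) && !Jj.isEmpty &&
    (Jj.all fun i => decide (i < D.rank) &&
      ((List.range J.length).all fun j' => j' == j || !(J.getD j' []).contains i) &&
      (Jj.all fun i' => (List.range 4).any fun n => ρ^[n] (D.simple i) == D.simple i')) &&
    (List.range D.nroots).all fun r =>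
      let s := N.act D wj r
      decide (s < D.nroots) && (N.act D wj s == r) &&
      (decide (r < D.nroots / 2) || if inB D Jj r then decide (s < D.nroots / 2) && inB D Jj s
        else decide (D.nroots / 2 ≤ s) && !inB D Jj s))

/-- classes from checked data -/
def mkClasses {hD : D ∈ dataList} {S : Twist hD F} {ρ : ℕ → ℕ} (hρ : S.ρ = ρ) (J w : List (List ℕ))
    (h : classesOK D ρ J w = true) : Classes S := by
  simp only [classesOK, Bool.and_eq_true, beq_iff_eq, List.all_eq_true, List.mem_range, List.any_eq_true,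
    List.contains_iff_mem, Bool.not_eq_true', decide_eq_true_eq, Bool.or_eq_true, List.isEmpty_eq_false_iff] at h
  exact
  { k := J.length
    J := fun j => J.getD j.1 []
    w := fun j => w.getD j.1 []
    w_mem := fun j i hi => (h.2 j.1 j.2).1.1.1 i hi
    J_lt := fun j i hi => ((h.2 j.1 j.2).1.2 i hi).1.1
    cover := fun i hi => by obtain ⟨j, hj, hij⟩ := h.1.2 i hi; exact ⟨⟨j, hj⟩, hij⟩
    disj := fun i j a ha hb => by
      rcases ((h.2 i.1 i.2).1.2 a ha).1.2 j.1 j.2 with e | e
      · exact Fin.ext e.symm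
      · exact absurd (List.contains_iff_mem.2 hb) (by rw [e]; simp)
    J_ne := fun j => (h.2 j.1 j.2).1.1.2
    orbit := fun j i hi i' hi' => by
      obtain ⟨n, -, hn⟩ := ((h.2 j.1 j.2).1.2 i hi).2 i' hi'
      exact ⟨n, by rw [hρ]; exact hn⟩
    flip := fun j r hr hin => by
      obtain ⟨⟨h1, -⟩, h2⟩ := (h.2 j.1 j.2).2 r hr.1
      rcases h2 with h2 | h2
      · exact absurd ((Weight.pos_iff hD hr.1).1 hr) (Nat.not_le.2 h2)
      · rw [if_pos ((inB_iff hr.1).2 hin), Bool.and_eq_true, decide_eq_true_eq] at h2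
        exact ⟨(Weight.neg_iff hD h1).2 h2.1, (inB_iff h1).1 h2.2⟩
    keep := fun j r hr hin => by
      obtain ⟨⟨h1, -⟩, h2⟩ := (h.2 j.1 j.2).2 r hr.1
      rcases h2 with h2 | h2
      · exact absurd ((Weight.pos_iff hD hr.1).1 hr) (Nat.not_le.2 h2)
      · rw [if_neg (fun e => hin ((inB_iff hr.1).1 e)), Bool.and_eq_true, decide_eq_true_eq,
          Bool.not_eq_true'] at h2
        exact ⟨(Weight.pos_iff hD h1).2 h2.1, fun e => absurd ((inB_iff h1).2 e) (by rw [h2.2]; simp)⟩
    invol := fun j r hr => ((h.2 j.1 j.2).2 r hr).1.2 }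

/-- the checks of orbits with levels -/
def orbitsOK (D : ChevalleyDatum) (G : Aut.GraphData) (m : ℤ) (lev : List ℕ) (top : ℕ) (reps : List ℕ)
    (free : List ℕ) : Bool :=
  ((List.range D.nroots).all fun r => decide (r < D.nroots / 2) ||
    (decide (lev.getD r 0 < top) && (lev.getD (Aut.gRoot G r) 0 == lev.getD r 0) &&
      (reps.any fun a => (List.range 4).any fun n => (Aut.gRoot G)^[n] a == r) &&
      (List.range D.nroots).all fun s => decide (s < D.nroots / 2) || (D.commTerms r s).all fun c =>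
        c.2.1 % m == 0 || (decide (lev.getD r 0 < lev.getD c.1 0) && decide (lev.getD s 0 < lev.getD c.1 0)))) &&
  (reps.all fun a => decide (D.nroots / 2 ≤ a) && decide (a < D.nroots) &&
    (free.contains a || ((Aut.gRoot G a == a) && (Aut.gSign G a == 1))))

/-- orbits from checked data -/
def mkOrbits {hD : D ∈ dataList} {S : Twist hD F} (G : Aut.GraphData) (hρ : S.ρ = Aut.gRoot G)
    (hc : S.c = fun r => (Aut.gSign G r : F)) {m : ℤ} (hm : (m : F) = 0) (lev : List ℕ) (top : ℕ) (reps : List ℕ)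
    (free : List ℕ) (h : orbitsOK D G m lev top reps free = true) : Orbits S := by
  simp only [orbitsOK, Bool.and_eq_true, List.all_eq_true, List.mem_range, Bool.or_eq_true, decide_eq_true_eq,
    beq_iff_eq, List.any_eq_true, List.contains_iff_mem] at h
  have hnp : ∀ {r}, D.IsPosRoot r → ¬ r < D.nroots / 2 := fun hr => Nat.not_lt.2 ((Weight.pos_iff hD hr.1).1 hr)
  exact
  { lev := fun r => lev.getD r 0
    top := top
    reps := reps
    free := fun a => free.contains a
    lev_lt := fun r hr => ((h.1 r hr.1).resolve_left (hnp hr)).1.1.1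
    lev_ρ := fun r hr => by rw [hρ]; exact ((h.1 r hr.1).resolve_left (hnp hr)).1.1.2
    lev_comm := fun r s hr hs c hcm h0 => by
      rcases ((((h.1 r hr.1).resolve_left (hnp hr)).2 s hs.1).resolve_left (hnp hs)) c hcm with e | e
      · exfalso
        refine h0 ?_
        rw [← Aut.cast_mod hm, e, Int.cast_zero]
      · exact e
    reps_pos := fun a ha => (Weight.pos_iff hD (h.2 a ha).1.2).2 (h.2 a ha).1.1
    cover := fun r hr => by
      obtain ⟨a, ha, n, -, hn⟩ := ((h.1 r hr.1).resolve_left (hnp hr)).1.2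
      exact ⟨a, ha, n, by rw [hρ]; exact hn⟩
    fixed := fun a ha hfree => by
      rcases (h.2 a ha).2 with e | e
      · simp [e] at hfree
      · exact ⟨by rw [hρ]; exact e.1, by rw [hc]; simp [e.2]⟩ }

/-- the check of one conjugation certificate -/
def certOK (D : ChevalleyDatum) (lev reps : List ℕ) (l : List ℕ) (pre : List ℕ) (r0 : ℕ) (post : List ℕ) (a : ℕ) :
    Bool :=
  decide (r0 < D.nroots) && (N.act D l r0 == a) && (pre ++ post).all fun e =>
    let s := N.act D l e
    decide (e < D.nroots) && decide (s < D.nroots) && decide (D.nroots / 2 ≤ s) &&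
      decide (lev.getD a 0 ≤ lev.getD s 0) && (!(lev.getD s 0 == lev.getD a 0) || !reps.contains s)

theorem fam_cert {hD : D ∈ dataList} {S : Twist hD F} (O : Orbits S) {T : Subgroup (GL D.Idx F)}
    (hT : T ≤ S.fix) (lev reps : List ℕ) (hlev : O.lev = fun r => lev.getD r 0)
    (hreps : O.reps = reps) {a : ℕ} (ha : a ∈ O.reps) {l : List ℕ} (hl : ∀ i ∈ l, i < D.rank)
    (hn : ∃ k ∈ D.diagonalSubgroup F, ∀ x ∈ T, N.nW hD F l * k * x * (N.nW hD F l * k)⁻¹ ∈ T)
    (pre post : List (ℕ × (F → F))) (r0 : ℕ)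
    (hok : certOK D lev reps l (pre.map Prod.fst) r0 (post.map Prod.fst) a = true)
    (hmem : ∀ s, O.Adm a s → Classes.prodE hD (pre ++ (r0, id) :: post) s ∈ T) :
    ∀ s, O.Adm a s → ∃ x ∈ T, x ∈ S.fix ∧ x ∈ RootGen.gen D F (O.PL D.IsPosRoot (O.lev a)) ∧
      coord hD x a = s ∧ ∀ b ∈ O.reps, b ≠ a → O.lev b = O.lev a → coord hD x b = 0 := by
  simp only [certOK, Bool.and_eq_true, decide_eq_true_eq, beq_iff_eq, List.all_eq_true, Bool.or_eq_true,
    Bool.not_eq_true', beq_eq_false_iff_ne, List.mem_append] at hok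
  refine Classes.fam_conj O hT ha hl hn pre post r0 hok.1.1 hmem hok.1.2 fun e he => ?_
  obtain ⟨⟨⟨⟨h1, h2⟩, h3⟩, h4⟩, h5⟩ := hok.2 e.1 (by
    rcases List.mem_append.1 he with h | h
    exacts [Or.inl (List.mem_map_of_mem h), Or.inr (List.mem_map_of_mem h)])
  rw [hlev, hreps]
  refine ⟨h1, (Weight.pos_iff hD h2).2 h3, h4, fun he' hin => ?_⟩
  rcases h5 with h5 | h5
  exacts [h5 he', by simp [hin] at h5]

/-- action agreement on fundamental roots -/
def sameB (D : ChevalleyDatum) (l m : List ℕ) : Bool :=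
  (List.range D.rank).all fun a => N.act D l (D.simple a) == N.act D m (D.simple a)

theorem same_of_sameB (hD : D ∈ dataList) {l m : List ℕ} (hl : ∀ i ∈ l, i < D.rank) (hm : ∀ i ∈ m, i < D.rank)
    (h : sameB D l m = true) : Weyl.Same D l m := by
  simp only [sameB, List.all_eq_true, List.mem_range, beq_iff_eq] at h
  have hm' : ∀ i ∈ m.reverse, i < D.rank := fun i hi => hm i (List.mem_reverse.1 hi)
  have hml : ∀ i ∈ m.reverse ++ l, i < D.rank := Weyl.mem_append_lt hm' hl
  have h0 := Weyl.same_nil_of_pos hD hml fun r hr => Weyl.pos_of_simple_pos hD hml hr fun a ha _ => by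
    rw [N.act_append, h a ha, Weyl.act_reverse_act hD hm (Rel.simple_lt hD ha)]
    exact N.simple_pos hD ha
  intro s hs
  have e := h0 s hs
  rw [N.act_append] at e
  refine BN.act_inj hD hm' (N.act_lt hD hl hs) (N.act_lt hD hm hs) ?_
  rw [Weyl.act_reverse_act hD hm hs]
  exact e

theorem sameB_of_same (hD : D ∈ dataList) {l m : List ℕ} (h : Weyl.Same D l m) : sameB D l m = true := by
  simp only [sameB, List.all_eq_true, List.mem_range, beq_iff_eq]
  exact fun a ha => h _ (Rel.simple_lt hD ha)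

/-- the trivial conjugation -/
theorem conj_nil (hD : D ∈ dataList) (T : Subgroup (GL D.Idx F)) :
    ∃ k ∈ D.diagonalSubgroup F, ∀ x ∈ T, N.nW hD F [] * k * x * (N.nW hD F [] * k)⁻¹ ∈ T :=
  ⟨1, one_mem _, fun x hx => by simpa [N.nW] using hx⟩

theorem sum_get {α : Type*} (l : List α) (f : α → ℕ) : ∑ i : Fin l.length, f (l.get i) = (l.map f).sum := by
  rw [← List.sum_ofFn]
  congr 1
  rw [← List.ofFn_getElem_eq_map]
  rfl

/-! ### words -/

/-- a word as an element of `GL` -/
noncomputable def wordG (hD : D ∈ dataList) (w : List (ℕ × F)) : GL D.Idx F :=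
  (w.map fun p => xGL hD F p.1 p.2).prod

theorem wordG_val (hD : D ∈ dataList) (w : List (ℕ × F)) :
    ((wordG hD w : GL D.Idx F) : Matrix D.Idx D.Idx F) = D.wordMat F w := by
  induction w with
  | nil => simp [wordG, ChevalleyDatum.wordMat]
  | cons p w ih =>
    simp only [wordG, List.map_cons, List.prod_cons, Units.val_mul] at ih ⊢
    rw [ih, xGL_val]
    simp [ChevalleyDatum.wordMat]

theorem wordG_mem (hD : D ∈ dataList) {W : Set (List (ℕ × F))} {w : List (ℕ × F)} (h : w ∈ W) :
    wordG hD w ∈ D.genSubgroup F W := Subgroup.subset_closure ⟨w, h, wordG_val hD w⟩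

theorem genSubgroup_le (hD : D ∈ dataList) {W : Set (List (ℕ × F))} {K : Subgroup (GL D.Idx F)}
    (h : ∀ w ∈ W, wordG hD w ∈ K) : D.genSubgroup F W ≤ K := by
  refine (Subgroup.closure_le _).2 ?_
  rintro g ⟨w, hw, hg⟩
  obtain rfl : g = wordG hD w := Units.ext (hg.trans (wordG_val hD w).symm)
  exact h w hw

theorem wordG_mem_group (hD : D ∈ dataList) (w : List (ℕ × F)) : wordG hD w ∈ D.group F :=
  Subgroup.list_prod_mem _ fun g hg => by
    obtain ⟨p, -, rfl⟩ := List.mem_map.1 hg
    exact xGL_mem_group hD _ _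

theorem wordG_pos (hD : D ∈ dataList) {w : List (ℕ × F)} (h : ∀ p ∈ w, D.IsPosRoot p.1) :
    wordG hD w ∈ D.posUnipotent F :=
  Subgroup.list_prod_mem _ fun g hg => by
    obtain ⟨p, hp, rfl⟩ := List.mem_map.1 hg
    exact xGL_mem_pos hD (h p hp) _

theorem wordG_neg (hD : D ∈ dataList) {w : List (ℕ × F)} (h : ∀ p ∈ w, D.IsNegRoot p.1) :
    wordG hD w ∈ D.negUnipotent F :=
  Subgroup.list_prod_mem _ fun g hg => by
    obtain ⟨p, hp, rfl⟩ := List.mem_map.1 hg
    exact xGL_mem_neg hD (h p hp) _

theorem Twist.sig_wordG {hD : D ∈ dataList} (S : Twist hD F) :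
    ∀ w : List (ℕ × F), (∀ p ∈ w, p.1 < D.nroots) →
      S.sig (wordG hD w) = wordG hD (w.map fun p => (S.ρ p.1, S.c p.1 * S.π p.1 p.2))
  | [], _ => by simp [wordG, S.sig_one]
  | p :: w, h => by
    have e : wordG hD (p :: w) = xGL hD F p.1 p.2 * wordG hD w := by simp [wordG]
    rw [e, S.sig_mul (xGL_mem_group hD _ _) (wordG_mem_group hD w),
      sig_wordG S w (fun q hq => h q (List.mem_cons_of_mem _ hq)), S.sig_x (h p List.mem_cons_self)]
    simp [wordG]

theorem commute_x (hD : D ∈ dataList) {r s : ℕ} (hr : r < D.nroots) (hs : s < D.nroots)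
    (hne : s ≠ D.neg r) (h : ∀ c ∈ D.commTerms r s, (c.2.1 : F) = 0) (t u : F) :
    Commute (xGL hD F r t) (xGL hD F s u) := by
  show _ * _ = _ * _
  by_cases hrs : s = r
  · subst hrs; rw [Rel.xGL_add hD hs, Rel.xGL_add hD hs, add_comm]
  have e := Rel.comm_GL hD hr hs hrs hne t u
  have hz : Rel.wordGL hD (D.commWord F r s t u) = 1 := by
    rw [Rel.wordGL]
    refine List.prod_eq_one fun x hx => ?_
    simp only [ChevalleyDatum.commWord, List.map_map, List.mem_map, Function.comp_apply] at hx
    obtain ⟨c, hc, rfl⟩ := hx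
    simp [h c hc, xGL_zero]
  rw [hz, mul_one] at e
  exact e.symm

/-- pairwise orthogonal roots: all root elements of `±r`, `±s` commute -/
def orthB (D : ChevalleyDatum) (m : ℤ) : List ℕ → Bool
  | [] => true
  | r :: R => decide (r < D.nroots) && (R.all fun s => decide (s < D.nroots) &&
      ([r, D.neg r].all fun a => [s, D.neg s].all fun b => b != D.neg a && b != a &&
        (D.commTerms a b).all fun c => c.2.1 % m == 0)) && orthB D m R

theorem orth_cons (hD : D ∈ dataList) {m : ℤ} (hm : (m : F) = 0) {r : ℕ} {R : List ℕ}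
    (h : orthB D m (r :: R) = true) :
    r < D.nroots ∧ orthB D m R = true ∧ ∀ s ∈ R, ∀ a ∈ [r, D.neg r], ∀ b ∈ [s, D.neg s], ∀ t u : F,
      Commute (xGL hD F a t) (xGL hD F b u) := by
  simp only [orthB, Bool.and_eq_true, decide_eq_true_eq, List.all_eq_true, bne_iff_ne, beq_iff_eq] at h
  refine ⟨h.1.1, h.2, fun s hs a ha b hb t u => ?_⟩
  have hlt : a < D.nroots ∧ b < D.nroots := by
    simp only [List.mem_cons, List.not_mem_nil, or_false] at ha hb
    have hs' := (h.1.2 s hs).1
    constructor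
    · rcases ha with rfl | rfl; exacts [h.1.1, Checks.neg_lt hD h.1.1]
    · rcases hb with rfl | rfl; exacts [hs', Checks.neg_lt hD hs']
  have h3 := (h.1.2 s hs).2 a ha b hb
  exact commute_x hD hlt.1 hlt.2 h3.1.1 (fun c hc => by rw [← Aut.cast_mod hm, h3.2 c hc, Int.cast_zero]) t u

theorem orth_prod (hD : D ∈ dataList) {m : ℤ} (hm : (m : F) = 0) :
    ∀ R : List ℕ, orthB D m R = true → ∀ f : ℕ → F,
      wordG hD (R.map fun r => (r, f r)) * wordG hD (R.map fun r => (D.neg r, -(f r)⁻¹)) *
        wordG hD (R.map fun r => (r, f r)) = (R.map fun r => nGL hD F r (f r)).prod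
  | [], _, _ => by simp [wordG]
  | r :: R, h, f => by
    obtain ⟨hr, hR, hc⟩ := orth_cons hD hm h
    have ih := orth_prod hD hm R hR f
    simp only [wordG, List.map_cons, List.prod_cons, List.map_map, Function.comp_def] at ih ⊢
    set A := (R.map fun x => xGL hD F x (f x)).prod
    set B := (R.map fun x => xGL hD F (D.neg x) (-(f x)⁻¹)).prod
    have c1 : Commute (xGL hD F (D.neg r) (-(f r)⁻¹)) A := Commute.list_prod_right _ _ fun y hy => by
      obtain ⟨s, hs, rfl⟩ := List.mem_map.1 hy
      exact hc s hs _ (by simp) _ (by simp) _ _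
    have c2 : Commute (xGL hD F r (f r)) (A * B) := Commute.mul_right
      (Commute.list_prod_right _ _ fun y hy => by
        obtain ⟨s, hs, rfl⟩ := List.mem_map.1 hy
        exact hc s hs _ (by simp) _ (by simp) _ _)
      (Commute.list_prod_right _ _ fun y hy => by
        obtain ⟨s, hs, rfl⟩ := List.mem_map.1 hy
        exact hc s hs _ (by simp) _ (by simp) _ _)
    rw [← ih, nGL]
    calc xGL hD F r (f r) * A * (xGL hD F (D.neg r) (-(f r)⁻¹) * B) * (xGL hD F r (f r) * A)
        = xGL hD F r (f r) * (A * xGL hD F (D.neg r) (-(f r)⁻¹)) * B * (xGL hD F r (f r) * A) := by group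
      _ = xGL hD F r (f r) * xGL hD F (D.neg r) (-(f r)⁻¹) * ((A * B) * xGL hD F r (f r)) * A := by
          rw [← c1.eq]; group
      _ = _ := by rw [← c2.eq]; group

theorem orth_hGL (hD : D ∈ dataList) {m : ℤ} (hm : (m : F) = 0) :
    ∀ R : List ℕ, orthB D m R = true → ∀ f : ℕ → F,
      (R.map fun r => nGL hD F r (f r)).prod * (R.map fun r => nGL hD F r (-1)).prod =
        (R.map fun r => hGL hD F r (f r)).prod
  | [], _, _ => by simp
  | r :: R, h, f => by
    obtain ⟨hr, hR, hc⟩ := orth_cons hD hm h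
    have c1 : Commute (R.map fun r => nGL hD F r (f r)).prod (nGL hD F r (-1)) :=
      Commute.list_prod_left _ _ fun y hy => by
        obtain ⟨s, hs, rfl⟩ := List.mem_map.1 hy
        refine Commute.mul_right (Commute.mul_right ?_ ?_) ?_ <;>
          refine Commute.mul_left (Commute.mul_left ?_ ?_) ?_ <;>
          exact (hc s hs _ (by simp) _ (by simp) _ _).symm
    rw [List.map_cons, List.map_cons, List.map_cons, List.prod_cons, List.prod_cons, List.prod_cons,
      ← orth_hGL hD hm R hR f, hGL]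
    calc _ = nGL hD F r (f r) * ((R.map fun r => nGL hD F r (f r)).prod * nGL hD F r (-1)) *
          (R.map fun r => nGL hD F r (-1)).prod := by group
      _ = _ := by rw [c1.eq]; group

/-- fixedness of an orthogonal product permuted by `ρ` -/
theorem orth_fixed {hD : D ∈ dataList} (S : Twist hD F) {m : ℤ} (hm : (m : F) = 0) {R : List ℕ}
    (hR : orthB D m R = true) (hperm : (R.map S.ρ).Perm R) (f : ℕ → F)
    (hf : ∀ r ∈ R, f (S.ρ r) = S.c r * S.π r (f r)) : wordG hD (R.map fun r => (r, f r)) ∈ S.fix := by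
  have hlt : ∀ R : List ℕ, orthB D m R = true → ∀ r ∈ R, r < D.nroots := by
    intro R
    induction R with
    | nil => intro _ r hr; simp at hr
    | cons a R ih =>
      intro h r hr
      obtain ⟨ha, hR', -⟩ := orth_cons hD hm h
      rcases List.mem_cons.1 hr with rfl | hr
      exacts [ha, ih hR' r hr]
  have hpw : ∀ R : List ℕ, orthB D m R = true →
      (R.map fun r => xGL hD F r (f r)).Pairwise Commute := by
    intro R
    induction R with
    | nil => intro _; simp
    | cons a R ih =>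
      intro h
      obtain ⟨-, hR', hc⟩ := orth_cons hD hm h
      refine List.pairwise_cons.2 ⟨fun y hy => ?_, ih hR'⟩
      obtain ⟨s, hs, rfl⟩ := List.mem_map.1 hy
      exact hc s hs _ (by simp) _ (by simp) _ _
  refine S.mem_fix.2 ⟨wordG_mem_group hD _, ?_⟩
  rw [S.sig_wordG _ (fun p hp => by
    obtain ⟨r, hr, rfl⟩ := List.mem_map.1 hp
    exact hlt R hR r hr)]
  simp only [wordG, List.map_map, Function.comp_def]
  have e : R.map (fun r => xGL hD F (S.ρ r) (S.c r * S.π r (f r))) = (R.map S.ρ).map fun r => xGL hD F r (f r) := by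
    rw [List.map_map]
    exact List.map_congr_left fun r hr => by simp only [Function.comp_apply]; rw [hf r hr]
  rw [e]
  exact (((hperm.map fun r => xGL hD F r (f r)).symm).prod_eq' (hpw R hR)).symm

theorem orth_lt (hD : D ∈ dataList) {m : ℤ} (hm : (m : F) = 0) :
    ∀ R : List ℕ, orthB D m R = true → ∀ r ∈ R, r < D.nroots
  | [], _, r, hr => by simp at hr
  | a :: R, h, r, hr => by
    obtain ⟨ha, hR', -⟩ := orth_cons hD hm h
    rcases List.mem_cons.1 hr with rfl | hr
    exacts [ha, orth_lt hD hm R hR' r hr]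

/-- products of root elements of an orthogonal class add -/
theorem orth_add (hD : D ∈ dataList) {m : ℤ} (hm : (m : F) = 0) :
    ∀ R : List ℕ, orthB D m R = true → ∀ f g : ℕ → F,
      wordG hD (R.map fun r => (r, f r)) * wordG hD (R.map fun r => (r, g r)) =
        wordG hD (R.map fun r => (r, f r + g r))
  | [], _, _, _ => by simp [wordG]
  | r :: R, h, f, g => by
    obtain ⟨hr, hR, hc⟩ := orth_cons hD hm h
    have ih := orth_add hD hm R hR f g
    simp only [wordG, List.map_cons, List.prod_cons, List.map_map, Function.comp_def] at ih ⊢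
    have c1 : Commute (R.map fun x => xGL hD F x (f x)).prod (xGL hD F r (g r)) :=
      Commute.list_prod_left _ _ fun y hy => by
        obtain ⟨s, hs, rfl⟩ := List.mem_map.1 hy
        exact (hc s hs _ (by simp) _ (by simp) _ _).symm
    rw [← ih, ← Rel.xGL_add hD hr]
    calc _ = xGL hD F r (f r) * ((R.map fun x => xGL hD F x (f x)).prod * xGL hD F r (g r)) *
          (R.map fun x => xGL hD F x (g x)).prod := by group
      _ = _ := by rw [c1.eq]; group

/-- conjugating a word by a torus element -/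
theorem wordG_torus (hD : D ∈ dataList) {h : GL D.Idx F} (χ : ℕ → F) :
    ∀ w : List (ℕ × F), (∀ p ∈ w, ∀ t, h * xGL hD F p.1 t * h⁻¹ = xGL hD F p.1 (χ p.1 * t)) →
      h * wordG hD w * h⁻¹ = wordG hD (w.map fun p => (p.1, χ p.1 * p.2))
  | [], _ => by simp [wordG]
  | p :: w, hc => by
    have ih := wordG_torus hD χ w fun q hq => hc q (List.mem_cons_of_mem _ hq)
    have e : wordG hD (p :: w) = xGL hD F p.1 p.2 * wordG hD w := by simp [wordG]
    rw [e, show h * (xGL hD F p.1 p.2 * wordG hD w) * h⁻¹ =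
      (h * xGL hD F p.1 p.2 * h⁻¹) * (h * wordG hD w * h⁻¹) by group, ih, hc p List.mem_cons_self]
    simp [wordG]

/-- a root element as a commutator inside a subgroup -/
theorem mem_comm_of_pair (hD : D ∈ dataList) {K : Subgroup (GL D.Idx F)} {r s p : ℕ} {M : ℤ} (hr : r < D.nroots)
    (hs : s < D.nroots) (hne : s ≠ r) (hneg : s ≠ D.neg r) (hT : D.commTerms r s = [(p, M, 1, 1)]) (t : F)
    (hu : xGL hD F r (-t / M) ∈ K) (hv : xGL hD F s 1 ∈ K) (hM : (M : F) ≠ 0) :
    xGL hD F p t ∈ ⁅K, K⁆ := by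
  have e := Rel.comm_GL hD hr hs hne hneg (-t / M) 1
  have hw : Rel.wordGL hD (D.commWord F r s (-t / M) 1) = xGL hD F p t := by
    simp only [Rel.wordGL, ChevalleyDatum.commWord, hT, List.map_cons, List.map_nil, List.prod_cons, List.prod_nil,
      mul_one, pow_one]
    congr 1
    field_simp
  rw [hw] at e
  have key : xGL hD F p t = ⁅(xGL hD F s 1)⁻¹, (xGL hD F r (-t / M))⁻¹⁆ := by
    rw [commutatorElement_def, inv_inv, inv_inv, mul_assoc _ (xGL hD F s 1), e]; group
  rw [key]
  exact Subgroup.commutator_mem_commutator (inv_mem hv) (inv_mem hu)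

/-- torus elements of an orthogonal class -/
theorem orth_torus_mem (hD : D ∈ dataList) {m : ℤ} (hm : (m : F) = 0) {R : List ℕ} (hR : orthB D m R = true)
    {T : Subgroup (GL D.Idx F)} (f : ℕ → F)
    (h1 : wordG hD (R.map fun r => (r, f r)) ∈ T) (h2 : wordG hD (R.map fun r => (D.neg r, -(f r)⁻¹)) ∈ T)
    (h3 : wordG hD (R.map fun r => (r, (-1 : F))) ∈ T) (h4 : wordG hD (R.map fun r => (D.neg r, (1 : F))) ∈ T) :
    (R.map fun r => hGL hD F r (f r)).prod ∈ T := by
  rw [← orth_hGL hD hm R hR f]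
  refine mul_mem ?_ ?_
  · rw [← orth_prod hD hm R hR f]; exact mul_mem (mul_mem h1 h2) h1
  · have e := orth_prod hD hm R hR fun _ => (-1 : F)
    simp only [inv_neg, inv_one, neg_neg] at e
    rw [← e]; exact mul_mem (mul_mem h3 h4) h3

/-- the torus map intertwines -/
theorem sig_torusHom {hD : D ∈ dataList} (S : Twist hD F) (src : Fin D.rank → Fin D.rank)
    (hsrc : ∀ i, S.ρ (D.simple (src i)) = D.simple i) (hbij : Function.Bijective src) (d : Fin D.rank → Fˣ) :
    S.sig (Torus.torusHom D F d) =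
      Torus.torusHom D F fun i => Units.map (S.π (D.simple (src i))).toMonoidHom (d (src i)) := by
  classical
  let g : Fin D.rank ≃ Fin D.rank := Equiv.ofBijective src hbij
  let τ : (Fin D.rank → Fˣ) →* (Fin D.rank → Fˣ) :=
    { toFun := fun d i => Units.map (S.π (D.simple (src i))).toMonoidHom (d (src i))
      map_one' := by funext i; simp
      map_mul' := fun a b => by funext i; simp }
  have hmem : ∀ d, Torus.torusHom D F d ∈ D.group F := fun d =>
    diagonal_le_group hD ((Torus.range_torusHom hD).le ⟨d, rfl⟩)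
  let f1 : (Fin D.rank → Fˣ) →* GL D.Idx F :=
    { toFun := fun d => S.sig (Torus.torusHom D F d)
      map_one' := by rw [map_one, S.sig_one]
      map_mul' := fun a b => by rw [map_mul, S.sig_mul (hmem a) (hmem b)] }
  suffices key : d ∈ MonoidHom.eqLocus f1 ((Torus.torusHom D F).comp τ) from key
  rw [← Finset.univ_prod_mulSingle d]
  refine Subgroup.prod_mem _ fun j _ => ?_
  have h1 : τ (Pi.mulSingle j (d j)) = Pi.mulSingle (g.symm j) (Units.map (S.π (D.simple j)).toMonoidHom (d j)) := by
    funext i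
    show Units.map (S.π (D.simple (src i))).toMonoidHom ((Pi.mulSingle (M := fun _ : Fin D.rank => Fˣ) j (d j)) (src i)) = _
    by_cases hij : src i = j
    · have : i = g.symm j := by rw [Equiv.eq_symm_apply]; exact hij
      subst this
      rw [hij, Pi.mulSingle_eq_same, Pi.mulSingle_eq_same]
    · have : i ≠ g.symm j := fun e => hij (by rw [e]; exact g.apply_symm_apply j)
      rw [Pi.mulSingle_eq_of_ne hij, Pi.mulSingle_eq_of_ne this, map_one]
  show S.sig (Torus.torusHom D F (Pi.mulSingle j (d j))) = Torus.torusHom D F (τ (Pi.mulSingle j (d j)))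
  rw [h1, Torus.torus_simple hD, Torus.torus_simple hD, S.sig_hGL (Rel.simple_lt hD j.2) (d j).ne_zero]
  have := hsrc (g.symm j)
  rw [show src (g.symm j) = j from g.apply_symm_apply j] at this
  rw [this]
  rfl

end CfsgLib.Chev.Twisted
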