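import Cfsg.Agent.Lib.Chev.Group.Canonical

/-! Coordinates on `U`, and sets of positive roots closed under the commutator terms surviving in the field. -/
set_option autoImplicit false
open Cfsg.Lie
open scoped Matrix MatrixGroups

namespace CfsgLib.Chev.Twisted

open CfsgLib.Chev CfsgLib.Chev.Checks CfsgLib.Chev.Basic

variable {D : ChevalleyDatum} {F : Type*} [Field F]

/-- closed under the commutator terms with a coefficient non-zero in the field -/
structure Cl (D : ChevalleyDatum) (F : Type*) [Field F] (P : ℕ → Prop) : Prop where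
  pos : ∀ r, P r → D.IsPosRoot r
  comm : ∀ r s, P r → P s → ∀ c ∈ D.commTerms r s, (c.2.1 : F) ≠ 0 → P c.1

/-- `r` is not produced by commutators inside `P` -/
def Lead (D : ChevalleyDatum) (F : Type*) [Field F] (P : ℕ → Prop) (r : ℕ) : Prop :=
  ∀ a b, P a → P b → ∀ c ∈ D.commTerms a b, (c.2.1 : F) ≠ 0 → c.1 ≠ r

theorem cl_of_closed {P : ℕ → Prop} (h : Canonical.Closed D P) : Cl D F P :=
  ⟨h.pos, fun r s hr hs c hc _ => h.comm r s hr hs c hc⟩

theorem cl_and {P Q : ℕ → Prop} (hP : Cl D F P) (hQ : Cl D F Q) : Cl D F fun r => P r ∧ Q r :=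
  ⟨fun r h => hP.pos r h.1, fun r s hr hs c hc h0 => ⟨hP.comm r s hr.1 hs.1 c hc h0, hQ.comm r s hr.2 hs.2 c hc h0⟩⟩

theorem cl_pos (hD : D ∈ dataList) : Cl D F D.IsPosRoot :=
  ⟨fun _ h => h, fun _ _ hr hs _ hc _ => (Weight.commTerms_pos hD hr hs hc).1⟩

theorem root_le_normalizer (hD : D ∈ dataList) {P : ℕ → Prop} {r : ℕ} (hr : r < D.nroots)
    (hP : ∀ s, P s → s < D.nroots ∧ s ≠ D.neg r ∧ ∀ c ∈ D.commTerms r s, (c.2.1 : F) ≠ 0 → P c.1) :
    D.rootSubgroup F r ≤ Subgroup.normalizer (RootGen.gen D F P : Set (GL D.Idx F)) := by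
  refine BH.normalizer_closure_le fun g hg x hx => ?_
  obtain ⟨s, u, hs, hxs⟩ := hx
  obtain rfl : x = xGL hD F s u := Units.ext hxs
  obtain ⟨t, rfl⟩ := (Rel.mem_rootSubgroup hD hr).1 hg
  obtain ⟨hsl, hne, hcl⟩ := hP s hs
  by_cases hsr : s = r
  · subst hsr
    rw [Rel.xGL_add hD hr, Rel.xGL_inv hD hr, Rel.xGL_add hD hr]
    exact RootGen.xGL_mem_gen hD hs _
  have h := Rel.comm_GL hD hr hsl hsr hne (-t) u
  rw [← Rel.xGL_inv hD hr] at h
  have e : xGL hD F r t * xGL hD F s u * (xGL hD F r t)⁻¹ =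
      xGL hD F s u * Rel.wordGL hD (D.commWord F r s (-t) u) := by
    rw [mul_assoc, h]; group
  rw [e]
  refine mul_mem (RootGen.xGL_mem_gen hD hs _) (Subgroup.list_prod_mem _ fun y hy => ?_)
  obtain ⟨p, hp, rfl⟩ := List.mem_map.1 hy
  obtain ⟨c, hc, rfl⟩ := List.mem_map.1 hp
  by_cases h0 : (c.2.1 : F) = 0
  · simp only [h0, zero_mul, xGL_zero]; exact one_mem _
  · exact RootGen.xGL_mem_gen hD (hcl c hc h0) _

theorem gen_exists_prod (hD : D ∈ dataList) {P : ℕ → Prop} (hP : Cl D F P) :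
    ∀ (n k : ℕ), D.nroots / 2 ≤ k → k + n = D.nroots → ∀ g ∈ RootGen.gen D F (fun r => P r ∧ k ≤ r),
      ∃ t : ℕ → F, (∀ r, ¬ P r → t r = 0) ∧ g = U.prodL hD t (List.range' k n) := by
  classical
  intro n
  induction n with
  | zero =>
    intro k _ hk g hg
    have : g ∈ (⊥ : Subgroup (GL D.Idx F)) := RootGen.gen_le hD (fun s hs t => by
      have := (hP.pos s hs.1).1; have := hs.2; omega) hg
    exact ⟨0, fun _ _ => rfl, by simp [Subgroup.mem_bot.1 this, U.prodL]⟩
  | succ n ih =>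
    intro k hk hkn g hg
    obtain ⟨a, v, hv, rfl, ha⟩ : ∃ a, ∃ v ∈ RootGen.gen D F (fun r => P r ∧ k + 1 ≤ r),
        g = xGL hD F k a * v ∧ (¬ P k → a = 0) := by
      by_cases h : P k
      · have hkl := (hP.pos k h).1
        have hle : (RootGen.gen D F fun r => P r ∧ k ≤ r) ≤
            D.rootSubgroup F k ⊔ RootGen.gen D F (fun r => P r ∧ k + 1 ≤ r) := RootGen.gen_le hD fun s hs t => by
          by_cases he : s = k
          · subst he; exact Subgroup.mem_sup_left (BN.xGL_mem_root hD hkl t)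
          · exact Subgroup.mem_sup_right
              (RootGen.xGL_mem_gen hD (show P s ∧ k + 1 ≤ s from ⟨hs.1, by have := hs.2; omega⟩) t)
        have hnorm : D.rootSubgroup F k ≤
            Subgroup.normalizer (RootGen.gen D F (fun r => P r ∧ k + 1 ≤ r) : Set (GL D.Idx F)) := by
          refine root_le_normalizer hD hkl fun s hs => ⟨(hP.pos s hs.1).1, fun e => ?_, fun c hc h0 => ?_⟩
          · exact N.not_pos_neg hD (hP.pos k h) (e ▸ hP.pos s hs.1)
          · obtain ⟨-, hc1, -⟩ := Weight.commTerms_pos hD (hP.pos k h) (hP.pos s hs.1) hc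
            exact ⟨hP.comm k s h hs.1 c hc h0, by omega⟩
        have hg' := hle hg
        rw [← SetLike.mem_coe, Subgroup.coe_mul_of_left_le_normalizer_right _ _ hnorm] at hg'
        obtain ⟨x, hx, v, hv, rfl⟩ := Set.mem_mul.1 hg'
        obtain ⟨t, rfl⟩ := (Rel.mem_rootSubgroup hD hkl).1 hx
        exact ⟨t, v, hv, rfl, fun h' => absurd h h'⟩
      · refine ⟨0, g, RootGen.gen_le hD (fun s hs t => RootGen.xGL_mem_gen hD ⟨hs.1, ?_⟩ t) hg, by
          rw [xGL_zero, one_mul], fun _ => rfl⟩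
        rcases eq_or_lt_of_le hs.2 with e | e
        · exact absurd (e ▸ hs.1) h
        · exact e
    obtain ⟨t, ht, rfl⟩ := ih (k + 1) (by omega) (by omega) v hv
    refine ⟨Function.update t k a, fun r hr => ?_, ?_⟩
    · by_cases h : r = k
      · subst h; rw [Function.update_self]; exact ha hr
      · rw [Function.update_of_ne h]; exact ht r hr
    · rw [List.range'_succ, U.prodL_cons, Function.update_self]
      congr 1
      refine U.prodL_congr hD fun r hr => ?_
      rw [List.mem_range'_1] at hr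
      rw [Function.update_of_ne (by omega)]

theorem gen_le_pos (hD : D ∈ dataList) {P : ℕ → Prop} (hP : Cl D F P) : RootGen.gen D F P ≤ D.posUnipotent F :=
  RootGen.gen_le hD fun r hr t => xGL_mem_pos hD (hP.pos r hr) t

open scoped Classical in
/-- the coordinates of an element of `U` -/
noncomputable def coord (hD : D ∈ dataList) (g : GL D.Idx F) : ℕ → F :=
  if h : g ∈ D.posUnipotent F then (U.exists_unique_prod hD h).choose else fun _ => 0

theorem coord_spec (hD : D ∈ dataList) {g : GL D.Idx F} (hg : g ∈ D.posUnipotent F) :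
    (∀ r, ¬ D.IsPosRoot r → coord hD g r = 0) ∧ g = U.prodL hD (coord hD g) D.posRoots := by
  rw [coord, dif_pos hg]
  exact (U.exists_unique_prod hD hg).choose_spec.1

theorem coord_eq (hD : D ∈ dataList) {g : GL D.Idx F} {t : ℕ → F} (h0 : ∀ r, ¬ D.IsPosRoot r → t r = 0)
    (h : g = U.prodL hD t D.posRoots) : coord hD g = t := by
  have hg : g ∈ D.posUnipotent F := h ▸ U.prodL_mem_pos hD t
  obtain ⟨w, -, hu⟩ := U.exists_unique_prod hD hg
  exact (hu _ (coord_spec hD hg)).trans (hu t ⟨h0, h⟩).symm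

theorem coord_off (hD : D ∈ dataList) {P : ℕ → Prop} (hP : Cl D F P) {g : GL D.Idx F}
    (hg : g ∈ RootGen.gen D F P) {r : ℕ} (hr : ¬ P r) : coord hD g r = 0 := by
  obtain ⟨t, ht, he⟩ := gen_exists_prod hD hP (D.nroots - D.nroots / 2) (D.nroots / 2) le_rfl (by omega) g
    (RootGen.gen_mono (fun s hs => ⟨hs, (Weight.pos_iff hD (hP.pos s hs).1).1 (hP.pos s hs)⟩) hg)
  rw [← U.posRoots_eq hD] at he
  rw [coord_eq hD (fun s hs => ht s fun h => hs (hP.pos s h)) he]
  exact ht r hr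

theorem mem_gen_of_coord (hD : D ∈ dataList) {P : ℕ → Prop} {g : GL D.Idx F} (hg : g ∈ D.posUnipotent F)
    (h : ∀ r, ¬ P r → coord hD g r = 0) : g ∈ RootGen.gen D F P := by
  rw [(coord_spec hD hg).2]
  refine Subgroup.list_prod_mem _ fun y hy => ?_
  obtain ⟨r, -, rfl⟩ := List.mem_map.1 hy
  by_cases hr : P r
  · exact RootGen.xGL_mem_gen hD hr _
  · rw [h r hr, xGL_zero]; exact one_mem _

theorem mem_gen_iff (hD : D ∈ dataList) {P : ℕ → Prop} (hP : Cl D F P) {g : GL D.Idx F} :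
    g ∈ RootGen.gen D F P ↔ g ∈ D.posUnipotent F ∧ ∀ r, ¬ P r → coord hD g r = 0 :=
  ⟨fun h => ⟨gen_le_pos hD hP h, fun _ hr => coord_off hD hP h hr⟩, fun h => mem_gen_of_coord hD h.1 h.2⟩

theorem eq_one_of_coord (hD : D ∈ dataList) {g : GL D.Idx F} (hg : g ∈ D.posUnipotent F)
    (h : ∀ r, D.IsPosRoot r → coord hD g r = 0) : g = 1 := by
  rw [(coord_spec hD hg).2]
  refine List.prod_eq_one fun y hy => ?_
  obtain ⟨r, hr, rfl⟩ := List.mem_map.1 hy
  rw [ChevalleyDatum.posRoots, List.mem_filter, decide_eq_true_eq] at hr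
  rw [h r hr.2, xGL_zero]

theorem coord_one (hD : D ∈ dataList) (r : ℕ) : coord hD (1 : GL D.Idx F) r = 0 := by
  rw [coord_eq hD (t := fun _ => 0) (fun _ _ => rfl) (by simp [U.prodL, xGL_zero])]

theorem prodL_single (hD : D ∈ dataList) {t : ℕ → F} {r : ℕ} :
    ∀ {l : List ℕ}, r ∈ l → l.Nodup → (∀ s, s ≠ r → t s = 0) → U.prodL hD t l = xGL hD F r (t r) := by
  intro l
  induction l with
  | nil => intro h; simp at h
  | cons a l ih =>
    intro hr hnd h0
    rw [List.nodup_cons] at hnd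
    rw [U.prodL_cons]
    by_cases ha : a = r
    · subst ha
      have : U.prodL hD t l = 1 := List.prod_eq_one fun y hy => by
        obtain ⟨s, hs, rfl⟩ := List.mem_map.1 hy
        rw [h0 s (fun e => hnd.1 (e ▸ hs)), xGL_zero]
      rw [this, mul_one]
    · rw [h0 a ha, xGL_zero, one_mul]
      exact ih ((List.mem_cons.1 hr).resolve_left (Ne.symm ha)) hnd.2 h0

theorem coord_x (hD : D ∈ dataList) {r : ℕ} (hr : D.IsPosRoot r) (t : F) (s : ℕ) :
    coord hD (xGL hD F r t) s = if s = r then t else 0 := by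
  rw [coord_eq hD (t := fun s => if s = r then t else 0)]
  · intro s hs; rw [if_neg]; exact fun e => hs (e ▸ hr)
  · rw [prodL_single hD (r := r) (l := D.posRoots) (by simp [ChevalleyDatum.posRoots, hr.1, hr])
      ((List.nodup_range).filter _) (fun s hs => if_neg hs)]
    simp

section Leading

variable {P : ℕ → Prop} {r : ℕ} (hD : D ∈ dataList) (hP : Cl D F P) (hr : P r) (hlead : Lead D F P r)
include hP hlead

theorem cl_erase : Cl D F fun s => P s ∧ s ≠ r :=
  ⟨fun s h => hP.pos s h.1, fun a b ha hb c hc h0 => ⟨hP.comm a b ha.1 hb.1 c hc h0, hlead a b ha.1 hb.1 c hc h0⟩⟩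

include hD hr

theorem lead_normalizer : D.rootSubgroup F r ≤
    Subgroup.normalizer (RootGen.gen D F (fun s => P s ∧ s ≠ r) : Set (GL D.Idx F)) :=
  root_le_normalizer hD (hP.pos r hr).1 fun s hs => ⟨(hP.pos s hs.1).1,
    fun e => N.not_pos_neg hD (hP.pos r hr) (e ▸ hP.pos s hs.1),
    fun c hc h0 => ⟨hP.comm r s hr hs.1 c hc h0, hlead r s hr hs.1 c hc h0⟩⟩

theorem lead_conj (t : F) {q : GL D.Idx F} (hq : q ∈ RootGen.gen D F (fun s => P s ∧ s ≠ r)) :
    xGL hD F r t * q * (xGL hD F r t)⁻¹ ∈ RootGen.gen D F (fun s => P s ∧ s ≠ r) :=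
  (Subgroup.mem_normalizer_iff.1 (lead_normalizer hD hP hr hlead (BN.xGL_mem_root hD (hP.pos r hr).1 t)) q).1 hq

/-- the leading coordinate -/
theorem coord_lead {s : F} {q : GL D.Idx F} (hq : q ∈ RootGen.gen D F (fun s => P s ∧ s ≠ r)) :
    coord hD (xGL hD F r s * q) r = s := by
  have hQ := cl_erase hP hlead
  set g := xGL hD F r s * q with hg
  have hgP : g ∈ RootGen.gen D F P :=
    mul_mem (RootGen.xGL_mem_gen hD hr _) (RootGen.gen_mono (fun _ h => h.1) hq)
  have hgU := gen_le_pos hD hP hgP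
  obtain ⟨h0, he⟩ := coord_spec hD hgU
  set t := coord hD g
  have hmem : ∀ l : List ℕ, (∀ a ∈ l, a ≠ r) → U.prodL hD t l ∈ RootGen.gen D F (fun s => P s ∧ s ≠ r) := by
    intro l hl
    refine Subgroup.list_prod_mem _ fun y hy => ?_
    obtain ⟨a, ha, rfl⟩ := List.mem_map.1 hy
    by_cases hPa : P a
    · exact RootGen.xGL_mem_gen hD (show P a ∧ a ≠ r from ⟨hPa, hl a ha⟩) _
    · rw [show t a = 0 from coord_off hD hP hgP hPa, xGL_zero]; exact one_mem _
  have hrl : r ∈ D.posRoots := by simp [ChevalleyDatum.posRoots, (hP.pos r hr).1, hP.pos r hr]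
  have hnd : D.posRoots.Nodup := List.nodup_range.filter _
  obtain ⟨l1, l2, hl⟩ := List.append_of_mem hrl
  rw [hl] at hnd
  have hd := List.nodup_append.1 hnd
  have m1 := hmem l1 fun a ha e => hd.2.2 a ha r List.mem_cons_self e
  have m2 := hmem l2 fun a ha e => (List.nodup_cons.1 hd.2.1).1 (e ▸ ha)
  have e2 : g = U.prodL hD t l1 * (xGL hD F r (t r) * U.prodL hD t l2) := by
    rw [he, hl]; simp [U.prodL]
  have hmem2 : xGL hD F r (-(t r)) * xGL hD F r s ∈ RootGen.gen D F (fun s => P s ∧ s ≠ r) := by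
    have e3 : xGL hD F r (-(t r)) * xGL hD F r s =
        (xGL hD F r (-(t r)) * U.prodL hD t l1 * (xGL hD F r (-(t r)))⁻¹) * U.prodL hD t l2 * q⁻¹ := by
      have : xGL hD F r s = U.prodL hD t l1 * (xGL hD F r (t r) * U.prodL hD t l2) * q⁻¹ := by
        rw [← e2, hg]; group
      rw [this, Rel.xGL_inv hD (hP.pos r hr).1, neg_neg]; group
    rw [e3]
    exact mul_mem (mul_mem (lead_conj hD hP hr hlead _ m1) m2) (inv_mem hq)
  rw [Rel.xGL_add hD (hP.pos r hr).1] at hmem2
  have h5 := coord_off hD hQ hmem2 (r := r) fun h => h.2 rfl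
  rw [coord_x hD (hP.pos r hr), if_pos rfl] at h5
  linear_combination -h5

theorem lead_decomp {g : GL D.Idx F} (hg : g ∈ RootGen.gen D F P) :
    ∃ q ∈ RootGen.gen D F (fun s => P s ∧ s ≠ r), g = xGL hD F r (coord hD g r) * q := by
  have hle : RootGen.gen D F P ≤ D.rootSubgroup F r ⊔ RootGen.gen D F (fun s => P s ∧ s ≠ r) :=
    RootGen.gen_le hD fun s hs t => by
      by_cases h : s = r
      · subst h; exact Subgroup.mem_sup_left (BN.xGL_mem_root hD (hP.pos s hr).1 t)
      · exact Subgroup.mem_sup_right (RootGen.xGL_mem_gen hD (show P s ∧ s ≠ r from ⟨hs, h⟩) t)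
  have h := hle hg
  rw [← SetLike.mem_coe, Subgroup.coe_mul_of_left_le_normalizer_right _ _ (lead_normalizer hD hP hr hlead)] at h
  obtain ⟨x, hx, v, hv, rfl⟩ := Set.mem_mul.1 h
  obtain ⟨t, rfl⟩ := (Rel.mem_rootSubgroup hD (hP.pos r hr).1).1 hx
  exact ⟨v, hv, by rw [coord_lead hD hP hr hlead hv]⟩

theorem coord_mul {a b : GL D.Idx F} (ha : a ∈ RootGen.gen D F P) (hb : b ∈ RootGen.gen D F P) :
    coord hD (a * b) r = coord hD a r + coord hD b r := by
  obtain ⟨q, hq, ea⟩ := lead_decomp hD hP hr hlead ha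
  obtain ⟨q', hq', eb⟩ := lead_decomp hD hP hr hlead hb
  set s := coord hD a r
  set s' := coord hD b r
  have e : a * b = xGL hD F r (s + s') *
      ((xGL hD F r (-s') * q * (xGL hD F r (-s'))⁻¹) * q') := by
    rw [ea, eb, Rel.xGL_inv hD (hP.pos r hr).1, neg_neg, ← Rel.xGL_add hD (hP.pos r hr).1,
      ← Rel.xGL_inv hD (hP.pos r hr).1 s']
    group
  rw [e]
  exact coord_lead hD hP hr hlead (mul_mem (lead_conj hD hP hr hlead _ hq) hq')

theorem coord_inv {a : GL D.Idx F} (ha : a ∈ RootGen.gen D F P) : coord hD a⁻¹ r = -coord hD a r := by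
  have h := coord_mul hD hP hr hlead (inv_mem ha) ha
  rw [inv_mul_cancel, coord_one] at h
  linear_combination -h

theorem coord_list_prod {L : List (GL D.Idx F)} (hL : ∀ a ∈ L, a ∈ RootGen.gen D F P) :
    coord hD L.prod r = (L.map fun a => coord hD a r).sum := by
  induction L with
  | nil => simp [coord_one]
  | cons a L ih =>
    rw [List.prod_cons, coord_mul hD hP hr hlead (hL a List.mem_cons_self)
      (Subgroup.list_prod_mem _ fun x hx => hL x (List.mem_cons_of_mem _ hx)),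
      ih fun x hx => hL x (List.mem_cons_of_mem _ hx), List.map_cons, List.sum_cons]

end Leading

end CfsgLib.Chev.Twisted
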