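import Cfsg.Agent.Lib.Chev.Twisted.Structure
import Cfsg.Agent.Lib.BNPair.Parabolic

/-! Order, perfectness criterion and transfer to a subgroup equal to the fixed group. -/
set_option autoImplicit false
open Cfsg.Lie
open scoped Matrix MatrixGroups

namespace CfsgLib.Chev.Twisted

open CfsgLib.Chev CfsgLib.Chev.Checks CfsgLib.Chev.Basic

variable {D : ChevalleyDatum} {F : Type*} [Field F] {hD : D ∈ dataList}

namespace Setup

variable {S : Twist hD F} (E : Setup S)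

/-- a list of words meeting every element of the twisted Weyl group once -/
structure WeylList where
  Ls : List (List (Fin E.C.k))
  nil : ∃ i : Fin Ls.length, Weyl.Same D (E.C.flat (Ls.get i)) []
  closed : ∀ (i : Fin Ls.length) (j : Fin E.C.k), ∃ i' : Fin Ls.length,
    Weyl.Same D (E.C.w j ++ E.C.flat (Ls.get i)) (E.C.flat (Ls.get i'))
  dist : ∀ i i' : Fin Ls.length, Weyl.Same D (E.C.flat (Ls.get i)) (E.C.flat (Ls.get i')) → i = i'

theorem WeylList.complete (W : E.WeylList) :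
    ∀ L, ∃ i : Fin W.Ls.length, Weyl.Same D (E.C.flat L) (E.C.flat (W.Ls.get i))
  | [] => by
    obtain ⟨i, hi⟩ := W.nil
    exact ⟨i, fun s hs => (hi s hs).symm⟩
  | j :: L => by
    obtain ⟨i, hi⟩ := complete W L
    obtain ⟨i', hi'⟩ := W.closed i j
    exact ⟨i', fun s hs => by rw [Classes.flat_cons, N.act_append, hi s hs, ← N.act_append, hi' s hs]⟩

theorem card_fix [Finite F] (W : E.WeylList) :
    Nat.card ↥S.fix = Nat.card ↥(S.fix ⊓ D.posUnipotent F) * Nat.card ↥(S.fix ⊓ D.diagonalSubgroup F) *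
      ∑ i : Fin W.Ls.length, Nat.card ↥(S.fix ⊓ RootGen.gen D F (Canonical.Minus D (E.C.flat (W.Ls.get i)))) := by
  classical
  let c := fun i : Fin W.Ls.length => (E.C.word_lift E.lift (W.Ls.get i)).choose
  have hc : ∀ i, c i ∈ D.diagonalSubgroup F := fun i => (E.C.word_lift E.lift (W.Ls.get i)).choose_spec.1
  have hn : ∀ i, N.nW hD F (E.C.flat (W.Ls.get i)) * c i ∈ S.fix := fun i =>
    (E.C.word_lift E.lift (W.Ls.get i)).choose_spec.2
  let Φ : (Σ i : Fin W.Ls.length, (↥(S.fix ⊓ D.posUnipotent F) × ↥(S.fix ⊓ D.diagonalSubgroup F)) ×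
      ↥(S.fix ⊓ RootGen.gen D F (Canonical.Minus D (E.C.flat (W.Ls.get i))))) → ↥S.fix := fun x =>
    ⟨(x.2.1.1 : GL D.Idx F) * (N.nW hD F (E.C.flat (W.Ls.get x.1)) * c x.1 * x.2.1.2) * x.2.2,
      mul_mem (mul_mem x.2.1.1.2.1 (mul_mem (hn x.1) x.2.1.2.2.1)) x.2.2.2.1⟩
  have hQ : ∀ l, RootGen.gen D F (Canonical.Minus D l) ≤ D.borelSubgroup F := fun l =>
    RootGen.gen_le hD fun r hr t => BN.mem_borel_of_pos hD hr.1 t
  have hbij : Function.Bijective Φ := by
    constructor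
    · rintro ⟨i, ⟨⟨v, hv⟩, ⟨h, hh⟩⟩, ⟨u, hu⟩⟩ ⟨i', ⟨⟨v', hv'⟩, ⟨h', hh'⟩⟩, ⟨u', hu'⟩⟩ he
      have he' : v * (N.nW hD F (E.C.flat (W.Ls.get i)) * c i * h) * u =
          v' * (N.nW hD F (E.C.flat (W.Ls.get i')) * c i' * h') * u' := congrArg Subtype.val he
      have hl := E.C.flat_lt (W.Ls.get i)
      have hl' := E.C.flat_lt (W.Ls.get i')
      have hk : c i * h ∈ D.diagonalSubgroup F := mul_mem (hc i) hh.2
      have hk' : c i' * h' ∈ D.diagonalSubgroup F := mul_mem (hc i') hh'.2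
      rw [mul_assoc (N.nW hD F (E.C.flat (W.Ls.get i))), mul_assoc (N.nW hD F (E.C.flat (W.Ls.get i')))] at he'
      have hH := Canonical.cell_unique hD (Subgroup.mem_sup_left hv.2) (Subgroup.mem_sup_left hv'.2)
        (mul_mem (N.nW_mem hD hl) (Subgroup.mem_sup_left hk)) (mul_mem (N.nW_mem hD hl') (Subgroup.mem_sup_left hk'))
        (hQ _ hu.2) (hQ _ hu'.2) he'
      have hsame : Weyl.Same D (E.C.flat (W.Ls.get i')) (E.C.flat (W.Ls.get i)) := fun s hs =>
        N.act_congr (F := F) hD hl' hl (h := c i * h * ((N.nW hD F (E.C.flat (W.Ls.get i)) * (c i * h))⁻¹ *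
            (N.nW hD F (E.C.flat (W.Ls.get i')) * (c i' * h'))) * (c i' * h')⁻¹)
          (mul_mem (mul_mem hk hH) (inv_mem hk')) (by group) hs
      obtain rfl := W.dist _ _ hsame
      obtain ⟨e1, e2⟩ := Canonical.minus_inj hD hl (one_mem (D.diagonalSubgroup F))
        (b := v * (N.nW hD F (E.C.flat (W.Ls.get i')) * (c i' * h) * (N.nW hD F (E.C.flat (W.Ls.get i')))⁻¹))
        (b' := v' * (N.nW hD F (E.C.flat (W.Ls.get i')) * (c i' * h') * (N.nW hD F (E.C.flat (W.Ls.get i')))⁻¹))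
        (mul_mem (Subgroup.mem_sup_left hv.2) (Subgroup.mem_sup_right (N.nW_diag hD hl hk)))
        (mul_mem (Subgroup.mem_sup_left hv'.2) (Subgroup.mem_sup_right (N.nW_diag hD hl hk')))
        hu.2 hu'.2 (by rw [mul_one]; convert he' using 1 <;> group)
      have h3 := Subgroup.mul_injective_of_disjoint (disjoint_iff.2 (BH.pos_inf_diagonal hD))
        (a₁ := (⟨v, hv.2⟩, ⟨_, N.nW_diag hD hl hk⟩)) (a₂ := (⟨v', hv'.2⟩, ⟨_, N.nW_diag hD hl hk'⟩)) e1
      obtain rfl : v = v' := congrArg (fun x => (x.1 : GL D.Idx F)) h3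
      obtain rfl : h = h' := mul_left_cancel (mul_left_cancel (mul_right_cancel
        (congrArg (fun x => (x.2 : GL D.Idx F)) h3)))
      obtain rfl := e2
      rfl
    · intro g
      obtain ⟨v, hv, hvf, l, hl, k, hk, hmf, u, hu, huf, e⟩ := S.fix_form g.2
      obtain ⟨L, hL⟩ := E.C.exists_flat (E.C.comm_class E.lift le_rfl) l hl (S.comm_of_fix hl hk hmf)
      obtain ⟨i, hi⟩ := W.complete E L
      have hs : Weyl.Same D l (E.C.flat (W.Ls.get i)) := fun s hs => (hL s hs).trans (hi s hs)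
      have hh : (N.nW hD F (E.C.flat (W.Ls.get i)) * c i)⁻¹ * (N.nW hD F l * k) ∈ D.diagonalSubgroup F := by
        rw [show (N.nW hD F (E.C.flat (W.Ls.get i)) * c i)⁻¹ * (N.nW hD F l * k) =
          (c i)⁻¹ * ((N.nW hD F (E.C.flat (W.Ls.get i)))⁻¹ * N.nW hD F l) * k by group]
        exact mul_mem (mul_mem (inv_mem (hc i)) (Classes.coset_of_same hD hl (E.C.flat_lt _) hs)) hk
      refine ⟨⟨i, (⟨v, hvf, hv⟩, ⟨_, Subgroup.mem_inf.2 ⟨mul_mem (inv_mem (hn i)) hmf, hh⟩⟩),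
        ⟨u, huf, RootGen.gen_mono (fun r hr => ⟨hr.1, hs r hr.1.1 ▸ hr.2⟩) hu⟩⟩, Subtype.ext ?_⟩
      show v * (N.nW hD F (E.C.flat (W.Ls.get i)) * c i *
        ((N.nW hD F (E.C.flat (W.Ls.get i)) * c i)⁻¹ * (N.nW hD F l * k))) * u = g
      rw [e]; group
  rw [← Nat.card_congr (Equiv.ofBijective Φ hbij), Nat.card_sigma, Finset.mul_sum]
  exact Finset.sum_congr rfl fun i _ => by rw [Nat.card_prod, Nat.card_prod]

/-- every representative lies in a subgroup containing the fixed parts of `U` and `V` -/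
theorem lift_mem_closure (j : Fin E.C.k) {M : Subgroup (GL D.Idx F)}
    (hU : ∀ g ∈ D.posUnipotent F, g ∈ S.fix → g ∈ M) (hV : ∀ g ∈ D.negUnipotent F, g ∈ S.fix → g ∈ M)
    (hM : M ≤ S.fix) : ∃ k ∈ D.diagonalSubgroup F, N.nW hD F (E.C.w j) * k ∈ M := by
  obtain ⟨i, hi⟩ := List.exists_mem_of_ne_nil _ (E.C.J_ne j)
  obtain ⟨x, hx, hxf, hne⟩ := E.exists_moved j hi fun a _ => E.adm_one a
  have hw := E.C.w_lt j
  obtain ⟨p, hp, hpf, q, hq, hqf, e⟩ := S.split_fix hw (E.C.comm_class E.lift le_rfl j) hx hxf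
  set v := E.n j * q * (E.n j)⁻¹ with hv
  have hvn : v ∈ RootGen.gen D F fun r => D.IsNegRoot r ∧ E.C.In j r :=
    Canonical.conj_gen hD hw (E.n_diag j) (fun r hr => hr.1.1) (fun r hr t => by
      obtain ⟨h1, h2⟩ := (E.C.minus_iff j r).1 hr
      exact RootGen.xGL_mem_gen hD (E.C.flip j r h1 h2) t) hq
  have hvf : v ∈ S.fix := mul_mem (mul_mem (E.n_fix j) hqf) (inv_mem (E.n_fix j))
  have hv1 : v ≠ 1 := fun h => hne (by
    rw [hv, conj_eq_one_iff] at h
    rw [e, h, mul_one]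
    exact Subgroup.mem_sup_left (Canonical.conj_plus hD hw (E.n_diag j) hp))
  obtain ⟨p', hp', hp'f, k, hk, hm, u, hu, huf, ev⟩ := E.C.neg_cell j hvf hv1 hvn
  refine ⟨k, hk, ?_⟩
  have : N.nW hD F (E.C.w j) * k = p'⁻¹ * v * u⁻¹ := by rw [ev]; group
  rw [this]
  exact mul_mem (mul_mem (inv_mem (hU p' hp' hp'f))
    (hV v (RootGen.gen_le hD (fun r hr t => xGL_mem_neg hD hr.1 t) hvn) hvf))
    (inv_mem (hU u (RootGen.gen_le hD (fun r hr t => xGL_mem_pos hD hr.1 t) hu) huf))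

/-- perfectness from a family of commutators and generation by unipotent elements -/
theorem perfect {L0 : List (Fin E.C.k)} (hL0 : ∀ r, D.IsPosRoot r → D.IsNegRoot (N.act D (E.C.flat L0) r))
    (hfam : E.O.Fam ⁅S.fix, S.fix⁆)
    (hgen : S.fix ≤ (S.fix ⊓ D.posUnipotent F) ⊔ (S.fix ⊓ D.negUnipotent F)) :
    commutator ↥S.fix = ⊤ := by
  refine Subgroup.map_injective S.fix.subtype_injective ?_
  rw [Subgroup.map_subtype_commutator, ← MonoidHom.range_eq_map, Subgroup.range_subtype]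
  refine le_antisymm (Subgroup.commutator_le_self _) (hgen.trans (sup_le ?_ ?_))
  · exact fun g hg => E.O.mem_of_fam hfam hg.2 hg.1
  · refine fun g hg => E.neg_mem hL0 (fun x hx y hy => ?_) (fun u hu huf => E.O.mem_of_fam hfam hu huf) hg.2 hg.1
    exact (Subgroup.mem_normalizer_iff.1 (Subgroup.normalizer_commutator_ge_left S.fix S.fix hx) y).1 hy

/-- the group is simple -/
theorem simple (hirr : E.bnPair.Irreducible) {L0 : List (Fin E.C.k)}
    (hL0 : ∀ r, D.IsPosRoot r → D.IsNegRoot (N.act D (E.C.flat L0) r)) (hk : 0 < E.C.k)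
    (hperf : commutator ↥S.fix = ⊤) : IsSimpleGroup ↥S.fix ∧ ¬ IsMulCommutative ↥S.fix := by
  obtain ⟨i, hi⟩ := List.exists_mem_of_ne_nil _ (E.C.J_ne ⟨0, hk⟩)
  obtain ⟨x, hx, hxf, hne⟩ := E.exists_moved ⟨0, hk⟩ hi fun a _ => E.adm_one a
  have hx1 : (⟨x, hxf⟩ : ↥S.fix) ≠ 1 := fun h => hne (by
    rw [show x = 1 from congrArg Subtype.val h, mul_one, mul_inv_cancel]; exact one_mem _)
  haveI : Nontrivial ↥S.fix := ⟨⟨_, _, hx1⟩⟩
  refine ⟨CfsgLib.BNPair.Parabolic.isSimpleGroup E.bnPair hirr E.borel_solvable hperf (E.core hL0), fun h => ?_⟩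
  have : commutator ↥S.fix = ⊥ := by
    rw [commutator_eq_bot_iff_center_eq_top, eq_top_iff]
    exact fun x _ => Subgroup.mem_center_iff.2 fun y => h.is_comm.comm y x
  exact absurd (hperf.symm.trans this) top_ne_bot

end Setup

end CfsgLib.Chev.Twisted
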