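import Mathlib

/-! The field automorphism `x ↦ x^q`. -/
set_option autoImplicit false

namespace CfsgLib.Chev.Twisted

theorem exists_frob {K : Type*} [Field K] [Fintype K] {q k : ℕ} (hq : IsPrimePow q) (hk : 0 < k)
    (hK : Fintype.card K = q ^ k) : ∃ f : K ≃+* K, ∀ x, f x = x ^ q := by
  obtain ⟨p, n, hp, hn, rfl⟩ := hq
  have hp' : p.Prime := Nat.prime_iff.2 hp
  obtain ⟨p', m, hp'', hcard⟩ : ∃ (p' : ℕ) (m : ℕ), Fact p'.Prime ∧ CharP K p' ∧ Fintype.card K = p' ^ m := by
    obtain ⟨m, hp'', hc⟩ := FiniteField.card K (ringChar K)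
    exact ⟨ringChar K, m, ⟨hp''⟩, inferInstance, hc⟩
  obtain ⟨hchar, hcard⟩ := hcard
  have : p = p' := by
    have h1 : p ∣ p' ^ m := by rw [← hcard, hK, ← pow_mul]; exact dvd_pow_self p (by positivity)
    exact (Nat.prime_dvd_prime_iff_eq hp' hp''.out).1 (hp'.dvd_of_dvd_pow h1)
  subst this
  haveI := hchar
  exact ⟨RingEquiv.ofBijective (iterateFrobenius K p n)
    (Finite.injective_iff_bijective.1 (RingHom.injective _)), fun x => iterateFrobenius_def p n x⟩

theorem card_units_fixed {K : Type*} [Field K] [Fintype K] {q k : ℕ} (hq : IsPrimePow q)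
    (hK : Fintype.card K = q ^ k) : Nat.card {t : Kˣ // t ^ q = t} = q - 1 := by
  have h1 := hq.one_lt
  have hiff : ∀ t : Kˣ, t ^ q = t ↔ t ∈ (powMonoidHom (q - 1) : Kˣ →* Kˣ).ker := fun t => by
    rw [MonoidHom.mem_ker, powMonoidHom_apply]
    constructor <;> intro h
    · rw [show q = (q - 1) + 1 by omega, pow_succ] at h
      exact mul_eq_right.1 h
    · rw [show q = (q - 1) + 1 by omega, pow_succ, h, one_mul]
  rw [Nat.card_congr (Equiv.subtypeEquivRight hiff), IsCyclic.card_powMonoidHom_ker, Nat.card_units,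
    Nat.card_eq_fintype_card, hK]
  exact Nat.gcd_eq_right (Nat.sub_one_dvd_pow_sub_one q k)

theorem card_fixed {K : Type*} [Field K] [Fintype K] {q k : ℕ} (hq : IsPrimePow q)
    (hK : Fintype.card K = q ^ k) : Nat.card {t : K // t ^ q = t} = q := by
  classical
  have h1 := hq.one_lt
  have e : {t : K | t ^ q = t} = insert 0 (Units.val '' {t : Kˣ | t ^ q = t}) := by
    ext x
    simp only [Set.mem_ofPred_eq, Set.mem_insert_iff, Set.mem_image]
    refine ⟨fun hx => ?_, ?_⟩
    · by_cases h : x = 0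
      · exact Or.inl h
      · exact Or.inr ⟨Units.mk0 x h, Units.ext (by simpa using hx), rfl⟩
    · rintro (rfl | ⟨t, ht, rfl⟩)
      · exact zero_pow (by omega)
      · exact congrArg Units.val ht
  show Nat.card ↥({t : K | t ^ q = t}) = q
  rw [Nat.card_coe_set_eq, e, Set.ncard_insert_of_notMem (by simp),
    Set.ncard_image_of_injective _ Units.val_injective, ← Nat.card_coe_set_eq]
  have := card_units_fixed hq hK
  simp only [Set.coe_ofPred] at *
  omega

theorem exists_sq_ne_one {K : Type*} [Field K] [Fintype K] (h : 3 < Fintype.card K) :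
    ∃ b : K, b ≠ 0 ∧ b ^ 2 - 1 ≠ 0 := by
  classical
  obtain ⟨g, hg⟩ := IsCyclic.exists_generator (α := Kˣ)
  refine ⟨g, g.ne_zero, fun hb => ?_⟩
  have h2 : g ^ 2 = 1 := Units.ext (by simpa using sub_eq_zero.1 hb)
  have := (orderOf_le_of_pow_eq_one (by norm_num) h2)
  rw [orderOf_eq_card_of_forall_mem_zpowers hg, Nat.card_units, Nat.card_eq_fintype_card] at this
  omega

end CfsgLib.Chev.Twisted
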