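import Cfsg.Agent.Lib.Chev.Twisted.Extra
import Cfsg.Agent.Lib.Chev.Twisted.Frob
import Cfsg.Prelude.Def_LieTwisted
import Mathlib.GroupTheory.Coxeter.Matrix

/-! The triality groups `³D₄(q)`. -/
set_option autoImplicit false
open Cfsg.Lie
open scoped Matrix MatrixGroups commutatorElement

namespace CfsgLib.Chev.Twisted.TriD4

open CfsgLib.Chev CfsgLib.Chev.Checks CfsgLib.Chev.Basic

/-- the triality data -/
def tri : Aut.GraphData := ⟨[0, 1, 6, 2, 7, 10, 3, 8, 4, 9, 11, 5, 18, 12, 14, 19, 15, 20, 13, 16, 21, 17, 22, 23],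
  [1, 1, -1, 1, -1, 1, -1, 1, -1, 1, 1, 1, 1, 1, 1, -1, 1, -1, 1, -1, 1, -1, 1, 1],
  [1, 1, 1, 1, 1, 1, 1, 1, 1, 1, 1, 1, 1, 1, 1, 1, 1, 1, 1, 1, 1, 1, 1, 1]⟩

def lev : List ℕ := [0, 0, 0, 0, 0, 0, 0, 0, 0, 0, 0, 0, 0, 0, 0, 1, 1, 2, 0, 1, 2, 2, 3, 4]
def reps : List ℕ := [18, 14, 19, 17, 22, 23]
def free : List ℕ := [18, 19, 17]
def cl : List (List ℕ) := [[1], [0, 2, 3]]
def ls : List (List (Fin 2)) := [[], [0], [1], [1, 0], [0, 1], [0, 1, 0], [1, 0, 1], [1, 0, 1, 0], [0, 1, 0, 1],
  [0, 1, 0, 1, 0], [1, 0, 1, 0, 1], [1, 0, 1, 0, 1, 0]]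
def wexp (a : ℕ) : ℕ := if free.contains a then 3 else 1

theorem tri_rel : Aut.relOK chevD4 tri 0 = true := by decide +kernel
theorem tri_data : Aut.dataOK chevD4 tri 1 = true := by decide +kernel
theorem tri_tw : twOK chevD4 tri = true := by decide +kernel
theorem orb_ok : orbitsOK chevD4 tri 0 lev 5 reps free = true := by decide +kernel
theorem cls_ok : classesOK chevD4 (Aut.gRoot tri) cl cl = true := by decide +kernel
theorem ls_ok : weylOK chevD4 cl ls = true := by decide +kernel
theorem opp_ok : oppOK chevD4 (flatW cl ([1, 0, 1, 0, 1, 0] : List (Fin 2))) = true := by decide +kernel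
theorem cox_ok : coxOK chevD4 cl (fun i j : Fin 2 => CoxeterMatrix.G₂ i j) = true := by decide +kernel
theorem adj_ok : ∀ i j : Fin 2, (i != j) = true → sameB chevD4 (flatW cl [i, j, i, j]) [] = false := by decide +kernel
theorem mem_data : chevD4 ∈ dataList := by simp [dataList]

variable {K : Type*} [Field K] [Fintype K] {q : ℕ} (hq : IsPrimePow q) (hK : Fintype.card K = q ^ 3)

/-- the field automorphism -/
noncomputable def fr : K ≃+* K := (exists_frob hq (by norm_num) hK).choose

theorem fr_apply (x : K) : fr hq hK x = x ^ q := (exists_frob hq (by norm_num) hK).choose_spec x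

theorem fr3 (x : K) : fr hq hK (fr hq hK (fr hq hK x)) = x := by
  rw [fr_apply, fr_apply, fr_apply, ← pow_mul, ← pow_mul, show q * (q * q) = q ^ 3 by ring, ← hK]
  exact FiniteField.pow_card x

/-- the twist data -/
noncomputable def kind : Kind chevD4 K where
  G := tri
  p := 1
  m := 0
  hm := by simp
  hp h := absurd h (lt_irrefl 1)
  hrel := tri_rel
  hdata := tri_data
  htw := tri_tw
  f := fr hq hK

/-- the twist -/
noncomputable def tw : Twist (mem_data) K := mkTwist mem_data (kind hq hK)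

theorem π_apply (r : ℕ) (t : K) : (tw hq hK).π r t = fr hq hK t := by
  simp [tw, mkTwist, kind, expHom]

/-- the orbits -/
noncomputable def orbits : Orbits (tw hq hK) :=
  mkOrbits tri rfl rfl (m := 0) (by simp) lev 5 reps free orb_ok

/-- the classes -/
noncomputable def classes : Classes (tw hq hK) := mkClasses rfl cl cl cls_ok

theorem adm_fixed {a : ℕ} (ha : free.contains a = false) {s : K} (h : (orbits hq hK).Adm a s) :
    fr hq hK s = s := by
  rcases h with h | h
  · exact absurd (ha.symm.trans h) (by simp)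
  · rwa [π_apply] at h

/-- coordinates of the triple `18, 13, 12` and its negative `5, 10, 11` -/
noncomputable def tf (t : K) (r : ℕ) : K :=
  if r = 18 ∨ r = 5 then t else if r = 13 ∨ r = 10 then fr hq hK t else fr hq hK (fr hq hK t)

theorem triple_eq (t : K) : wordG (D := chevD4) mem_data [(18, t), (13, fr hq hK t), (12, fr hq hK (fr hq hK t))] =
    wordG mem_data ([18, 13, 12].map fun r => (r, tf hq hK t r)) := by
  simp [tf]

theorem ntriple_eq (t : K) : wordG (D := chevD4) mem_data [(5, t), (10, fr hq hK t), (11, fr hq hK (fr hq hK t))] =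
    wordG mem_data ([5, 10, 11].map fun r => (r, tf hq hK t r)) := by
  simp [tf]

theorem single_fix {r : ℕ} (hr : r ∈ [14, 9, 1, 23]) {t : K} (ht : fr hq hK t = t) :
    xGL mem_data K r t ∈ (tw hq hK).fix := by
  have h := orth_fixed (tw hq hK) (m := 0) (by simp) (R := [r])
    (by simp only [List.mem_cons, List.not_mem_nil, or_false] at hr
        rcases hr with rfl | rfl | rfl | rfl <;> decide +kernel)
    (by simp only [List.mem_cons, List.not_mem_nil, or_false] at hr
        rcases hr with rfl | rfl | rfl | rfl <;> exact List.Perm.refl _)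
    (fun _ => t) (fun x hx => by
      rw [List.mem_singleton] at hx
      subst hx
      rw [π_apply, ht]
      simp only [List.mem_cons, List.not_mem_nil, or_false] at hr
      rcases hr with rfl | rfl | rfl | rfl <;> simp [tw, mkTwist, kind, Aut.gSign, tri])
  simpa [wordG] using h

theorem triple_fix (t : K) :
    wordG (D := chevD4) mem_data [(18, t), (13, fr hq hK t), (12, fr hq hK (fr hq hK t))] ∈ (tw hq hK).fix := by
  rw [triple_eq]
  refine orth_fixed (tw hq hK) (m := 0) (by simp) (by decide +kernel) ?_ _ fun r hr => ?_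
  · show List.Perm ([18, 13, 12].map (Aut.gRoot tri)) [18, 13, 12]
    decide +kernel
  · rw [π_apply]
    simp only [List.mem_cons, List.not_mem_nil, or_false] at hr
    rcases hr with rfl | rfl | rfl <;> simp [tw, mkTwist, kind, Aut.gSign, Aut.gRoot, tri, tf, fr3]

theorem ntriple_fix (t : K) :
    wordG (D := chevD4) mem_data [(5, t), (10, fr hq hK t), (11, fr hq hK (fr hq hK t))] ∈ (tw hq hK).fix := by
  rw [ntriple_eq]
  refine orth_fixed (tw hq hK) (m := 0) (by simp) (by decide +kernel) ?_ _ fun r hr => ?_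
  · show List.Perm ([5, 10, 11].map (Aut.gRoot tri)) [5, 10, 11]
    decide +kernel
  · rw [π_apply]
    simp only [List.mem_cons, List.not_mem_nil, or_false] at hr
    rcases hr with rfl | rfl | rfl <;> simp [tw, mkTwist, kind, Aut.gSign, Aut.gRoot, tri, tf, fr3]

theorem single_mem {r : ℕ} (hr : r ∈ [14, 9]) {t : K} (ht : fr hq hK t = t) :
    xGL mem_data K r t ∈ twistedD4 K q := by
  have h : ([(r, t)] : List (ℕ × K)) ∈ d4Words K q :=
    Or.inl ⟨t, by rw [← fr_apply hq hK]; exact ht, r, hr, rfl⟩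
  have h' := wordG_mem mem_data h
  unfold twistedD4
  simpa [wordG] using h'

theorem triple_mem (t : K) :
    wordG (D := chevD4) mem_data [(18, t), (13, fr hq hK t), (12, fr hq hK (fr hq hK t))] ∈ twistedD4 K q := by
  refine wordG_mem mem_data (Or.inr ⟨t, (18, 13, 12), List.mem_cons_self, ?_⟩)
  rw [fr_apply, fr_apply, ← pow_mul, ← pow_two]

theorem ntriple_mem (t : K) :
    wordG (D := chevD4) mem_data [(5, t), (10, fr hq hK t), (11, fr hq hK (fr hq hK t))] ∈ twistedD4 K q := by
  refine wordG_mem mem_data (Or.inr ⟨t, (5, 10, 11), List.mem_cons_of_mem _ List.mem_cons_self, ?_⟩)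
  rw [fr_apply, fr_apply, ← pow_mul, ← pow_two]

/-- each generator is a fixed element of `U` or of `V` -/
theorem gen_cases {w : List (ℕ × K)} (hw : w ∈ d4Words K q) : wordG mem_data w ∈ (tw hq hK).fix ∧
    (wordG mem_data w ∈ chevD4.posUnipotent K ∨ wordG mem_data w ∈ chevD4.negUnipotent K) := by
  rcases hw with ⟨t, ht, r, hr, rfl⟩ | ⟨t, rs, hrs, rfl⟩
  · have ht' : fr hq hK t = t := (fr_apply hq hK t).trans ht
    simp only [d4p2, d4m2, List.mem_cons, List.not_mem_nil, or_false] at hr
    refine ⟨by simpa [wordG] using single_fix hq hK (r := r) (by rcases hr with rfl | rfl <;> simp) ht', ?_⟩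
    rcases hr with rfl | rfl
    · exact Or.inl (wordG_pos mem_data (by simp only [List.mem_cons, List.not_mem_nil, or_false, forall_eq]; decide +kernel))
    · exact Or.inr (wordG_neg mem_data (by simp only [List.mem_cons, List.not_mem_nil, or_false, forall_eq]; decide +kernel))
  · simp only [d4p1, d4p3, d4p4, d4m1, d4m3, d4m4, List.mem_cons, List.not_mem_nil, or_false] at hrs
    rw [pow_two, pow_mul, ← fr_apply hq hK, ← fr_apply hq hK]
    rcases hrs with rfl | rfl
    · exact ⟨triple_fix hq hK t, Or.inl (wordG_pos mem_data (by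
        simp only [List.mem_cons, List.not_mem_nil, or_false, forall_eq_or_imp, forall_eq]; decide +kernel))⟩
    · exact ⟨ntriple_fix hq hK t, Or.inr (wordG_neg mem_data (by
        simp only [List.mem_cons, List.not_mem_nil, or_false, forall_eq_or_imp, forall_eq]; decide +kernel))⟩

theorem le_fix : twistedD4 K q ≤ (tw hq hK).fix := genSubgroup_le mem_data fun _ hw => (gen_cases hq hK hw).1

theorem lifts : Lifts (classes hq hK) (twistedD4 K q) := by
  set O := orbits hq hK
  set C := classes hq hK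
  have hneg : ∀ (j : Fin C.k) (a : ℕ), a ∈ O.reps → Canonical.Minus chevD4 (C.w j) a →
      a ∈ negReps chevD4 reps (C.w j) := fun j a ha hm =>
    mem_negReps (hD := mem_data) O rfl (C.w_lt j) ha hm
  intro j
  obtain ⟨v, hv, hv1, hvn, hU⟩ : ∃ v ∈ twistedD4 K q, v ≠ 1 ∧
      v ∈ RootGen.gen chevD4 K (fun r => chevD4.IsNegRoot r ∧ C.In j r) ∧
      O.FamOn (Canonical.Minus chevD4 (C.w j)) (twistedD4 K q) := by
    have hj : j.1 = 0 ∨ j.1 = 1 := by have : j.1 < 2 := j.2; omega
    rcases hj with hj | hj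
    · obtain rfl : j = ⟨0, by show 0 < 2; norm_num⟩ := Fin.ext hj
      refine ⟨wordG mem_data [(9, 1)], ?_, ?_, ?_, fun a ha hm => ?_⟩
      · simpa [wordG] using single_mem hq hK (r := 9) (by simp) (map_one _)
      · exact wordG_neg_ne O (l := [1]) (by decide +kernel) (by decide +kernel) (by decide +kernel) (by rfl)
          (by simp) one_ne_zero
      · refine Subgroup.list_prod_mem _ fun x hx => ?_
        simp only [List.map_cons, List.map_nil, List.mem_singleton] at hx
        subst hx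
        exact RootGen.xGL_mem_gen mem_data ⟨by decide +kernel,
          (inB_iff (by decide +kernel)).1 (by show inB chevD4 [1] 9 = true; decide +kernel)⟩ _
      · have hl : negReps chevD4 reps [1] = [14] := by decide +kernel
        obtain rfl : a = 14 := List.mem_singleton.1 (hl ▸ hneg _ a ha hm)
        exact famOn_direct O (le_fix hq hK) lev reps rfl rfl (C.w_lt _) ha [] []
          (by show directOK chevD4 lev reps [1] [] 14 [] = true; decide +kernel)
          fun s hs => by
            simpa [Classes.prodE] using single_mem hq hK (r := 14) (by simp) (adm_fixed hq hK (by decide) hs)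
    · obtain rfl : j = ⟨1, by show 1 < 2; norm_num⟩ := Fin.ext hj
      refine ⟨wordG mem_data [(5, 1), (10, fr hq hK 1), (11, fr hq hK (fr hq hK 1))], ntriple_mem hq hK 1, ?_, ?_,
        fun a ha hm => ?_⟩
      · exact wordG_neg_ne O (l := [0, 2, 3]) (by decide +kernel) (by decide +kernel) (by decide +kernel) (by rfl)
          (by simp only [List.mem_cons, List.not_mem_nil, or_false, forall_eq_or_imp, forall_eq]; decide +kernel)
          one_ne_zero
      · refine Subgroup.list_prod_mem _ fun x hx => ?_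
        simp only [List.map_cons, List.map_nil, List.mem_cons, List.not_mem_nil, or_false] at hx
        rcases hx with rfl | rfl | rfl
        · exact RootGen.xGL_mem_gen mem_data ⟨by decide +kernel,
            (inB_iff (by decide +kernel)).1 (by show inB chevD4 [0, 2, 3] 5 = true; decide +kernel)⟩ _
        · exact RootGen.xGL_mem_gen mem_data ⟨by decide +kernel,
            (inB_iff (by decide +kernel)).1 (by show inB chevD4 [0, 2, 3] 10 = true; decide +kernel)⟩ _
        · exact RootGen.xGL_mem_gen mem_data ⟨by decide +kernel,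
            (inB_iff (by decide +kernel)).1 (by show inB chevD4 [0, 2, 3] 11 = true; decide +kernel)⟩ _
      · have hl : negReps chevD4 reps [0, 2, 3] = [18] := by decide +kernel
        obtain rfl : a = 18 := List.mem_singleton.1 (hl ▸ hneg _ a ha hm)
        exact famOn_direct O (le_fix hq hK) lev reps rfl rfl (C.w_lt _) ha []
          [(13, fun s => fr hq hK s), (12, fun s => fr hq hK (fr hq hK s))]
          (by show directOK chevD4 lev reps [0, 2, 3] [] 18 [13, 12] = true; decide +kernel)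
          fun s _ => triple_mem hq hK s
  exact C.exists_lift O (twistedD4 K q) (le_fix hq hK) j hU hv hv1 hvn

/-- families from the two basic ones -/
theorem fam_of {M : Subgroup (GL chevD4.Idx K)} (hM : M ≤ (tw hq hK).fix)
    (hn : ∀ L : List (Fin (classes hq hK).k), ∃ k ∈ chevD4.diagonalSubgroup K, ∀ x ∈ M,
      N.nW mem_data K ((classes hq hK).flat L) * k * x * (N.nW mem_data K ((classes hq hK).flat L) * k)⁻¹ ∈ M)
    (h1 : ∀ t, fr hq hK t = t → xGL mem_data K 14 t ∈ M)
    (h3 : ∀ t, wordG (D := chevD4) mem_data [(18, t), (13, fr hq hK t), (12, fr hq hK (fr hq hK t))] ∈ M) :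
    (orbits hq hK).Fam M := by
  intro a ha hp s hs
  let j0 : Fin (classes hq hK).k := ⟨0, by show 0 < 2; norm_num⟩
  let j1 : Fin (classes hq hK).k := ⟨1, by show 1 < 2; norm_num⟩
  have single : ∀ (b : ℕ) (L : List (Fin (classes hq hK).k)), b ∈ reps → free.contains b = false →
      certOK chevD4 lev reps ((classes hq hK).flat L) [] 14 [] b = true → ∀ s, (orbits hq hK).Adm b s →
      ∃ x ∈ M, x ∈ (tw hq hK).fix ∧ x ∈ RootGen.gen chevD4 K ((orbits hq hK).PL chevD4.IsPosRoot ((orbits hq hK).lev b)) ∧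
      coord mem_data x b = s ∧ ∀ c ∈ (orbits hq hK).reps, c ≠ b → (orbits hq hK).lev c = (orbits hq hK).lev b →
        coord mem_data x c = 0 := fun b L hb hf hok =>
    fam_cert (orbits hq hK) hM lev reps rfl rfl hb ((classes hq hK).flat_lt L) (hn L) [] [] 14 hok
      fun s hs => by simpa [Classes.prodE] using h1 s (adm_fixed hq hK hf hs)
  have triple : ∀ (b : ℕ) (L : List (Fin (classes hq hK).k)), b ∈ reps →
      certOK chevD4 lev reps ((classes hq hK).flat L) [] 18 [13, 12] b = true → ∀ s, (orbits hq hK).Adm b s →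
      ∃ x ∈ M, x ∈ (tw hq hK).fix ∧ x ∈ RootGen.gen chevD4 K ((orbits hq hK).PL chevD4.IsPosRoot ((orbits hq hK).lev b)) ∧
      coord mem_data x b = s ∧ ∀ c ∈ (orbits hq hK).reps, c ≠ b → (orbits hq hK).lev c = (orbits hq hK).lev b →
        coord mem_data x c = 0 := fun b L hb hok =>
    fam_cert (orbits hq hK) hM lev reps rfl rfl hb ((classes hq hK).flat_lt L) (hn L) []
      [(13, fun s => fr hq hK s), (12, fun s => fr hq hK (fr hq hK s))] 18 hok fun s _ => h3 s
  have key : ∃ x ∈ M, x ∈ (tw hq hK).fix ∧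
      x ∈ RootGen.gen chevD4 K ((orbits hq hK).PL chevD4.IsPosRoot ((orbits hq hK).lev a)) ∧
      coord mem_data x a = s ∧ ∀ c ∈ (orbits hq hK).reps, c ≠ a → (orbits hq hK).lev c = (orbits hq hK).lev a →
        coord mem_data x c = 0 := by
    have ha' : a ∈ reps := ha
    simp only [reps, List.mem_cons, List.not_mem_nil, or_false] at ha'
    rcases ha' with rfl | rfl | rfl | rfl | rfl | rfl
    · exact triple 18 [] (by decide) (by show certOK chevD4 lev reps [] [] 18 [13, 12] 18 = true; decide +kernel) s hs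
    · exact single 14 [] (by decide) (by decide) (by show certOK chevD4 lev reps [] [] 14 [] 14 = true; decide +kernel) s hs
    · exact triple 19 [j0] (by decide) (by show certOK chevD4 lev reps [1] [] 18 [13, 12] 19 = true; decide +kernel) s hs
    · exact triple 17 [j1, j0] (by decide) (by
        show certOK chevD4 lev reps [0, 2, 3, 1] [] 18 [13, 12] 17 = true; decide +kernel) s hs
    · exact single 22 [j1] (by decide) (by decide) (by
        show certOK chevD4 lev reps [0, 2, 3] [] 14 [] 22 = true; decide +kernel) s hs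
    · exact single 23 [j0, j1] (by decide) (by decide) (by
        show certOK chevD4 lev reps [1, 0, 2, 3] [] 14 [] 23 = true; decide +kernel) s hs
  obtain ⟨x, h1', h2', h3', h4', h5'⟩ := key
  exact ⟨x, h1', h2', h3', h4', fun b hb hba hl _ => h5' b hb hba hl⟩

theorem fam_T : (orbits hq hK).Fam (twistedD4 K q) :=
  fam_of hq hK (le_fix hq hK) (fun L => (classes hq hK).word_conj (lifts hq hK) L)
    (fun _ ht => single_mem hq hK (by simp) ht) (triple_mem hq hK)

/-- torus coordinates of the fixed elements -/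
noncomputable def par (a c : Kˣ) : Fin chevD4.rank → Kˣ := fun i =>
  ([c, a, Units.map (fr hq hK).toRingHom.toMonoidHom c,
    Units.map (fr hq hK).toRingHom.toMonoidHom (Units.map (fr hq hK).toRingHom.toMonoidHom c)].getD i.1 1)

def cartanL : List (List ℤ) := [[2, -1, 0, 0], [-1, 2, -1, -1], [0, -1, 2, 0], [0, -1, 0, 2]]

theorem cartan_eq : ∀ i j : Fin 4, chevD4.cartan i.1 (chevD4.simple j.1) = (cartanL.getD i.1 []).getD j.1 0 := by
  decide +kernel

theorem inv_form {G : Type*} [CommGroup G] (a b c d : G) : a⁻¹ * b * c⁻¹ * d⁻¹ = 1 ↔ b = a * c * d := by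
  rw [show a⁻¹ * b * c⁻¹ * d⁻¹ = b * (a * c * d)⁻¹ by simp [mul_inv_rev, mul_comm, mul_left_comm, mul_assoc], mul_inv_eq_one]

/-- the kernel of the torus map -/
theorem ker_iff (z : Fin 4 → Kˣ) : Torus.torusHom chevD4 K z = 1 ↔
    z 0 ^ 2 = z 1 ∧ z 2 ^ 2 = z 1 ∧ z 3 ^ 2 = z 1 ∧ z 1 ^ 2 = z 0 * z 2 * z 3 := by
  have e : ∀ j : Fin 4, Torus.pw (fun i k : Fin chevD4.rank => chevD4.cartan i (chevD4.simple k)) z j =
      ∏ i : Fin 4, z i ^ (cartanL.getD i.1 []).getD j.1 0 :=
    fun j => by
      show ∏ i : Fin 4, z i ^ chevD4.cartan i.1 (chevD4.simple j.1) = _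
      exact Finset.prod_congr rfl fun i _ => congrArg (z i ^ ·) (cartan_eq i j)
  refine (MonoidHom.mem_ker.symm.trans (Torus.torusKer_iff mem_data _)).trans ⟨fun h => ?_, fun h => funext fun j => ?_⟩
  · have h0 : ∏ i : Fin 4, z i ^ (cartanL.getD i.1 []).getD (0 : Fin 4).1 0 = 1 :=
      (e 0).symm.trans (congrFun h (0 : Fin 4))
    have h1 : ∏ i : Fin 4, z i ^ (cartanL.getD i.1 []).getD (1 : Fin 4).1 0 = 1 :=
      (e 1).symm.trans (congrFun h (1 : Fin 4))
    have h2 : ∏ i : Fin 4, z i ^ (cartanL.getD i.1 []).getD (2 : Fin 4).1 0 = 1 :=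
      (e 2).symm.trans (congrFun h (2 : Fin 4))
    have h3 : ∏ i : Fin 4, z i ^ (cartanL.getD i.1 []).getD (3 : Fin 4).1 0 = 1 :=
      (e 3).symm.trans (congrFun h (3 : Fin 4))
    simp [Fin.prod_univ_four, cartanL] at h0 h1 h2 h3
    refine ⟨?_, ?_, ?_, (inv_form _ _ _ _).1 (by simpa using h1)⟩
    · exact mul_inv_eq_one.1 (by simpa using h0)
    · exact inv_mul_eq_one.1 (by simpa using h2) |>.symm
    · exact inv_mul_eq_one.1 (by simpa using h3) |>.symm
  · refine (e j).trans ?_
    obtain ⟨h0, h2, h3, h1⟩ := h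
    fin_cases j <;> simp [Fin.prod_univ_four, cartanL, zpow_ofNat]
    · exact mul_inv_eq_one.2 h0
    · exact (inv_form _ _ _ _).2 h1
    · exact inv_mul_eq_one.2 h2.symm
    · exact inv_mul_eq_one.2 h3.symm

theorem ker_sol {G : Type*} [CommGroup G] {a b c d : G} (h0 : a ^ 2 = b) (h2 : c ^ 2 = b) (h3 : d ^ 2 = b)
    (h1 : b ^ 2 = a * c * d) : b = 1 ∧ a ^ 2 = 1 ∧ c ^ 2 = 1 ∧ d ^ 2 = 1 ∧ a * c * d = 1 := by
  have e : b ^ 3 = b ^ 3 * b := by
    calc b ^ 3 = a ^ 2 * c ^ 2 * d ^ 2 := by rw [h0, h2, h3, pow_succ, pow_two]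
      _ = (b ^ 2) ^ 2 := by rw [← mul_pow, ← mul_pow, h1]
      _ = b ^ 3 * b := by rw [← pow_mul, ← pow_succ]
  have hb : b = 1 := mul_eq_left.1 e.symm
  exact ⟨hb, h0.trans hb, h2.trans hb, h3.trans hb, by rw [← h1, hb, one_pow]⟩

theorem fr_sign {z : Kˣ} (h : z ^ 2 = 1) : Units.map (fr hq hK).toRingHom.toMonoidHom z = z := by
  have h' : (z : K) * z = 1 := by rw [← Units.val_mul, ← pow_two, h, Units.val_one]
  rcases mul_self_eq_one_iff.1 h' with e | e <;> exact Units.ext (by simp [e])

def src : Fin 4 → Fin 4 := ![3, 1, 0, 2]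

theorem src_bij : Function.Bijective src := Finite.injective_iff_bijective.1 (by decide)

theorem src_root : ∀ i : Fin 4, Aut.gRoot tri (chevD4.simple (src i).1) = chevD4.simple i.1 := by decide +kernel

theorem fixed_torus {h : GL chevD4.Idx K} (hh : h ∈ chevD4.diagonalSubgroup K) (hf : h ∈ (tw hq hK).fix) :
    ∃ a c : Kˣ, Units.map (fr hq hK).toRingHom.toMonoidHom a = a ∧ h = Torus.torusHom chevD4 K (par hq hK a c) := by
  obtain ⟨d, rfl⟩ := (Torus.range_torusHom mem_data).ge hh
  have hs := ((tw hq hK).mem_fix.1 hf).2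
  rw [sig_torusHom (tw hq hK) src src_root src_bij d] at hs
  set F := Units.map (fr hq hK).toRingHom.toMonoidHom with hF
  have hπ : ∀ (r : ℕ) (u : Kˣ), Units.map ((tw hq hK).π r).toMonoidHom u = F u := fun r u =>
    Units.ext (π_apply hq hK r (u : K))
  simp only [hπ] at hs
  let e : Fin 4 → Kˣ := d
  have hz : Torus.torusHom chevD4 K (fun i : Fin 4 => F (e (src i)) / e i) = 1 := by
    refine (congrArg _ (show (fun i : Fin 4 => F (e (src i)) / e i) =
      (fun i : Fin 4 => F (e (src i))) / e from rfl)).trans ((map_div _ _ _).trans (div_eq_one.2 hs))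
  obtain ⟨k0, k2, k3, k1⟩ := (ker_iff _).1 hz
  obtain ⟨z1, z0, z2, z3, zp⟩ := ker_sol k0 k2 k3 k1
  change F (e 1) / e 1 = 1 at z1
  change (F (e 3) / e 0) ^ 2 = 1 at z0
  change (F (e 0) / e 2) ^ 2 = 1 at z2
  change (F (e 2) / e 3) ^ 2 = 1 at z3
  refine ⟨e 1, e 0 * (F (e 2) / e 3), div_eq_one.1 z1, (div_eq_one.1 ?_).symm⟩
  rw [← map_div]
  have hw : ((par hq hK (e 1) (e 0 * (F (e 2) / e 3)) / d : Fin chevD4.rank → Kˣ) : Fin 4 → Kˣ) =
      ![F (e 2) / e 3, 1, F (e 0) / e 2 * (F (e 2) / e 3), F (e 0) / e 2] := by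
    have f3 := fr_sign hq hK z3
    have f2 := fr_sign hq hK z2
    rw [← hF] at f2 f3
    funext i
    fin_cases i
    · show e 0 * (F (e 2) / e 3) / e 0 = F (e 2) / e 3
      rw [mul_div_cancel_left]
    · show e 1 / e 1 = 1
      rw [div_self']
    · show F (e 0 * (F (e 2) / e 3)) / e 2 = F (e 0) / e 2 * (F (e 2) / e 3)
      rw [map_mul, f3, mul_div_right_comm]
    · show F (F (e 0 * (F (e 2) / e 3))) / e 3 = F (e 0) / e 2
      generalize hw3 : F (e 2) / e 3 = w3 at z3 f3 ⊢
      generalize hw2 : F (e 0) / e 2 = w2 at z2 f2 ⊢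
      have a2 : F (e 0) = w2 * e 2 := by rw [← hw2, div_mul_cancel]
      have a3 : F (e 2) = w3 * e 3 := by rw [← hw3, div_mul_cancel]
      rw [map_mul, f3, map_mul, f3, a2, map_mul, f2, a3,
        show w2 * (w3 * e 3) * w3 = w2 * w3 ^ 2 * e 3 by rw [pow_two]; ac_rfl, z3, mul_one, mul_div_cancel_right]
  refine (ker_iff _).2 ?_
  rw [hw]
  simp only [Matrix.cons_val_zero, Matrix.cons_val_one, Matrix.cons_val]
  refine ⟨z3, by rw [mul_pow, z2, z3, one_mul], z2, ?_⟩
  generalize F (e 2) / e 3 = w3 at z3 ⊢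
  generalize F (e 0) / e 2 = w2 at z2 ⊢
  rw [show w3 * (w2 * w3) * w2 = w2 ^ 2 * w3 ^ 2 by rw [pow_two, pow_two]; ac_rfl, z2, z3, one_pow, one_mul]

/-- the parameter torus -/
theorem par_split (a c : Kˣ) : par hq hK a c =
    Pi.mulSingle (⟨1, by decide⟩ : Fin chevD4.rank) a * (Pi.mulSingle (⟨0, by decide⟩ : Fin chevD4.rank) c *
      (Pi.mulSingle (⟨2, by decide⟩ : Fin chevD4.rank) (Units.map (fr hq hK).toRingHom.toMonoidHom c) *
        Pi.mulSingle (⟨3, by decide⟩ : Fin chevD4.rank)
          (Units.map (fr hq hK).toRingHom.toMonoidHom (Units.map (fr hq hK).toRingHom.toMonoidHom c)))) := by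
  funext i
  obtain ⟨i, hi⟩ := i
  have : i < 4 := hi
  interval_cases i <;> simp [par, Pi.mulSingle_apply, Fin.ext_iff]

theorem triple_torus_mem {T : Subgroup (GL chevD4.Idx K)}
    (hp : ∀ t, wordG (D := chevD4) mem_data [(18, t), (13, fr hq hK t), (12, fr hq hK (fr hq hK t))] ∈ T)
    (hn : ∀ t, wordG (D := chevD4) mem_data [(5, t), (10, fr hq hK t), (11, fr hq hK (fr hq hK t))] ∈ T) (t : K) :
    (([18, 13, 12] : List ℕ).map fun r => hGL mem_data K r (tf hq hK t r)).prod ∈ T := by
  have n1 : chevD4.neg 18 = 5 ∧ chevD4.neg 13 = 10 ∧ chevD4.neg 12 = 11 := by decide +kernel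
  refine orth_torus_mem mem_data (m := 0) (by simp) (by decide +kernel) (tf hq hK t) ?_ ?_ ?_ ?_
  · simpa [tf] using hp t
  · simpa [tf, n1, map_inv₀] using hn (-t⁻¹)
  · simpa using hp (-1)
  · simpa [n1] using hn 1

theorem single_torus_mem {T : Subgroup (GL chevD4.Idx K)}
    (hp : ∀ t, fr hq hK t = t → xGL mem_data K 14 t ∈ T) (hn : ∀ t, fr hq hK t = t → xGL mem_data K 9 t ∈ T)
    {t : K} (ht : fr hq hK t = t) : hGL mem_data K 14 t ∈ T := by
  have n1 : chevD4.neg 14 = 9 := by decide +kernel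
  have h := orth_torus_mem mem_data (m := 0) (by simp) (R := [14]) (T := T) (by decide +kernel) (fun _ => t)
    (by simpa [wordG] using hp t ht)
    (by simpa [wordG, n1] using hn (-t⁻¹) (by rw [map_neg, map_inv₀, ht]))
    (by simpa [wordG] using hp (-1) (by simp)) (by simpa [wordG, n1] using hn 1 (by simp))
  simpa using h

theorem par_eq (a c : Kˣ) : Torus.torusHom chevD4 K (par hq hK a c) = hGL mem_data K 14 a *
    (([18, 13, 12] : List ℕ).map fun r => hGL mem_data K r (tf hq hK (c : K) r)).prod := by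
  rw [par_split, map_mul, map_mul, map_mul, Torus.torus_simple mem_data, Torus.torus_simple mem_data,
    Torus.torus_simple mem_data, Torus.torus_simple mem_data,
    show chevD4.simple 1 = 14 by decide +kernel, show chevD4.simple 0 = 18 by decide +kernel,
    show chevD4.simple 2 = 13 by decide +kernel, show chevD4.simple 3 = 12 by decide +kernel]
  simp [tf]

theorem par_mem {a c : Kˣ} (ha : Units.map (fr hq hK).toRingHom.toMonoidHom a = a) :
    Torus.torusHom chevD4 K (par hq hK a c) ∈ twistedD4 K q := by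
  rw [par_eq]
  exact mul_mem (single_torus_mem hq hK (fun _ h => single_mem hq hK (by simp) h)
    (fun _ h => single_mem hq hK (by simp) h) (congrArg Units.val ha))
    (triple_torus_mem hq hK (triple_mem hq hK) (ntriple_mem hq hK) c)

theorem eq_fix : twistedD4 K q = (tw hq hK).fix :=
  (classes hq hK).eq_fix (lifts hq hK) (le_fix hq hK)
    (fun g hg hgf => (orbits hq hK).mem_of_fam (fam_T hq hK) hg hgf)
    (fun h hh hf => by
      obtain ⟨a, c, ha, rfl⟩ := fixed_torus hq hK hh hf
      exact par_mem hq hK ha)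

/-- the structure of the fixed group -/
noncomputable def setup : Setup (tw hq hK) where
  O := orbits hq hK
  C := classes hq hK
  lift j := by
    obtain ⟨k, hk, h⟩ := lifts hq hK j
    exact ⟨k, hk, le_fix hq hK h⟩
  fam := fam_of hq hK le_rfl
    (fun L => (classes hq hK).word_conj (fun j => by
      obtain ⟨k, hk, h⟩ := lifts hq hK j
      exact ⟨k, hk, le_fix hq hK h⟩) L)
    (fun _ ht => single_fix hq hK (by simp) ht) (triple_fix hq hK)

/-- the parametrisation of the fixed torus -/
noncomputable def parHom : ↥((Units.map (fr hq hK).toRingHom.toMonoidHom).eqLocus (MonoidHom.id Kˣ)) × Kˣ →*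
    GL chevD4.Idx K where
  toFun x := Torus.torusHom chevD4 K (par hq hK x.1 x.2)
  map_one' := by
    rw [← map_one (Torus.torusHom chevD4 K)]
    congr 1
    funext i
    revert i
    show ∀ i : Fin 4, _
    intro i
    fin_cases i <;> simp [par] <;> rfl
  map_mul' x y := by
    rw [← map_mul]
    congr 1
    funext i
    revert i
    show ∀ i : Fin 4, _
    intro i
    fin_cases i
    exacts [rfl, rfl, map_mul _ _ _, (congrArg _ (map_mul _ _ _)).trans (map_mul _ _ _)]

theorem parHom_inj : Function.Injective (parHom hq hK) := by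
  refine (injective_iff_map_eq_one _).2 fun x h => ?_
  obtain ⟨k0, k2, k3, k1⟩ := (ker_iff (par hq hK (x.1 : Kˣ) x.2 : Fin 4 → Kˣ)).1 h
  obtain ⟨h1, h0, -, -, hp⟩ := ker_sol k0 k2 k3 k1
  change (x.1 : Kˣ) = 1 at h1
  change x.2 ^ 2 = 1 at h0
  change x.2 * Units.map (fr hq hK).toRingHom.toMonoidHom x.2 *
    Units.map (fr hq hK).toRingHom.toMonoidHom (Units.map (fr hq hK).toRingHom.toMonoidHom x.2) = 1 at hp
  rw [fr_sign hq hK h0, fr_sign hq hK h0, ← pow_two, h0, one_mul] at hp
  exact Prod.ext (Subtype.ext h1) hp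

theorem parHom_range : (parHom hq hK).range = (tw hq hK).fix ⊓ chevD4.diagonalSubgroup K := by
  refine le_antisymm ?_ fun h hh => ?_
  · rintro _ ⟨x, rfl⟩
    exact ⟨le_fix hq hK (par_mem hq hK x.1.2), (Torus.range_torusHom mem_data).le ⟨_, rfl⟩⟩
  · obtain ⟨a, c, ha, rfl⟩ := fixed_torus hq hK hh.2 hh.1
    exact ⟨(⟨a, ha⟩, c), rfl⟩

theorem card_torus :
    Nat.card ↥((tw hq hK).fix ⊓ chevD4.diagonalSubgroup K) = (q - 1) * (q ^ 3 - 1) := by
  rw [← parHom_range hq hK, ← Nat.card_congr (MonoidHom.ofInjective (parHom_inj hq hK)).toEquiv, Nat.card_prod,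
    Nat.card_units, Nat.card_eq_fintype_card (α := K), hK, ← card_units_fixed hq hK]
  congr 1
  refine Nat.card_congr (Equiv.subtypeEquivRight fun t => ?_)
  show Units.map (fr hq hK).toRingHom.toMonoidHom t = t ↔ _
  rw [Units.ext_iff, Units.ext_iff]
  simp [fr_apply]

theorem num_eq : ∀ a ∈ reps, (orbits hq hK).num a = q ^ wexp a := by
  intro a ha
  unfold Orbits.num wexp
  by_cases hf : free.contains a = true
  · rw [if_pos hf, ← hK, Nat.card_congr (Equiv.subtypeUnivEquiv (p := (orbits hq hK).Adm a) fun s => Or.inl hf), Nat.card_eq_fintype_card]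
  · rw [if_neg hf, pow_one]
    refine Eq.trans (Nat.card_congr (Equiv.subtypeEquivRight fun s => ?_)) (card_fixed hq hK)
    refine ⟨fun h => ?_, fun h => Or.inr ?_⟩
    · exact (fr_apply hq hK s).symm.trans (adm_fixed hq hK (by simpa using hf) h)
    · rw [π_apply, fr_apply]; exact h

include hq hK

theorem card_diag :
    Nat.card ↥(chevD4.diagonalSubgroup K ⊓ twistedD4 K q) = (q - 1) ^ 2 * (q ^ 2 + q + 1) := by
  rw [eq_fix hq hK, inf_comm, card_torus]
  have h1 := hq.one_lt
  zify [Nat.one_le_pow 3 q (by omega), show 1 ≤ q by omega]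
  ring

theorem card_unip : Nat.card ↥(chevD4.posUnipotent K ⊓ twistedD4 K q) = q ^ 12 := by
  rw [Setup.unip_transfer (eq_fix hq hK),
    (setup hq hK).card_fixU_pow reps rfl (by decide) q wexp (num_eq hq hK)]
  rfl

theorem card_group :
    Nat.card ↥(twistedD4 K q) = q ^ 12 * (q ^ 2 - 1) * (q ^ 6 - 1) * (q ^ 8 + q ^ 4 + 1) := by
  rw [eq_fix hq hK, (setup hq hK).card_fix_pow ((setup hq hK).mkWeyl (w := cl) rfl ls ls_ok) reps rfl (by decide) q
    wexp (num_eq hq hK) (w := cl) rfl, card_torus]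
  have e : (ls.map fun L => ((negReps chevD4 reps (flatW cl L)).map wexp).sum) =
      [0, 1, 3, 4, 4, 5, 7, 8, 8, 9, 11, 12] := by decide +kernel
  show q ^ (reps.map wexp).sum * _ * ((ls.map fun L => ((negReps chevD4 reps (flatW cl L)).map wexp).sum).map
    fun n => q ^ n).sum = _
  rw [e, show (reps.map wexp).sum = 12 by decide]
  simp only [List.map_cons, List.map_nil, List.sum_cons, List.sum_nil]
  have h1 := hq.one_lt
  zify [Nat.one_le_pow 3 q (by omega), Nat.one_le_pow 2 q (by omega), Nat.one_le_pow 6 q (by omega),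
    show 1 ≤ q by omega]
  ring

theorem tf_ne {b : K} (hb : b ≠ 0) (r : ℕ) : tf hq hK b r ≠ 0 := by
  unfold tf
  split_ifs <;> simp [hb]

theorem triple_comm {G : Subgroup (GL chevD4.Idx K)} {b : K} (hb2 : b ^ 2 - 1 ≠ 0)
    (hh : (([18, 13, 12] : List ℕ).map fun r => hGL mem_data K r (tf hq hK b r)).prod ∈ G) {u : K}
    (hg : wordG (D := chevD4) mem_data [(18, u), (13, fr hq hK u), (12, fr hq hK (fr hq hK u))] ∈ G)
    (hne : ∀ r, tf hq hK b r ≠ 0) (t : K) (hu : u = t / (b ^ 2 - 1) := by rfl) :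
    wordG (D := chevD4) mem_data [(18, t), (13, fr hq hK t), (12, fr hq hK (fr hq hK t))] ∈ ⁅G, G⁆ := by
  rw [triple_eq] at hg ⊢
  have h := orth_comm mem_data (m := 0) (by simp) (R := [18, 13, 12]) (K := G) (by decide +kernel) (by decide +kernel)
    (tf hq hK b) (tf hq hK u) (fun r _ => hne r) hh hg
  convert h using 4 with r
  have e : b ^ 2 * u - u = t := by rw [hu]; field_simp
  rw [← e]
  unfold tf
  split_ifs <;> simp

theorem perfect : commutator ↥(twistedD4 K q) = ⊤ := by
  refine Setup.perfect_transfer (eq_fix hq hK) ?_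
  refine (setup hq hK).perfect (L0 := ([1, 0, 1, 0, 1, 0] : List (Fin 2))) ((setup hq hK).opp_of_ok (w := cl) rfl opp_ok)
    (fam_of hq hK (Subgroup.commutator_le_self _) (fun L => ?_) (fun t ht => ?_) fun t => ?_) ?_
  · obtain ⟨k, hk, h⟩ := (setup hq hK).C.word_lift (setup hq hK).lift L
    exact ⟨k, hk, fun x hx =>
      (Subgroup.mem_normalizer_iff.1 (Subgroup.normalizer_commutator_ge_left _ _ h) x).1 hx⟩
  · refine mem_comm_of_pair mem_data (r := 1) (s := 23) (M := -1) (by decide +kernel) (by decide +kernel)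
      (by decide) (by decide +kernel) (by decide +kernel) t (single_fix hq hK (by simp) ?_)
      (single_fix hq hK (by simp) (map_one _)) (by simp)
    simp [ht]
  · obtain ⟨b, hb, hb2⟩ := exists_sq_ne_one (K := K) (by
      rw [hK]; have := Nat.pow_le_pow_left hq.two_le 3; omega)
    refine triple_comm hq hK hb2 (triple_torus_mem hq hK (triple_fix hq hK) (ntriple_fix hq hK) b)
      (triple_fix hq hK (t / (b ^ 2 - 1))) (tf_ne hq hK hb) t
  · conv_lhs => rw [← eq_fix hq hK]
    refine genSubgroup_le mem_data fun w hw => ?_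
    obtain ⟨h1, h2 | h2⟩ := gen_cases hq hK hw
    · exact Subgroup.mem_sup_left ⟨h1, h2⟩
    · exact Subgroup.mem_sup_right ⟨h1, h2⟩

theorem bn_pair : ∃ P : Cfsg.BNPair ↥(twistedD4 K q),
    P.B = (chevD4.borelSubgroup K ⊓ twistedD4 K q).subgroupOf (twistedD4 K q) ∧
    P.N = (chevD4.monomialSubgroup K ⊓ twistedD4 K q).subgroupOf (twistedD4 K q) :=
  (setup hq hK).bn_transfer (eq_fix hq hK)

theorem weyl : ∃ φ : ↥(chevD4.monomialSubgroup K ⊓ twistedD4 K q) →* (CoxeterMatrix.G₂).Group,
    Function.Surjective φ ∧ φ.ker = (chevD4.diagonalSubgroup K ⊓ twistedD4 K q).subgroupOf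
      (chevD4.monomialSubgroup K ⊓ twistedD4 K q) :=
  (setup hq hK).weyl_transfer (eq_fix hq hK)
    ((setup hq hK).cox_of_ok (w := cl) rfl CoxeterMatrix.G₂ cox_ok)

theorem core_trivial : ((chevD4.borelSubgroup K ⊓ twistedD4 K q).subgroupOf (twistedD4 K q)).normalCore = ⊥ :=
  (setup hq hK).core_transfer (eq_fix hq hK) (L0 := ([1, 0, 1, 0, 1, 0] : List (Fin 2)))
    ((setup hq hK).opp_of_ok (w := cl) rfl opp_ok)

theorem simple_group : IsSimpleGroup ↥(twistedD4 K q) ∧ ¬ IsMulCommutative ↥(twistedD4 K q) := by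
  have hconn : ∀ J : Finset (Fin 2), J.Nonempty → J ≠ Finset.univ → ∃ i ∈ J, ∃ j, j ∉ J ∧ (i != j) = true := by
    decide
  refine Setup.simple_transfer (eq_fix hq hK) ((setup hq hK).simple
    ((setup hq hK).irreducible_of_ok (w := cl) rfl (fun i j : Fin 2 => i != j) adj_ok hconn)
    (L0 := ([1, 0, 1, 0, 1, 0] : List (Fin 2))) ((setup hq hK).opp_of_ok (w := cl) rfl opp_ok)
    (by show 0 < 2; norm_num) ?_)
  have := perfect hq hK
  rwa [eq_fix hq hK] at this

end CfsgLib.Chev.Twisted.TriD4
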