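import Cfsg.Agent.Lib.Chev.Twisted.Packed
import Cfsg.Agent.Lib.Chev.Twisted.E6Table
/-! Checked Weyl certificate of twisted E6. -/
set_option autoImplicit false
open Cfsg.Lie CfsgLib.Chev.Twisted
namespace CfsgLib.Chev.Twisted.UnitaryE6
open Packed
def reps : List ℕ := [56,42,57,39,43,58,44,59,46,47,50,61,51,62,53,64,67,60,63,65,68,69,70,71]
def cert : Packed.Cert := ⟨[[1],[3],[2,4],[0,5]], wtabs, reps ++ [37, 36], wkeys, wwords, wpars, wnxts, 1152, 208, 75, 25, 927, [0, 1, 3, 8, 24, 25]⟩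
theorem c1 : clOK chevE6 cert 4 = true := by decide +kernel
theorem c2 : tabOK chevE6 cert = true := by decide +kernel
theorem c3 : rootsOK chevE6 cert = true := by decide +kernel
theorem c4 : simpleOK chevE6 cert = true := by decide +kernel
theorem c8 : baseOK cert 4 = true := by decide +kernel
theorem c7 : distOK chevE6 cert = true := by decide +kernel
theorem c6 : closOK cert 4 = true := by decide +kernel
theorem c5 : recOK cert 4 = true := by decide +kernel
def lev : List ℕ := [0, 0, 0, 0, 0, 0, 0, 0, 0, 0, 0, 0, 0, 0, 0, 0, 0, 0, 0, 0, 0, 0, 0, 0, 0, 0, 0, 0, 0, 0, 0, 0, 0, 0, 0, 0, 0, 0, 1, 0, 1, 2, 0, 1, 2, 3, 0, 1, 2, 3, 2, 3, 4, 4, 5, 6, 0, 1, 2, 3, 4, 3, 4, 5, 5, 6, 7, 6, 7, 8, 9, 10]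

def free : List ℕ := [56, 42, 57, 43, 58, 59, 50, 61, 62, 64, 67, 68]

def wexp (a : ℕ) : ℕ := if free.contains a then 2 else 1

theorem hist : (List.range 37).map (fun j => ((List.range 1152).map (expOf chevE6 cert reps wexp)).count j) =
    [1, 2, 4, 6, 9, 13, 17, 22, 26, 32, 37, 43, 47, 51, 55, 58, 61, 61, 62, 61, 61, 58, 55, 51, 47, 43, 37, 32, 26,
      22, 17, 13, 9, 6, 4, 2, 1] := by decide +kernel

theorem hist_bound : ((List.range 1152).map (expOf chevE6 cert reps wexp)).all (fun x => decide (x < 37)) = true := by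
  decide +kernel

end CfsgLib.Chev.Twisted.UnitaryE6
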