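import Cfsg.Agent.Lib.Chev.Twisted.Base

/-! Checks and assembly: Weyl lists, orders, transfer to a subgroup equal to the fixed group. -/
set_option autoImplicit false
open Cfsg.Lie
open scoped Matrix MatrixGroups commutatorElement

namespace CfsgLib.Chev.Twisted

open CfsgLib.Chev CfsgLib.Chev.Checks CfsgLib.Chev.Basic

variable {D : ChevalleyDatum} {F : Type*} [Field F] {hD : D ∈ dataList} {S : Twist hD F}

theorem minus_iff_half (hD : D ∈ dataList) {l : List ℕ} (hl : ∀ i ∈ l, i < D.rank) {r : ℕ} (hr : D.IsPosRoot r) :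
    Canonical.Minus D l r ↔ N.act D l r < D.nroots / 2 :=
  ⟨fun h => (Weight.neg_iff hD h.2.1).1 h.2, fun h => ⟨hr, (Weight.neg_iff hD (N.act_lt hD hl hr.1)).2 h⟩⟩

/-- the roots of a direct family -/
def directOK (D : ChevalleyDatum) (lev reps l pre : List ℕ) (a : ℕ) (post : List ℕ) : Bool :=
  decide (N.act D l a < D.nroots / 2) && (pre ++ post).all fun e =>
    decide (e < D.nroots) && decide (D.nroots / 2 ≤ e) && decide (N.act D l e < D.nroots / 2) &&
      decide (lev.getD a 0 ≤ lev.getD e 0) && (!(lev.getD e 0 == lev.getD a 0) || !reps.contains e)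

theorem famOn_direct (O : Orbits S) {T : Subgroup (GL D.Idx F)} (hT : T ≤ S.fix) (lev reps : List ℕ)
    (hlev : O.lev = fun r => lev.getD r 0) (hreps : O.reps = reps) {l : List ℕ} (hl : ∀ i ∈ l, i < D.rank) {a : ℕ}
    (ha : a ∈ O.reps) (pre post : List (ℕ × (F → F)))
    (hok : directOK D lev reps l (pre.map Prod.fst) a (post.map Prod.fst) = true)
    (hmem : ∀ s, O.Adm a s → Classes.prodE hD (pre ++ (a, id) :: post) s ∈ T) :
    ∀ s, O.Adm a s → ∃ x ∈ T, x ∈ S.fix ∧ x ∈ RootGen.gen D F (O.PL (Canonical.Minus D l) (O.lev a)) ∧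
      coord hD x a = s ∧ ∀ b ∈ O.reps, b ≠ a → O.lev b = O.lev a → Canonical.Minus D l b → coord hD x b = 0 := by
  simp only [directOK, Bool.and_eq_true, decide_eq_true_eq, beq_iff_eq, List.all_eq_true, Bool.or_eq_true,
    Bool.not_eq_true', beq_eq_false_iff_ne, List.mem_append] at hok
  have hcl : Cl D F (Canonical.Minus D l) := cl_of_closed (Canonical.minus_closed hD hl)
  have hap := O.reps_pos a ha
  have ham : Canonical.Minus D l a := (minus_iff_half hD hl hap).2 hok.1
  have hrest : ∀ e ∈ pre ++ post, Canonical.Minus D l e.1 ∧ O.lev a ≤ O.lev e.1 ∧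
      (O.lev e.1 = O.lev a → e.1 ∉ O.reps) := fun e he => by
    obtain ⟨⟨⟨⟨h1, h2⟩, h3⟩, h4⟩, h5⟩ := hok.2 e.1 (by
      rcases List.mem_append.1 he with h | h
      exacts [Or.inl (List.mem_map_of_mem h), Or.inr (List.mem_map_of_mem h)])
    rw [hlev, hreps]
    refine ⟨(minus_iff_half hD hl ((Weight.pos_iff hD h1).2 h2)).2 h3, h4, fun he' hin => ?_⟩
    rcases h5 with h5 | h5
    exacts [h5 he', by simp [hin] at h5]
  intro s hs
  set es := pre ++ (a, id) :: post with hes
  have hgen : ∀ x ∈ es.map (fun e => xGL hD F e.1 (e.2 s)),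
      x ∈ RootGen.gen D F (O.PL (Canonical.Minus D l) (O.lev a)) := fun x hx => by
    obtain ⟨e, he, rfl⟩ := List.mem_map.1 hx
    refine RootGen.xGL_mem_gen hD ?_ _
    simp only [hes, List.mem_append, List.mem_cons] at he
    rcases he with h | rfl | h
    · exact ⟨(hrest e (List.mem_append_left _ h)).1, (hrest e (List.mem_append_left _ h)).2.1⟩
    · exact ⟨ham, le_rfl⟩
    · exact ⟨(hrest e (List.mem_append_right _ h)).1, (hrest e (List.mem_append_right _ h)).2.1⟩
  have hco : ∀ b ∈ O.reps, O.lev b = O.lev a → Canonical.Minus D l b →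
      coord hD (Classes.prodE hD es s) b = if b = a then s else 0 := by
    intro b hb hbl hbm
    have hlead := O.pl_lead hcl (L := O.lev a) hbl
    rw [Classes.prodE, coord_list_prod hD (O.pl_cl hcl _) ⟨hbm, hbl.ge⟩ hlead hgen, List.map_map]
    have hz : ∀ e ∈ pre ++ post, ((fun x => coord hD x b) ∘ fun e => xGL hD F e.1 (e.2 s)) e = 0 := by
      intro e he
      obtain ⟨h1, -, h4⟩ := hrest e he
      simp only [Function.comp_apply]
      rw [coord_x hD h1.1, if_neg]
      intro eb
      exact h4 (eb ▸ hbl) (eb ▸ hb)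
    rw [hes, List.map_append, List.sum_append, List.map_cons, List.sum_cons,
      List.sum_eq_zero (l := pre.map _) (fun x hx => by
        obtain ⟨e, he, rfl⟩ := List.mem_map.1 hx; exact hz e (List.mem_append_left _ he)),
      List.sum_eq_zero (l := post.map _) (fun x hx => by
        obtain ⟨e, he, rfl⟩ := List.mem_map.1 hx; exact hz e (List.mem_append_right _ he)),
      zero_add, add_zero]
    simp only [Function.comp_apply, id_eq]
    exact coord_x hD hap _ _
  refine ⟨_, hmem s hs, hT (hmem s hs), Subgroup.list_prod_mem _ hgen, ?_, fun b hb hba hbl hbm => ?_⟩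
  · rw [hco a ha rfl ham, if_pos rfl]
  · rw [hco b hb hbl hbm, if_neg hba]

/-- representatives made negative by a word -/
def negReps (D : ChevalleyDatum) (reps l : List ℕ) : List ℕ :=
  reps.filter fun a => decide (N.act D l a < D.nroots / 2)

theorem mem_negReps (O : Orbits S) {reps : List ℕ} (hreps : O.reps = reps) {l : List ℕ}
    (hl : ∀ i ∈ l, i < D.rank) {a : ℕ} (ha : a ∈ O.reps) (hm : Canonical.Minus D l a) : a ∈ negReps D reps l :=
  List.mem_filter.2 ⟨hreps ▸ ha, decide_eq_true ((minus_iff_half hD hl hm.1).1 hm)⟩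

/-- a word of negative roots with a distinguished simple image is nontrivial -/
theorem wordG_neg_ne (O : Orbits S) {l : List ℕ} (hl : ∀ i ∈ l, i < D.rank) {p0 : ℕ}
    (hp0 : p0 < D.nroots) (hpos : D.IsPosRoot (N.act D l p0)) (hlev : O.lev (N.act D l p0) = 0)
    {rest : List (ℕ × F)} (hrest : ∀ p ∈ rest, p.1 < D.nroots ∧ D.IsPosRoot (N.act D l p.1) ∧
      N.act D l p.1 ≠ N.act D l p0) {t : F} (ht : t ≠ 0) : wordG hD ((p0, t) :: rest) ≠ 1 := by
  intro h
  set b := N.act D l p0
  obtain ⟨η, hη, hc⟩ := N.nW_conj (F := F) hD hl hp0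
  have h' := congrArg (fun g => coord hD (MulAut.conj (N.nW hD F l) g) b) h
  simp only [wordG, List.map_cons, List.prod_cons, map_mul, map_one, coord_one, map_list_prod,
    List.map_map] at h'
  have hcl := O.pl_cl (cl_pos hD (F := F)) 0
  have hlead := O.pl_lead (cl_pos hD (F := F)) hlev
  have hrst : ∀ x ∈ rest.map ((⇑(MulAut.conj (N.nW hD F l))) ∘ fun p => xGL hD F p.1 p.2),
      x ∈ RootGen.gen D F (O.PL D.IsPosRoot 0) ∧ coord hD x b = 0 := fun x hx => by
    obtain ⟨p, hp, rfl⟩ := List.mem_map.1 hx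
    obtain ⟨h1, h2, h3⟩ := hrest p hp
    obtain ⟨η', -, hc'⟩ := N.nW_conj (F := F) hD hl h1
    simp only [Function.comp_apply, MulAut.conj_apply, hc']
    exact ⟨RootGen.xGL_mem_gen hD ⟨h2, Nat.zero_le _⟩ _, by rw [coord_x hD h2, if_neg (Ne.symm h3)]⟩
  rw [coord_mul hD hcl ⟨hpos, Nat.zero_le _⟩ hlead
      (by rw [MulAut.conj_apply, hc]; exact RootGen.xGL_mem_gen hD ⟨hpos, Nat.zero_le _⟩ _)
      (Subgroup.list_prod_mem _ fun x hx => (hrst x hx).1),
    coord_list_prod hD hcl ⟨hpos, Nat.zero_le _⟩ hlead (fun x hx => (hrst x hx).1),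
    List.sum_eq_zero (fun x hx => by obtain ⟨y, hy, rfl⟩ := List.mem_map.1 hx; exact (hrst y hy).2),
    add_zero, MulAut.conj_apply, hc, coord_x hD hpos, if_pos rfl] at h'
  rcases hη with rfl | rfl <;> simp [ht] at h'

/-- concatenation of class words -/
def flatW (w : List (List ℕ)) {k : ℕ} (L : List (Fin k)) : List ℕ := L.flatMap fun j => w.getD j.1 []

/-- check of a list of Weyl words -/
def weylOK (D : ChevalleyDatum) (w : List (List ℕ)) {k : ℕ} (Ls : List (List (Fin k))) : Bool :=
  ((List.finRange Ls.length).any fun i => sameB D (flatW w (Ls.get i)) []) &&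
  (List.finRange Ls.length).all fun i =>
    ((List.finRange k).all fun j => (List.finRange Ls.length).any fun i' =>
      sameB D (w.getD j.1 [] ++ flatW w (Ls.get i)) (flatW w (Ls.get i'))) &&
    (List.finRange Ls.length).all fun i' => (i == i') || !sameB D (flatW w (Ls.get i)) (flatW w (Ls.get i'))

/-- check of a Coxeter matrix -/
def coxOK (D : ChevalleyDatum) (w : List (List ℕ)) {k : ℕ} (M : Fin k → Fin k → ℕ) : Bool :=
  (List.finRange k).all fun i => (List.finRange k).all fun j =>
    decide (0 < M i j) && sameB D (flatW w (List.replicate (M i j) [i, j]).flatten) [] &&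
      (List.range (M i j)).all fun n => n == 0 || !sameB D (flatW w (List.replicate n [i, j]).flatten) []

/-- check of an opposite word -/
def oppOK (D : ChevalleyDatum) (l : List ℕ) : Bool :=
  (List.range D.nroots).all fun r => decide (r < D.nroots / 2) || decide (N.act D l r < D.nroots / 2)

namespace Setup

variable (E : Setup S)

theorem flat_eq {w : List (List ℕ)} (hw : E.C.w = fun j => w.getD j.1 []) (L : List (Fin E.C.k)) :
    E.C.flat L = flatW w L := by
  rw [Classes.flat, flatW, hw]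

theorem opp_of_ok {w : List (List ℕ)} (hw : E.C.w = fun j => w.getD j.1 []) {L0 : List (Fin E.C.k)}
    (h : oppOK D (flatW w L0) = true) : ∀ r, D.IsPosRoot r → D.IsNegRoot (N.act D (E.C.flat L0) r) := by
  intro r hr
  simp only [oppOK, List.all_eq_true, List.mem_range, Bool.or_eq_true, decide_eq_true_eq] at h
  refine (Weight.neg_iff hD (N.act_lt hD (E.C.flat_lt L0) hr.1)).2 ?_
  rw [E.flat_eq hw]
  exact (h r hr.1).resolve_left (Nat.not_lt.2 ((Weight.pos_iff hD hr.1).1 hr))

/-- a checked list of Weyl words -/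
def mkWeyl {w : List (List ℕ)} (hw : E.C.w = fun j => w.getD j.1 []) (Ls : List (List (Fin E.C.k)))
    (h : weylOK D w Ls = true) : E.WeylList where
  Ls := Ls
  nil := by
    simp only [weylOK, Bool.and_eq_true, List.any_eq_true, List.all_eq_true, List.mem_finRange, true_and] at h
    obtain ⟨i, hi⟩ := h.1
    refine ⟨i, same_of_sameB hD (E.C.flat_lt _) (by simp) ?_⟩
    rw [E.flat_eq hw]; exact hi
  closed i j := by
    simp only [weylOK, Bool.and_eq_true, List.any_eq_true, List.all_eq_true, List.mem_finRange, true_and,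
      forall_const] at h
    obtain ⟨i', hi'⟩ := (h.2 i).1 j
    refine ⟨i', same_of_sameB hD (Weyl.mem_append_lt (E.C.w_lt j) (E.C.flat_lt _)) (E.C.flat_lt _) ?_⟩
    rw [E.flat_eq hw, E.flat_eq hw, hw]; exact hi'
  dist i i' hs := by
    simp only [weylOK, Bool.and_eq_true, List.any_eq_true, List.all_eq_true, List.mem_finRange, true_and,
      forall_const, Bool.or_eq_true, beq_iff_eq, Bool.not_eq_true'] at h
    refine ((h.2 i).2 i').resolve_right fun e => ?_
    have e2 := sameB_of_same hD hs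
    rw [E.flat_eq hw, E.flat_eq hw, e] at e2
    exact Bool.noConfusion e2

theorem cox_of_ok {w : List (List ℕ)} (hw : E.C.w = fun j => w.getD j.1 []) (M : CoxeterMatrix (Fin E.C.k))
    (h : coxOK D w (fun i j => M i j) = true) :
    ∃ φ : ↥E.bnPair.N →* M.Group, Function.Surjective φ ∧
      φ.ker = (E.bnPair.B ⊓ E.bnPair.N).subgroupOf E.bnPair.N := by
  simp only [coxOK, Bool.and_eq_true, List.all_eq_true, List.mem_finRange, List.mem_range, forall_const,
    decide_eq_true_eq, Bool.or_eq_true, beq_iff_eq, Bool.not_eq_true'] at h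
  refine E.exists_weyl M (fun i j => (h i j).1.1) (fun i j => ?_) fun i j n hn hs => ?_
  · refine same_of_sameB hD (E.C.flat_lt _) (by simp) ?_
    rw [E.flat_eq hw]; exact (h i j).1.2
  · refine ((h i j).2 n hn).resolve_right fun e => ?_
    have e2 := sameB_of_same hD hs
    rw [E.flat_eq hw, e] at e2
    exact Bool.noConfusion e2

theorem irreducible_of_ok {w : List (List ℕ)} (hw : E.C.w = fun j => w.getD j.1 [])
    (adj : Fin E.C.k → Fin E.C.k → Bool)
    (h : ∀ i j, adj i j = true → sameB D (flatW w [i, j, i, j]) [] = false)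
    (hconn : ∀ J : Finset (Fin E.C.k), J.Nonempty → J ≠ Finset.univ → ∃ i ∈ J, ∃ j, j ∉ J ∧ adj i j = true) :
    E.bnPair.Irreducible :=
  E.irreducible adj (fun i j hij hs => by
    have e2 := sameB_of_same hD hs
    rw [E.flat_eq hw, h i j hij] at e2
    exact Bool.noConfusion e2) hconn

theorem card_fixU_pow [Finite F] (reps : List ℕ) (hreps : E.O.reps = reps) (hnd : reps.Nodup) (Q : ℕ) (e : ℕ → ℕ)
    (hnum : ∀ a ∈ reps, E.O.num a = Q ^ e a) :
    Nat.card ↥(S.fix ⊓ D.posUnipotent F) = Q ^ (reps.map e).sum := by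
  rw [E.O.card_fixU E.fam, hreps, List.prod_toFinset _ hnd]
  clear hreps hnd
  induction reps with
  | nil => simp
  | cons a l ih =>
    rw [List.map_cons, List.prod_cons, List.map_cons, List.sum_cons, pow_add, hnum a List.mem_cons_self,
      ih fun b hb => hnum b (List.mem_cons_of_mem _ hb)]

theorem card_minus_pow [Finite F] (reps : List ℕ) (hreps : E.O.reps = reps) (hnd : reps.Nodup) (Q : ℕ) (e : ℕ → ℕ)
    (hnum : ∀ a ∈ reps, E.O.num a = Q ^ e a) (L : List (Fin E.C.k)) {w : List (List ℕ)}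
    (hw : E.C.w = fun j => w.getD j.1 []) :
    Nat.card ↥(S.fix ⊓ RootGen.gen D F (Canonical.Minus D (E.C.flat L))) =
      Q ^ ((negReps D reps (flatW w L)).map e).sum := by
  classical
  rw [E.O.card_minus E.fam (E.C.flat_lt L) (E.comm L)]
  have hset : E.O.above (Canonical.Minus D (E.C.flat L)) 0 = (negReps D reps (flatW w L)).toFinset := by
    ext a
    rw [Orbits.mem_above, List.mem_toFinset, negReps, List.mem_filter, decide_eq_true_eq, hreps, ← E.flat_eq hw]
    refine ⟨fun h => ⟨h.1, (minus_iff_half hD (E.C.flat_lt L) h.2.2.1).1 h.2.2⟩, fun h => ⟨h.1, Nat.zero_le _,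
      (minus_iff_half hD (E.C.flat_lt L) (E.O.reps_pos a (hreps ▸ h.1))).2 h.2⟩⟩
  rw [hset, List.prod_toFinset _ (show (negReps D reps (flatW w L)).Nodup from hnd.filter _)]
  have hmem : ∀ a ∈ negReps D reps (flatW w L), E.O.num a = Q ^ e a := fun a ha => hnum a (List.mem_filter.1 ha).1
  generalize negReps D reps (flatW w L) = l at hmem
  induction l with
  | nil => simp
  | cons a l ih =>
    rw [List.map_cons, List.prod_cons, List.map_cons, List.sum_cons, pow_add, hmem a List.mem_cons_self,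
      ih fun b hb => hmem b (List.mem_cons_of_mem _ hb)]

/-- the order as a list sum -/
theorem card_fix_pow [Finite F] (W : E.WeylList) (reps : List ℕ) (hreps : E.O.reps = reps) (hnd : reps.Nodup) (Q : ℕ)
    (e : ℕ → ℕ) (hnum : ∀ a ∈ reps, E.O.num a = Q ^ e a) {w : List (List ℕ)}
    (hw : E.C.w = fun j => w.getD j.1 []) :
    Nat.card ↥S.fix = Q ^ (reps.map e).sum * Nat.card ↥(S.fix ⊓ D.diagonalSubgroup F) *
      ((W.Ls.map fun L => ((negReps D reps (flatW w L)).map e).sum).map fun n => Q ^ n).sum := by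
  rw [E.card_fix W, E.card_fixU_pow reps hreps hnd Q e hnum]
  congr 1
  rw [List.map_map, ← sum_get]
  exact Finset.sum_congr rfl fun i _ => E.card_minus_pow reps hreps hnd Q e hnum _ hw

variable {T : Subgroup (GL D.Idx F)}

include E in
theorem bn_transfer (hT : T = S.fix) :
    ∃ P : Cfsg.BNPair ↥T, P.B = (D.borelSubgroup F ⊓ T).subgroupOf T ∧
      P.N = (D.monomialSubgroup F ⊓ T).subgroupOf T := by
  subst hT
  exact ⟨E.bnPair, (Subgroup.inf_subgroupOf_right _ _).symm, (Subgroup.inf_subgroupOf_right _ _).symm⟩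

theorem unip_transfer (hT : T = S.fix) :
    Nat.card ↥(D.posUnipotent F ⊓ T) = Nat.card ↥(S.fix ⊓ D.posUnipotent F) := by
  subst hT; rw [inf_comm]

theorem core_transfer (hT : T = S.fix) {L0 : List (Fin E.C.k)}
    (hL0 : ∀ r, D.IsPosRoot r → D.IsNegRoot (N.act D (E.C.flat L0) r)) :
    ((D.borelSubgroup F ⊓ T).subgroupOf T).normalCore = ⊥ := by
  subst hT
  rw [Subgroup.inf_subgroupOf_right]
  exact E.core hL0

theorem weyl_transfer (hT : T = S.fix) {B : Type*} {M : CoxeterMatrix B}
    (h : ∃ φ : ↥E.bnPair.N →* M.Group, Function.Surjective φ ∧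
      φ.ker = (E.bnPair.B ⊓ E.bnPair.N).subgroupOf E.bnPair.N) :
    ∃ φ : ↥(D.monomialSubgroup F ⊓ T) →* M.Group, Function.Surjective φ ∧
      φ.ker = (D.diagonalSubgroup F ⊓ T).subgroupOf (D.monomialSubgroup F ⊓ T) := by
  subst hT
  obtain ⟨φ, hφ, hk⟩ := h
  let i : ↥(D.monomialSubgroup F ⊓ S.fix) →* ↥E.bnPair.N :=
    { toFun := fun x => ⟨⟨x, x.2.2⟩, Subgroup.mem_subgroupOf.2 x.2.1⟩
      map_one' := rfl
      map_mul' := fun _ _ => rfl }
  have hi : Function.Surjective i := fun y =>
    ⟨⟨((y : ↥S.fix) : GL D.Idx F), Subgroup.mem_subgroupOf.1 y.2, (y : ↥S.fix).2⟩, rfl⟩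
  refine ⟨φ.comp i, hφ.comp hi, Subgroup.ext fun x => ?_⟩
  rw [MonoidHom.mem_ker, MonoidHom.comp_apply, ← MonoidHom.mem_ker, hk, Subgroup.mem_subgroupOf, Subgroup.mem_inf,
    Subgroup.mem_subgroupOf, Subgroup.mem_inf]
  refine ⟨fun hx => ⟨(BN.inf_monomial hD).le ⟨Subgroup.mem_subgroupOf.1 hx.1, x.2.1⟩, x.2.2⟩, fun hx => ⟨?_, ?_⟩⟩
  · exact Subgroup.mem_subgroupOf.2 (Subgroup.mem_sup_right hx.1)
  · exact (i x).2

theorem perfect_transfer (hT : T = S.fix) (h : commutator ↥S.fix = ⊤) : commutator ↥T = ⊤ := by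
  subst hT; exact h

theorem simple_transfer (hT : T = S.fix) (h : IsSimpleGroup ↥S.fix ∧ ¬ IsMulCommutative ↥S.fix) :
    IsSimpleGroup ↥T ∧ ¬ IsMulCommutative ↥T := by
  subst hT; exact h

end Setup

theorem wordG_zero (hD : D ∈ dataList) (R : List ℕ) : wordG hD (R.map fun r => (r, (0 : F))) = 1 :=
  List.prod_eq_one fun y hy => by
    simp only [List.map_map, List.mem_map, Function.comp_apply] at hy
    obtain ⟨r, -, rfl⟩ := hy
    exact xGL_zero hD _

/-- torus elements of an orthogonal class act by squares -/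
theorem orth_torus_conj (hD : D ∈ dataList) {m : ℤ} (hm : (m : F) = 0) :
    ∀ R : List ℕ, orthB D m R = true → (∀ r ∈ R, D.pairing r r = 2) → ∀ f : ℕ → F, (∀ r ∈ R, f r ≠ 0) →
      ∀ r ∈ R, ∀ t, (R.map fun r => hGL hD F r (f r)).prod * xGL hD F r t *
        ((R.map fun r => hGL hD F r (f r)).prod)⁻¹ = xGL hD F r (f r ^ 2 * t)
  | [], _, _, _, _, r, hr, _ => by simp at hr
  | a :: R, h, h2, f, hf, r, hr, t => by
    obtain ⟨ha, hR, hc⟩ := orth_cons hD hm h
    have hcomm : ∀ s ∈ R, ∀ u, Commute (hGL hD F s (f s)) (xGL hD F a u) ∧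
        Commute (hGL hD F a (f a)) (xGL hD F s u) := fun s hs u => by
      constructor <;> simp only [hGL, nGL]
      · refine Commute.mul_left (Commute.mul_left (Commute.mul_left ?_ ?_) ?_)
          (Commute.mul_left (Commute.mul_left ?_ ?_) ?_) <;>
          exact (hc s hs _ (by simp) _ (by simp) _ _).symm
      · refine Commute.mul_left (Commute.mul_left (Commute.mul_left ?_ ?_) ?_)
          (Commute.mul_left (Commute.mul_left ?_ ?_) ?_) <;>
          exact (hc s hs _ (by simp) _ (by simp) _ _)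
    have hA : ∀ u, hGL hD F a (f a) * xGL hD F a u * (hGL hD F a (f a))⁻¹ = xGL hD F a (f a ^ 2 * u) := fun u => by
      rw [Weight.h_conj_GL hD ha ha (hf a List.mem_cons_self), h2 a List.mem_cons_self]
      norm_cast
    rw [List.map_cons, List.prod_cons]
    set P := (R.map fun r => hGL hD F r (f r)).prod with hP
    rw [show hGL hD F a (f a) * P * xGL hD F r t * (hGL hD F a (f a) * P)⁻¹ =
      hGL hD F a (f a) * (P * xGL hD F r t * P⁻¹) * (hGL hD F a (f a))⁻¹ by group]
    by_cases hra : r = a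
    · subst hra
      have hPc : Commute P (xGL hD F r t) := Commute.list_prod_left _ _ fun y hy => by
        obtain ⟨s, hs, rfl⟩ := List.mem_map.1 hy
        exact (hcomm s hs t).1
      rw [hPc.eq, mul_inv_cancel_right, hA]
    · have hrR : r ∈ R := (List.mem_cons.1 hr).resolve_left hra
      rw [hP, orth_torus_conj hD hm R hR (fun x hx => h2 x (List.mem_cons_of_mem _ hx)) f
        (fun x hx => hf x (List.mem_cons_of_mem _ hx)) r hrR t,
        (hcomm r hrR (f r ^ 2 * t)).2.eq, mul_inv_cancel_right]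

/-- a commutator of a torus element with an orthogonal class -/
theorem orth_comm (hD : D ∈ dataList) {m : ℤ} (hm : (m : F) = 0) {R : List ℕ} (hR : orthB D m R = true)
    (h2 : ∀ r ∈ R, D.pairing r r = 2) {K : Subgroup (GL D.Idx F)} (f g : ℕ → F) (hf : ∀ r ∈ R, f r ≠ 0)
    (hh : (R.map fun r => hGL hD F r (f r)).prod ∈ K) (hg : wordG hD (R.map fun r => (r, g r)) ∈ K) :
    wordG hD (R.map fun r => (r, f r ^ 2 * g r - g r)) ∈ ⁅K, K⁆ := by
  have h := Subgroup.commutator_mem_commutator hh hg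
  have hconj := wordG_torus hD (h := (R.map fun r => hGL hD F r (f r)).prod) (fun r => f r ^ 2)
    (R.map fun r => (r, g r)) fun p hp t => by
      obtain ⟨r, hr, rfl⟩ := List.mem_map.1 hp
      exact orth_torus_conj hD hm R hR h2 f hf r hr t
  rw [List.map_map] at hconj
  simp only [Function.comp_def] at hconj
  rw [commutatorElement_def, hconj] at h
  have hinv : (wordG hD (R.map fun r => (r, g r)))⁻¹ = wordG hD (R.map fun r => (r, -g r)) := by
    refine inv_eq_of_mul_eq_one_right ?_
    rw [orth_add hD hm R hR]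
    simp [wordG_zero]
  rw [hinv, orth_add hD hm R hR] at h
  simpa [sub_eq_add_neg] using h

end CfsgLib.Chev.Twisted
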