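import Cfsg.Agent.Lib.Chev.Twisted.Extra
import Cfsg.Agent.Lib.Chev.Twisted.Frob
import Cfsg.Agent.Lib.Chev.Twisted.Dihedral
import Cfsg.Prelude.Def_LieTwisted

/-! The large Ree groups `²F₄(q)`. -/
set_option autoImplicit false
open Cfsg.Lie
open scoped Matrix MatrixGroups commutatorElement

namespace CfsgLib.Chev.Twisted.ReeF4

open CfsgLib.Chev CfsgLib.Chev.Checks CfsgLib.Chev.Basic

def lev : List ℕ := [0, 0, 0, 0, 0, 0, 0, 0, 0, 0, 0, 0, 0, 0, 0, 0, 0, 0, 0, 0, 0, 0, 0, 0, 0, 0, 1, 0, 1, 2, 1, 2, 3, 0, 1, 2, 3, 3, 4, 5, 6, 2, 3, 4, 7, 5, 6, 7]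
def reps : List ℕ := [24, 25, 26, 28, 41, 31, 32, 36, 43, 45, 40, 44]
def cw : List (List ℕ) := [[1, 2, 1, 2], [0, 3]]
def cj : List (List ℕ) := [[1, 2], [0, 3]]
def opp : List (Fin 2) := [1, 0, 1, 0, 1, 0, 1, 0]
def ls : List (List (Fin 2)) := [[], [0], [1], [1, 0], [0, 1], [0, 1, 0], [1, 0, 1], [1, 0, 1, 0], [0, 1, 0, 1],
  [0, 1, 0, 1, 0], [1, 0, 1, 0, 1], [1, 0, 1, 0, 1, 0], [0, 1, 0, 1, 0, 1], [0, 1, 0, 1, 0, 1, 0],
  [1, 0, 1, 0, 1, 0, 1], [1, 0, 1, 0, 1, 0, 1, 0]]

theorem f4_tw : twOK chevF4 Aut.GData.f4 = true := by decide +kernel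
theorem orb_ok : orbitsOK chevF4 Aut.GData.f4 2 lev 8 reps reps = true := by decide +kernel
theorem cls_ok : classesOK chevF4 (Aut.gRoot Aut.GData.f4) cj cw = true := by decide +kernel
theorem ls_ok : weylOK chevF4 cw ls = true := by decide +kernel
theorem opp_ok : oppOK chevF4 (flatW cw opp) = true := by decide +kernel
theorem cox_ok : coxOK chevF4 cw (fun i j : Fin 2 => Dihedral.M8 i j) = true := by decide +kernel
theorem adj_ok : ∀ i j : Fin 2, (i != j) = true → sameB chevF4 (flatW cw [i, j, i, j]) [] = false := by decide +kernel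
theorem mem_data : chevF4 ∈ dataList := by simp [dataList]

variable {K : Type*} [Field K] [Fintype K] {m : ℕ} (hK : Fintype.card K = 2 ^ (2 * m + 1))

include hK in
theorem char_two : CharP K 2 := by
  haveI := Fact.mk Nat.prime_two
  obtain ⟨n, hp, hc⟩ := FiniteField.card K (ringChar K)
  have h : ringChar K ∣ 2 ^ (2 * m + 1) := by rw [← hK, hc]; exact dvd_pow_self _ n.ne_zero
  have h2 : ringChar K = 2 := (Nat.prime_dvd_prime_iff_eq hp Nat.prime_two).1 (hp.dvd_of_dvd_pow h)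
  exact h2 ▸ ringChar.charP K

include hK in
theorem two_zero : (2 : K) = 0 := by
  haveI := char_two hK
  exact_mod_cast CharP.cast_eq_zero K 2

include hK in
theorem add_self (x : K) : x + x = 0 := by rw [← two_mul, two_zero hK, zero_mul]

include hK in
theorem neg_self (x : K) : -x = x := neg_eq_of_add_eq_zero_left (add_self hK x)

include hK in
theorem exists_theta : ∃ f : K ≃+* K, ∀ x, f x = x ^ 2 ^ m := by
  haveI := char_two hK
  haveI := Fact.mk Nat.prime_two
  exact ⟨RingEquiv.ofBijective (iterateFrobenius K 2 m)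
    (Finite.injective_iff_bijective.1 (RingHom.injective _)), fun x => iterateFrobenius_def 2 m x⟩

/-- the map `θ` -/
noncomputable def th : K ≃+* K := (exists_theta hK).choose

theorem th_apply (x : K) : th hK x = x ^ 2 ^ m := (exists_theta hK).choose_spec x

theorem th2 (x : K) : th hK (th hK x) ^ 2 = x := by
  rw [th_apply, th_apply, ← pow_mul, ← pow_mul, show 2 ^ m * (2 ^ m * 2) = 2 ^ (2 * m + 1) by ring, ← hK]
  exact FiniteField.pow_card x

theorem th_sq (x : K) : th hK (th hK x ^ 2) = x := by rw [map_pow, th2]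

/-- the twist data -/
noncomputable def kind : Kind chevF4 K where
  G := Aut.GData.f4
  p := 2
  m := 2
  hm := by exact_mod_cast two_zero hK
  hp _ := ⟨char_two hK, Nat.prime_two⟩
  hrel := Aut.GData.f4_ok.1
  hdata := Aut.GData.f4_ok.2
  htw := f4_tw
  f := th hK

/-- the twist -/
noncomputable def tw : Twist (mem_data) K := mkTwist mem_data (kind hK)

theorem expo_cases : ∀ r < 48, Aut.gExpo Aut.GData.f4 r = 1 ∨ Aut.gExpo Aut.GData.f4 r = 2 := by decide +kernel

theorem π_apply {r : ℕ} (hr : r < 48) (t : K) : (tw hK).π r t = th hK (t ^ Aut.gExpo Aut.GData.f4 r) := by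
  show th hK (expHom K 2 (Aut.gExpo Aut.GData.f4 r) t) = _
  rw [expHom_apply (fun _ => ⟨char_two hK, Nat.prime_two⟩)]
  exact (expo_cases r hr).imp_right fun h => ⟨h, one_lt_two⟩

/-- the orbits -/
noncomputable def orbits : Orbits (tw hK) :=
  mkOrbits Aut.GData.f4 rfl rfl (m := 2) (by exact_mod_cast two_zero hK) lev 8 reps reps orb_ok

/-- the classes -/
noncomputable def classes : Classes (tw hK) := mkClasses rfl cj cw cls_ok

/-- coordinates of a pair -/
noncomputable def tf (t : K) (r : ℕ) : K := if r = 33 ∨ r = 14 ∨ r = 30 then th hK t else t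

def pairs : List (ℕ × ℕ) := [(33, 24), (14, 23)]

theorem pairs_ok : ∀ p ∈ pairs, orthB chevF4 2 [p.1, p.2] = true ∧
    ([p.1, p.2].map (Aut.gRoot Aut.GData.f4)).Perm [p.1, p.2] ∧ p.1 < 48 ∧ p.2 < 48 ∧
    Aut.gRoot Aut.GData.f4 p.1 = p.2 ∧ Aut.gRoot Aut.GData.f4 p.2 = p.1 ∧
    Aut.gSign Aut.GData.f4 p.1 = 1 ∧ Aut.gSign Aut.GData.f4 p.2 = 1 ∧
    Aut.gExpo Aut.GData.f4 p.1 = 2 ∧ Aut.gExpo Aut.GData.f4 p.2 = 1 ∧
    (p.1 = 33 ∨ p.1 = 14 ∨ p.1 = 30) ∧ ¬ (p.2 = 33 ∨ p.2 = 14 ∨ p.2 = 30) := by decide +kernel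

theorem pair_eq {p : ℕ × ℕ} (hp : p ∈ pairs) (t : K) : wordG (D := chevF4) mem_data [(p.1, th hK t), (p.2, t)] =
    wordG mem_data ([p.1, p.2].map fun r => (r, tf hK t r)) := by
  obtain ⟨-, -, -, -, -, -, -, -, -, -, h7, h8⟩ := pairs_ok p hp
  simp only [List.map_cons, List.map_nil, tf, if_pos h7, if_neg h8]

theorem pair_fix {p : ℕ × ℕ} (hp : p ∈ pairs) (t : K) :
    wordG (D := chevF4) mem_data [(p.1, th hK t), (p.2, t)] ∈ (tw hK).fix := by
  obtain ⟨h1, h2, l1, l2, h3, h4, h5, h6, e1, e2, h7, h8⟩ := pairs_ok p hp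
  rw [pair_eq hK hp]
  refine orth_fixed (tw hK) (m := 2) (by exact_mod_cast two_zero hK) h1 h2 _ fun r hr => ?_
  simp only [List.mem_cons, List.not_mem_nil, or_false] at hr
  show tf hK t (Aut.gRoot Aut.GData.f4 r) = (Aut.gSign Aut.GData.f4 r : K) * (tw hK).π r (tf hK t r)
  rcases hr with rfl | rfl
  · rw [π_apply hK l1, h3, h5, e1, tf, tf, if_pos h7, if_neg h8, th_sq, Int.cast_one, one_mul]
  · rw [π_apply hK l2, h4, h6, e2, tf, tf, if_pos h7, if_neg h8, pow_one, Int.cast_one, one_mul]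

theorem pair_mem {p : ℕ × ℕ} (hp : p ∈ pairs) (t : K) :
    wordG (D := chevF4) mem_data [(p.1, th hK t), (p.2, t)] ∈ twistedF4 K (2 ^ m) := by
  refine wordG_mem mem_data (Or.inl ⟨t, ?_⟩)
  simp only [pairs, List.mem_cons, List.not_mem_nil, or_false] at hp
  rcases hp with rfl | rfl
  · exact Or.inl (by rw [th_apply]; rfl)
  · exact Or.inr (by rw [th_apply]; rfl)

/-- the roots of a class of type `B₂` -/
structure Quad where
  a : ℕ
  b : ℕ
  c : ℕ
  d : ℕ

def Pq : Quad := ⟨27, 25, 28, 30⟩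
def Nq : Quad := ⟨20, 22, 19, 17⟩

/-- the checked properties of such a class -/
def quadOK (Q : Quad) : Bool :=
  ((chevF4.commTerms Q.a Q.b).map (fun c => (c.1, c.2.1 % 2, c.2.2)) == [(Q.c, 1, 1, 1), (Q.d, 1, 2, 1)]) &&
  ([(Q.a, Q.c), (Q.a, Q.d), (Q.b, Q.c), (Q.b, Q.d), (Q.c, Q.d)].all fun p =>
    decide (p.1 < 48) && decide (p.2 < 48) && p.2 != chevF4.neg p.1 &&
      (chevF4.commTerms p.1 p.2).all fun c => c.2.1 % 2 == 0) &&
  decide (Q.a < 48) && decide (Q.b < 48) && Q.b != Q.a && Q.b != chevF4.neg Q.a &&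
  ([(Q.a, Q.b, 2), (Q.b, Q.a, 1), (Q.c, Q.d, 2), (Q.d, Q.c, 1)].all fun p =>
    Aut.gRoot Aut.GData.f4 p.1 == p.2.1 && Aut.gExpo Aut.GData.f4 p.1 == p.2.2 &&
      Aut.gSign Aut.GData.f4 p.1 == 1)

theorem Pq_ok : quadOK Pq = true := by decide +kernel
theorem Nq_ok : quadOK Nq = true := by decide +kernel

variable {Q : Quad} (hQ : quadOK Q = true)

/-- a root element -/
noncomputable abbrev xx (r : ℕ) (t : K) : GL chevF4.Idx K := xGL mem_data K r t

include hK hQ in
theorem quad_comm (t u : K) : Commute (xx Q.a t) (xx Q.c u) ∧ Commute (xx Q.a t) (xx Q.d u) ∧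
    Commute (xx Q.b t) (xx Q.c u) ∧ Commute (xx Q.b t) (xx Q.d u) ∧ Commute (xx Q.c t) (xx Q.d u) := by
  simp only [quadOK, Bool.and_eq_true, decide_eq_true_eq, List.all_cons, List.all_nil, beq_iff_eq, bne_iff_ne,
    List.all_eq_true, and_true] at hQ
  have key : ∀ r s : ℕ, r < 48 → s < 48 → s ≠ chevF4.neg r → (∀ c ∈ chevF4.commTerms r s, c.2.1 % 2 = 0) →
      Commute (xx (K := K) r t) (xx s u) := fun r s hr hs hne h =>
    commute_x mem_data hr hs hne (fun c hc => by
      rw [← Aut.cast_mod (m := 2) (by exact_mod_cast two_zero hK), h c hc, Int.cast_zero]) t u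
  obtain ⟨⟨⟨⟨⟨⟨-, ⟨⟨⟨a1, a2⟩, a3⟩, a4⟩, ⟨⟨⟨b1, b2⟩, b3⟩, b4⟩, ⟨⟨⟨c1, c2⟩, c3⟩, c4⟩, ⟨⟨⟨d1, d2⟩, d3⟩, d4⟩,
    ⟨⟨e1, e2⟩, e3⟩, e4⟩, -⟩, -⟩, -⟩, -⟩, -⟩ := hQ
  exact ⟨key _ _ a1 a2 a3 a4, key _ _ b1 b2 b3 b4, key _ _ c1 c2 c3 c4, key _ _ d1 d2 d3 d4, key _ _ e1 e2 e3 e4⟩

include hK hQ in
theorem quad_swap (s t : K) :
    xx Q.b s * xx Q.a t = xx Q.a t * xx Q.b s * (xx Q.c (t * s) * xx Q.d (t ^ 2 * s)) := by
  simp only [quadOK, Bool.and_eq_true, decide_eq_true_eq, beq_iff_eq, bne_iff_ne] at hQ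
  obtain ⟨⟨⟨⟨⟨⟨h1, -⟩, h2⟩, h3⟩, h4⟩, h5⟩, -⟩ := hQ
  rw [Rel.comm_GL mem_data h2 h3 h4 h5 t s]
  congr 1
  have e : chevF4.commWord K Q.a Q.b t s =
      ((chevF4.commTerms Q.a Q.b).map (fun c => (c.1, c.2.1 % 2, c.2.2))).map
        fun c : ℕ × ℤ × ℕ × ℕ => (c.1, (c.2.1 : K) * t ^ c.2.2.1 * s ^ c.2.2.2) := by
    rw [ChevalleyDatum.commWord, List.map_map]
    refine List.map_congr_left fun c _ => ?_
    simp only [Function.comp_apply]
    rw [Aut.cast_mod (m := 2) (by exact_mod_cast two_zero hK), neg_self hK t]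
  rw [e, h1]
  simp [Rel.wordGL]

include hQ in
theorem quad_lt : Q.a < 48 ∧ Q.b < 48 ∧ Q.c < 48 ∧ Q.d < 48 := by
  simp only [quadOK, Bool.and_eq_true, decide_eq_true_eq, List.all_cons, List.all_nil, beq_iff_eq, bne_iff_ne,
    List.all_eq_true, and_true] at hQ
  obtain ⟨⟨⟨⟨⟨⟨-, -, -, -, -, ⟨⟨e1, e2⟩, -⟩, -⟩, a⟩, b⟩, -⟩, -⟩, -⟩ := hQ
  exact ⟨a, b, e1, e2⟩

/-- the first family of a class -/
noncomputable def W0 (Q : Quad) (t : K) : GL chevF4.Idx K :=
  xx Q.a (th hK t) * xx Q.b t * xx Q.c (th hK t * t)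

/-- the second family of a class -/
noncomputable def Z (Q : Quad) (u : K) : GL chevF4.Idx K := xx Q.c u * xx Q.d (th hK u ^ 2)

include hQ in
theorem sig_x (r s : ℕ) (e : ℕ) (h : (r, s, e) ∈ [(Q.a, Q.b, 2), (Q.b, Q.a, 1), (Q.c, Q.d, 2), (Q.d, Q.c, 1)]) (t : K) :
    (tw hK).sig (xx r t) = xx s (th hK (t ^ e)) := by
  obtain ⟨la, lb, lc, ld⟩ := quad_lt hQ
  have hr : r < 48 := by
    simp only [List.mem_cons, List.not_mem_nil, or_false, Prod.mk.injEq] at h
    omega
  simp only [quadOK, Bool.and_eq_true, decide_eq_true_eq, beq_iff_eq, bne_iff_ne, List.all_eq_true] at hQ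
  obtain ⟨⟨h1, h2⟩, h3⟩ := hQ.2 _ h
  rw [(tw hK).sig_x hr]
  show xx (Aut.gRoot Aut.GData.f4 r) ((Aut.gSign Aut.GData.f4 r : K) * (tw hK).π r t) = _
  rw [π_apply hK hr, h1, h2, h3, Int.cast_one, one_mul]

theorem xx_mem (r : ℕ) (t : K) : xx r t ∈ chevF4.group K := xGL_mem_group mem_data _ _

include hQ in
theorem Z_fix (u : K) : Z hK Q u ∈ (tw hK).fix := by
  obtain ⟨la, lb, lc, ld⟩ := quad_lt hQ
  refine (tw hK).mem_fix.2 ⟨mul_mem (xx_mem _ _) (xx_mem _ _), ?_⟩
  rw [Z, (tw hK).sig_mul (xx_mem _ _) (xx_mem _ _), sig_x hK hQ Q.c Q.d 2 (by simp), sig_x hK hQ Q.d Q.c 1 (by simp),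
    pow_one, th_sq, map_pow, ((quad_comm hK hQ u (th hK u ^ 2)).2.2.2.2).eq]

include hQ in
theorem W0_fix (t : K) : W0 hK Q t ∈ (tw hK).fix := by
  obtain ⟨la, lb, lc, ld⟩ := quad_lt hQ
  have hg : xx Q.a (th hK t) * xx Q.b t ∈ chevF4.group K := mul_mem (xx_mem _ _) (xx_mem _ _)
  refine (tw hK).mem_fix.2 ⟨mul_mem hg (xx_mem _ _), ?_⟩
  rw [W0, (tw hK).sig_mul hg (xx_mem _ _), (tw hK).sig_mul (xx_mem _ _) (xx_mem _ _),
    sig_x hK hQ Q.a Q.b 2 (by simp), sig_x hK hQ Q.b Q.a 1 (by simp), sig_x hK hQ Q.c Q.d 2 (by simp),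
    pow_one, th_sq, quad_swap hK hQ]
  have e : th hK ((th hK t * t) ^ 2) = th hK t ^ 2 * t := by rw [mul_pow, map_mul, th_sq, map_pow, mul_comm]
  have e0 : xx (K := K) Q.d (th hK t ^ 2 * t) * xx Q.d (th hK t ^ 2 * t) = 1 := by
    rw [Rel.xGL_add mem_data ld, add_self hK, xGL_zero]
  rw [e, mul_assoc (xx Q.a (th hK t) * xx Q.b t), mul_assoc (xx Q.c (th hK t * t)), e0, mul_one]

include hQ in
theorem W0_mul (x y : K) : W0 hK Q x * W0 hK Q y = W0 hK Q (x + y) * Z hK Q (th hK x * y) := by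
  obtain ⟨la, lb, lc, ld⟩ := quad_lt hQ
  have c1 := fun t u => (quad_comm hK hQ t u).1
  have c3 := fun t u => (quad_comm hK hQ t u).2.2.1
  have c4 := fun t u => (quad_comm hK hQ t u).2.2.2.1
  have c5 := fun t u => (quad_comm hK hQ t u).2.2.2.2
  have e1 : th hK (th hK x * y) ^ 2 = th hK y ^ 2 * x := by rw [map_mul, mul_pow, th2, mul_comm]
  have e2 : th hK y * x + (th hK x * x + th hK y * y) = th hK (x + y) * (x + y) + th hK x * y := by
    rw [map_add]; linear_combination (-(th hK x * y)) * two_zero hK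
  simp only [W0, Z, e1]
  calc xx Q.a (th hK x) * xx Q.b x * xx Q.c (th hK x * x) * (xx Q.a (th hK y) * xx Q.b y * xx Q.c (th hK y * y))
      = xx Q.a (th hK x) * xx Q.b x * (xx Q.c (th hK x * x) * xx Q.a (th hK y)) * xx Q.b y *
          xx Q.c (th hK y * y) := by group
    _ = xx Q.a (th hK x) * (xx Q.b x * xx Q.a (th hK y)) * (xx Q.c (th hK x * x) * xx Q.b y) *
          xx Q.c (th hK y * y) := by rw [← (c1 _ _).eq]; group
    _ = xx Q.a (th hK x) * xx Q.a (th hK y) * xx Q.b x * (xx Q.c (th hK y * x) * (xx Q.d (th hK y ^ 2 * x) *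
          xx Q.b y)) * (xx Q.c (th hK x * x) * xx Q.c (th hK y * y)) := by
          rw [quad_swap hK hQ, ← (c3 _ _).eq]; group
    _ = xx Q.a (th hK x) * xx Q.a (th hK y) * xx Q.b x * (xx Q.c (th hK y * x) * xx Q.b y) *
          (xx Q.d (th hK y ^ 2 * x) * (xx Q.c (th hK x * x) * xx Q.c (th hK y * y))) := by
          rw [← (c4 _ _).eq]; group
    _ = (xx Q.a (th hK x) * xx Q.a (th hK y)) * (xx Q.b x * xx Q.b y) *
          (xx Q.c (th hK y * x) * (xx Q.c (th hK x * x) * xx Q.c (th hK y * y))) * xx Q.d (th hK y ^ 2 * x) := by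
          rw [← (c3 _ _).eq, Rel.xGL_add mem_data lc, ← (c5 _ _).eq]; group
    _ = _ := by
          rw [Rel.xGL_add mem_data la, Rel.xGL_add mem_data lb, Rel.xGL_add mem_data lc, Rel.xGL_add mem_data lc,
            e2, ← Rel.xGL_add mem_data lc, map_add]
          group

theorem word_eq (Q : Quad) (hQ : quadOK Q = true) (t u : K) :
    wordG (D := chevF4) mem_data (b2ClassWord (2 ^ m) Q.a Q.b Q.c Q.d t u) = W0 hK Q t * Z hK Q u := by
  obtain ⟨la, lb, lc, ld⟩ := quad_lt hQ
  simp only [b2ClassWord, wordG, List.map_cons, List.map_nil, List.prod_cons, List.prod_nil, mul_one, W0, Z,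
    pow_succ t, th_apply, ← pow_mul, mul_comm (2 : ℕ) (2 ^ m)]
  rw [← Rel.xGL_add mem_data lc]
  simp only [mul_assoc]

theorem W0_mem {Q : Quad} (h : Q = Pq ∨ Q = Nq) (t : K) : W0 hK Q t ∈ twistedF4 K (2 ^ m) := by
  have hQ : quadOK Q = true := by rcases h with rfl | rfl; exacts [Pq_ok, Nq_ok]
  have hz : Z hK Q (0 : K) = 1 := by simp [Z, xx, xGL_zero]
  have e := word_eq hK Q hQ t 0
  rw [hz, mul_one] at e
  rw [← e]
  refine wordG_mem mem_data (Or.inr ⟨t, 0, ?_⟩)
  rcases h with rfl | rfl; exacts [Or.inl rfl, Or.inr rfl]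

theorem Z_mem {Q : Quad} (h : Q = Pq ∨ Q = Nq) (u : K) : Z hK Q u ∈ twistedF4 K (2 ^ m) := by
  have hQ : quadOK Q = true := by rcases h with rfl | rfl; exacts [Pq_ok, Nq_ok]
  have hz : W0 hK Q (0 : K) = 1 := by simp [W0, xx, xGL_zero]
  have e := word_eq hK Q hQ 0 u
  rw [hz, one_mul] at e
  rw [← e]
  refine wordG_mem mem_data (Or.inr ⟨0, u, ?_⟩)
  rcases h with rfl | rfl; exacts [Or.inl rfl, Or.inr rfl]

theorem signs : (∀ r ∈ [33, 24, 27, 25, 28, 30], chevF4.IsPosRoot r) ∧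
    (∀ r ∈ [14, 23, 20, 22, 19, 17], chevF4.IsNegRoot r) := by decide +kernel

/-- each generator is a fixed element of `U` or of `V` -/
theorem gen_cases {w : List (ℕ × K)} (hw : w ∈ f4Words K (2 ^ m)) : wordG mem_data w ∈ (tw hK).fix ∧
    (wordG mem_data w ∈ chevF4.posUnipotent K ∨ wordG mem_data w ∈ chevF4.negUnipotent K) := by
  rcases hw with ⟨t, h | h⟩ | ⟨t, u, h | h⟩ <;> subst h
  · refine ⟨?_, Or.inl (wordG_pos mem_data fun p hp => signs.1 p.1 ?_)⟩
    · have := pair_fix hK (p := (33, 24)) (by decide) t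
      rwa [th_apply] at this
    · simp only [f4PairWord, f4p1, f4p4, List.mem_cons, List.not_mem_nil, or_false] at hp
      rcases hp with rfl | rfl <;> simp
  · refine ⟨?_, Or.inr (wordG_neg mem_data fun p hp => signs.2 p.1 ?_)⟩
    · have := pair_fix hK (p := (14, 23)) (by decide) t
      rwa [th_apply] at this
    · simp only [f4PairWord, f4m1, f4m4, List.mem_cons, List.not_mem_nil, or_false] at hp
      rcases hp with rfl | rfl <;> simp
  · refine ⟨?_, Or.inl (wordG_pos mem_data fun p hp => signs.1 p.1 ?_)⟩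
    · show wordG mem_data (b2ClassWord (2 ^ m) Pq.a Pq.b Pq.c Pq.d t u) ∈ _
      rw [word_eq hK Pq Pq_ok]; exact mul_mem (W0_fix hK Pq_ok t) (Z_fix hK Pq_ok u)
    · simp only [b2ClassWord, f4a, f4b, f4ab, f4aab, List.mem_cons, List.not_mem_nil, or_false] at hp
      rcases hp with rfl | rfl | rfl | rfl <;> simp
  · refine ⟨?_, Or.inr (wordG_neg mem_data fun p hp => signs.2 p.1 ?_)⟩
    · show wordG mem_data (b2ClassWord (2 ^ m) Nq.a Nq.b Nq.c Nq.d t u) ∈ _
      rw [word_eq hK Nq Nq_ok]; exact mul_mem (W0_fix hK Nq_ok t) (Z_fix hK Nq_ok u)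
    · simp only [b2ClassWord, f4ma, f4mb, f4mab, f4maab, List.mem_cons, List.not_mem_nil, or_false] at hp
      rcases hp with rfl | rfl | rfl | rfl <;> simp

theorem le_fix : twistedF4 K (2 ^ m) ≤ (tw hK).fix := genSubgroup_le mem_data fun _ hw => (gen_cases hK hw).1

theorem W0_word (Q : Quad) (t : K) :
    W0 hK Q t = wordG (D := chevF4) mem_data [(Q.a, th hK t), (Q.b, t), (Q.c, th hK t * t)] := by
  simp [W0, wordG, mul_assoc, xx]

theorem Z_word (Q : Quad) (u : K) : Z hK Q u = wordG (D := chevF4) mem_data [(Q.c, u), (Q.d, th hK u ^ 2)] := by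
  simp [Z, wordG, xx]

theorem lifts : Lifts (classes hK) (twistedF4 K (2 ^ m)) := by
  set O := orbits hK
  set C := classes hK
  intro j
  have hj : j.1 = 0 ∨ j.1 = 1 := by have : j.1 < 2 := j.2; omega
  rcases hj with hj | hj
  · obtain rfl : j = ⟨0, by show 0 < 2; norm_num⟩ := Fin.ext hj
    refine C.exists_lift O (twistedF4 K (2 ^ m)) (le_fix hK) _ (fun a ha hm => ?_)
      (v := wordG mem_data [(20, th hK 1), (22, 1), (19, th hK 1 * 1)]) ?_ ?_ ?_
    · have hl : negReps chevF4 reps [1, 2, 1, 2] = [25, 28] := by decide +kernel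
      have := hl ▸ mem_negReps (hD := mem_data) O rfl (C.w_lt _) ha hm
      simp only [List.mem_cons, List.not_mem_nil, or_false] at this
      rcases this with rfl | rfl
      · exact famOn_direct O (le_fix hK) lev reps rfl rfl (C.w_lt _) ha [(27, fun s => th hK s)]
          [(28, fun s => th hK s * s)] (by show directOK chevF4 lev reps [1, 2, 1, 2] [27] 25 [28] = true; decide +kernel)
          fun s _ => by
            have h := W0_mem hK (Or.inl rfl) s
            rw [W0_word] at h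
            exact h
      · exact famOn_direct O (le_fix hK) lev reps rfl rfl (C.w_lt _) ha []
          [(30, fun s => th hK s ^ 2)] (by show directOK chevF4 lev reps [1, 2, 1, 2] [] 28 [30] = true; decide +kernel)
          fun s _ => by
            have h := Z_mem hK (Or.inl rfl) s
            rw [Z_word] at h
            exact h
    · have h := W0_mem hK (Or.inr rfl) (1 : K)
      rw [W0_word] at h
      exact h
    · exact wordG_neg_ne O (l := [1, 2, 1, 2]) (by decide +kernel) (by decide +kernel) (by decide +kernel) (by rfl)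
        (by simp only [List.mem_cons, List.not_mem_nil, or_false, forall_eq_or_imp, forall_eq]; decide +kernel)
        (by simp)
    · refine Subgroup.list_prod_mem _ fun x hx => ?_
      simp only [List.map_cons, List.map_nil, List.mem_cons, List.not_mem_nil, or_false] at hx
      rcases hx with rfl | rfl | rfl
      · exact RootGen.xGL_mem_gen mem_data ⟨by decide +kernel,
          (inB_iff (by decide +kernel)).1 (by show inB chevF4 [1, 2] 20 = true; decide +kernel)⟩ _
      · exact RootGen.xGL_mem_gen mem_data ⟨by decide +kernel,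
          (inB_iff (by decide +kernel)).1 (by show inB chevF4 [1, 2] 22 = true; decide +kernel)⟩ _
      · exact RootGen.xGL_mem_gen mem_data ⟨by decide +kernel,
          (inB_iff (by decide +kernel)).1 (by show inB chevF4 [1, 2] 19 = true; decide +kernel)⟩ _
  · obtain rfl : j = ⟨1, by show 1 < 2; norm_num⟩ := Fin.ext hj
    refine C.exists_lift O (twistedF4 K (2 ^ m)) (le_fix hK) _ (fun a ha hm => ?_)
      (v := wordG mem_data [(14, th hK 1), (23, 1)]) (pair_mem hK (p := (14, 23)) (by decide) 1) ?_ ?_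
    · have hl : negReps chevF4 reps [0, 3] = [24] := by decide +kernel
      obtain rfl : a = 24 := List.mem_singleton.1 (hl ▸ mem_negReps (hD := mem_data) O rfl (C.w_lt _) ha hm)
      exact famOn_direct O (le_fix hK) lev reps rfl rfl (C.w_lt _) ha [(33, fun s => th hK s)] []
        (by show directOK chevF4 lev reps [0, 3] [33] 24 [] = true; decide +kernel)
        fun s _ => pair_mem hK (p := (33, 24)) (by decide) s
    · exact wordG_neg_ne O (l := [0, 3]) (by decide +kernel) (by decide +kernel) (by decide +kernel) (by rfl)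
        (by simp only [List.mem_cons, List.not_mem_nil, or_false, forall_eq]; decide +kernel) (by simp)
    · refine Subgroup.list_prod_mem _ fun x hx => ?_
      simp only [List.map_cons, List.map_nil, List.mem_cons, List.not_mem_nil, or_false] at hx
      rcases hx with rfl | rfl
      · exact RootGen.xGL_mem_gen mem_data ⟨by decide +kernel,
          (inB_iff (by decide +kernel)).1 (by show inB chevF4 [0, 3] 14 = true; decide +kernel)⟩ _
      · exact RootGen.xGL_mem_gen mem_data ⟨by decide +kernel,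
          (inB_iff (by decide +kernel)).1 (by show inB chevF4 [0, 3] 23 = true; decide +kernel)⟩ _

/-- families from the basic ones -/
theorem fam_of {M : Subgroup (GL chevF4.Idx K)} (hM : M ≤ (tw hK).fix)
    (hn : ∀ L : List (Fin (classes hK).k), ∃ k ∈ chevF4.diagonalSubgroup K, ∀ x ∈ M,
      N.nW mem_data K ((classes hK).flat L) * k * x * (N.nW mem_data K ((classes hK).flat L) * k)⁻¹ ∈ M)
    (hp : ∀ t, wordG (D := chevF4) mem_data [(33, th hK t), (24, t)] ∈ M)
    (h1 : ∀ t, W0 hK Pq t ∈ M) (h2 : ∀ t, Z hK Pq t ∈ M) : (orbits hK).Fam M := by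
  intro a ha hpos s hs
  let j0 : Fin (classes hK).k := ⟨0, by show 0 < 2; norm_num⟩
  let j1 : Fin (classes hK).k := ⟨1, by show 1 < 2; norm_num⟩
  let Good : ℕ → Prop := fun b => ∀ s, (orbits hK).Adm b s → ∃ x ∈ M, x ∈ (tw hK).fix ∧
      x ∈ RootGen.gen chevF4 K ((orbits hK).PL chevF4.IsPosRoot ((orbits hK).lev b)) ∧
      coord mem_data x b = s ∧ ∀ c ∈ (orbits hK).reps, c ≠ b → (orbits hK).lev c = (orbits hK).lev b →
        coord mem_data x c = 0
  have fp : ∀ (b : ℕ) (L : List (Fin (classes hK).k)), b ∈ reps →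
      certOK chevF4 lev reps ((classes hK).flat L) [33] 24 [] b = true → Good b := fun b L hb hok =>
    fam_cert (orbits hK) hM lev reps rfl rfl hb ((classes hK).flat_lt L) (hn L) [(33, fun s => th hK s)] [] 24 hok
      fun s _ => hp s
  have f1 : ∀ (b : ℕ) (L : List (Fin (classes hK).k)), b ∈ reps →
      certOK chevF4 lev reps ((classes hK).flat L) [27] 25 [28] b = true → Good b := fun b L hb hok =>
    fam_cert (orbits hK) hM lev reps rfl rfl hb ((classes hK).flat_lt L) (hn L) [(27, fun s => th hK s)]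
      [(28, fun s => th hK s * s)] 25 hok fun s _ => by
        have h := h1 s
        rw [W0_word] at h
        exact h
  have f2 : ∀ (b : ℕ) (L : List (Fin (classes hK).k)), b ∈ reps →
      certOK chevF4 lev reps ((classes hK).flat L) [] 28 [30] b = true → Good b := fun b L hb hok =>
    fam_cert (orbits hK) hM lev reps rfl rfl hb ((classes hK).flat_lt L) (hn L) []
      [(30, fun s => th hK s ^ 2)] 28 hok fun s _ => by
        have h := h2 s
        rw [Z_word] at h
        exact h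
  have key : ∃ x ∈ M, x ∈ (tw hK).fix ∧
      x ∈ RootGen.gen chevF4 K ((orbits hK).PL chevF4.IsPosRoot ((orbits hK).lev a)) ∧
      coord mem_data x a = s ∧ ∀ c ∈ (orbits hK).reps, c ≠ a → (orbits hK).lev c = (orbits hK).lev a →
        coord mem_data x c = 0 := by
    have ha' : a ∈ reps := ha
    simp only [reps, List.mem_cons, List.not_mem_nil, or_false] at ha'
    rcases ha' with rfl | rfl | rfl | rfl | rfl | rfl | rfl | rfl | rfl | rfl | rfl | rfl
    · exact fp 24 [] (by decide) (by show certOK chevF4 lev reps [] [33] 24 [] 24 = true; decide +kernel) s hs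
    · exact f1 25 [] (by decide) (by show certOK chevF4 lev reps [] [27] 25 [28] 25 = true; decide +kernel) s hs
    · exact f1 26 [j1] (by decide) (by show certOK chevF4 lev reps [0, 3] [27] 25 [28] 26 = true; decide +kernel) s hs
    · exact f2 28 [] (by decide) (by show certOK chevF4 lev reps [] [] 28 [30] 28 = true; decide +kernel) s hs
    · exact f1 41 [j1, j0, j1] (by decide) (by show certOK chevF4 lev reps [0, 3, 1, 2, 1, 2, 0, 3] [27] 25 [28] 41 = true; decide +kernel) s hs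
    · exact f1 31 [j0, j1] (by decide) (by show certOK chevF4 lev reps [1, 2, 1, 2, 0, 3] [27] 25 [28] 31 = true; decide +kernel) s hs
    · exact fp 32 [j0] (by decide) (by show certOK chevF4 lev reps [1, 2, 1, 2] [33] 24 [] 32 = true; decide +kernel) s hs
    · exact f2 36 [j1] (by decide) (by show certOK chevF4 lev reps [0, 3] [] 28 [30] 36 = true; decide +kernel) s hs
    · exact fp 43 [j1, j0] (by decide) (by show certOK chevF4 lev reps [0, 3, 1, 2, 1, 2] [33] 24 [] 43 = true; decide +kernel) s hs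
    · exact fp 45 [j0, j1, j0] (by decide) (by show certOK chevF4 lev reps [1, 2, 1, 2, 0, 3, 1, 2, 1, 2] [33] 24 [] 45 = true; decide +kernel) s hs
    · exact f2 40 [j0, j1] (by decide) (by show certOK chevF4 lev reps [1, 2, 1, 2, 0, 3] [] 28 [30] 40 = true; decide +kernel) s hs
    · exact f2 44 [j1, j0, j1] (by decide) (by show certOK chevF4 lev reps [0, 3, 1, 2, 1, 2, 0, 3] [] 28 [30] 44 = true; decide +kernel) s hs
  obtain ⟨x, h1', h2', h3', h4', h5'⟩ := key
  exact ⟨x, h1', h2', h3', h4', fun b hb hba hl _ => h5' b hb hba hl⟩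

theorem fam_T : (orbits hK).Fam (twistedF4 K (2 ^ m)) :=
  fam_of hK (le_fix hK) (fun L => (classes hK).word_conj (lifts hK) L)
    (pair_mem hK (p := (33, 24)) (by decide)) (W0_mem hK (Or.inl rfl)) (Z_mem hK (Or.inl rfl))

def src : Fin 4 → Fin 4 := ![3, 2, 1, 0]

theorem src_bij : Function.Bijective src := Finite.injective_iff_bijective.1 (by decide)

theorem src_root : ∀ i : Fin 4, Aut.gRoot Aut.GData.f4 (chevF4.simple (src i).1) = chevF4.simple i.1 := by
  decide +kernel

/-- `θ` on units -/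
noncomputable def tu : Kˣ →* Kˣ := Units.map (th hK).toRingHom.toMonoidHom

theorem tu2 (x : Kˣ) : tu hK (tu hK x) ^ 2 = x := Units.ext (by simp [tu, th2])

/-- torus coordinates of the fixed elements -/
noncomputable def par (c e : Kˣ) : Fin chevF4.rank → Kˣ := fun i => [tu hK c, tu hK e, e, c].getD i.1 1

theorem torus_inj : Function.Injective (Torus.torusHom chevF4 K) := by
  rw [← MonoidHom.ker_eq_bot_iff]
  refine Subgroup.eq_bot_of_card_eq _ ?_
  rw [show Nat.card ↥(Torus.torusHom chevF4 K).ker = _ from Torus.ker_F4]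
  simp

theorem fixed_torus {h : GL chevF4.Idx K} (hh : h ∈ chevF4.diagonalSubgroup K) (hf : h ∈ (tw hK).fix) :
    ∃ c e : Kˣ, h = Torus.torusHom chevF4 K (par hK c e) := by
  obtain ⟨d, rfl⟩ := (Torus.range_torusHom mem_data).ge hh
  have hs := ((tw hK).mem_fix.1 hf).2
  rw [sig_torusHom (tw hK) src src_root src_bij d] at hs
  have hd := torus_inj hs
  let f : Fin 4 → Kˣ := d
  refine ⟨f 3, f 2, congrArg _ (funext fun i => ?_)⟩
  obtain ⟨i, hi⟩ := i
  have hi' : i < 4 := hi
  have hlt : chevF4.simple 3 = 24 ∧ chevF4.simple 2 = 25 := by decide +kernel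
  interval_cases i
  · refine (congrFun hd ⟨0, hi⟩).symm.trans (Units.ext ?_)
    show (tw hK).π (chevF4.simple 3) (f 3 : K) = th hK (f 3 : K)
    rw [hlt.1, π_apply hK (by norm_num), show Aut.gExpo Aut.GData.f4 24 = 1 by decide +kernel, pow_one]
  · refine (congrFun hd ⟨1, hi⟩).symm.trans (Units.ext ?_)
    show (tw hK).π (chevF4.simple 2) (f 2 : K) = th hK (f 2 : K)
    rw [hlt.2, π_apply hK (by norm_num), show Aut.gExpo Aut.GData.f4 25 = 1 by decide +kernel, pow_one]
  · rfl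
  · rfl

theorem par_mul (c c' e e' : Kˣ) : par hK (c * c') (e * e') = par hK c e * par hK c' e' := by
  funext i
  obtain ⟨i, hi⟩ := i
  have : i < 4 := hi
  interval_cases i <;> simp [par]

theorem par_one : par hK 1 1 = (1 : Fin chevF4.rank → Kˣ) := by
  funext i
  obtain ⟨i, hi⟩ := i
  have : i < 4 := hi
  interval_cases i <;> simp [par]

theorem par_pair (c : Kˣ) : par hK c 1 =
    Pi.mulSingle (⟨0, by decide⟩ : Fin chevF4.rank) (tu hK c) * Pi.mulSingle (⟨3, by decide⟩ : Fin chevF4.rank) c := by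
  funext i
  obtain ⟨i, hi⟩ := i
  have : i < 4 := hi
  interval_cases i <;> simp [par, Pi.mulSingle_apply, Fin.ext_iff]

theorem par_B (e : Kˣ) : par hK 1 e =
    Pi.mulSingle (⟨1, by decide⟩ : Fin chevF4.rank) (tu hK e) * Pi.mulSingle (⟨2, by decide⟩ : Fin chevF4.rank) e := by
  funext i
  obtain ⟨i, hi⟩ := i
  have : i < 4 := hi
  interval_cases i <;> simp [par, Pi.mulSingle_apply, Fin.ext_iff]

theorem pair_torus (c : Kˣ) : Torus.torusHom chevF4 K (par hK c 1) =
    (([33, 24] : List ℕ).map fun r => hGL mem_data K r (tf hK (c : K) r)).prod := by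
  rw [par_pair, map_mul, Torus.torus_simple mem_data, Torus.torus_simple mem_data,
    show chevF4.simple 0 = 33 by decide +kernel, show chevF4.simple 3 = 24 by decide +kernel]
  simp [tf, tu]

theorem pair_torus_mem {T : Subgroup (GL chevF4.Idx K)}
    (h1 : ∀ t, wordG (D := chevF4) mem_data [(33, th hK t), (24, t)] ∈ T)
    (h2 : ∀ t, wordG (D := chevF4) mem_data [(14, th hK t), (23, t)] ∈ T) (t : K) :
    (([33, 24] : List ℕ).map fun r => hGL mem_data K r (tf hK t r)).prod ∈ T := by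
  have n1 : chevF4.neg 33 = 14 ∧ chevF4.neg 24 = 23 := by decide +kernel
  refine orth_torus_mem mem_data (m := 2) (by exact_mod_cast two_zero hK) (by decide +kernel) (tf hK t) ?_ ?_ ?_ ?_
  · simpa [tf] using h1 t
  · simpa [tf, n1, map_inv₀] using h2 (-t⁻¹)
  · simpa using h1 (-1)
  · simpa [n1] using h2 1

theorem nW_conj_hGL {l : List ℕ} (hl : ∀ i ∈ l, i < chevF4.rank) {r : ℕ} (hr : r < chevF4.nroots) {t : K} (ht : t ≠ 0) :
    N.nW mem_data K l * hGL mem_data K r t * (N.nW mem_data K l)⁻¹ = hGL mem_data K (N.act chevF4 l r) t := by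
  induction l with
  | nil => simp [N.nW, N.act]
  | cons i l ih =>
    have hl' : ∀ j ∈ l, j < chevF4.rank := fun j hj => hl j (List.mem_cons_of_mem _ hj)
    rw [N.nW_cons, mul_inv_rev,
      show N.ni mem_data K i * N.nW mem_data K l * hGL mem_data K r t * ((N.nW mem_data K l)⁻¹ * (N.ni mem_data K i)⁻¹) =
        N.ni mem_data K i * (N.nW mem_data K l * hGL mem_data K r t * (N.nW mem_data K l)⁻¹) * (N.ni mem_data K i)⁻¹ by group,
      ih hl', N.conj_hGL_GL mem_data (hl i List.mem_cons_self) (N.act_lt mem_data hl' hr) ht, N.act_cons]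

include hK in
theorem exp_bij : Function.Bijective fun c : Kˣ => tu hK c ^ 2 * c ^ 2 := by
  refine Finite.injective_iff_bijective.1 ((injective_iff_map_eq_one
    (((powMonoidHom 2).comp (tu hK)) * powMonoidHom 2 : Kˣ →* Kˣ)).2 fun c hc => ?_)
  change tu hK c ^ 2 * c ^ 2 = 1 at hc
  have h1 : tu hK c * c = 1 := by
    rw [← mul_pow] at hc
    have h0 : ((tu hK c * c : Kˣ) : K) ^ 2 = 1 := by rw [← Units.val_pow_eq_pow_val, hc, Units.val_one]
    haveI := char_two hK
    exact Units.ext (CharTwo.sq_inj.1 (h0.trans (one_pow 2).symm))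
  have h2 : tu hK (tu hK c) = c := by
    rw [eq_inv_of_mul_eq_one_left h1, map_inv, eq_inv_of_mul_eq_one_left h1, inv_inv]
  have h3 := tu2 hK c
  rw [h2, pow_two] at h3
  exact mul_eq_left.1 h3

theorem par_mem (c e : Kˣ) : Torus.torusHom chevF4 K (par hK c e) ∈ twistedF4 K (2 ^ m) := by
  have hpair : ∀ c : Kˣ, Torus.torusHom chevF4 K (par hK c 1) ∈ twistedF4 K (2 ^ m) := fun c => by
    rw [pair_torus]
    exact pair_torus_mem hK (pair_mem hK (p := (33, 24)) (by decide)) (pair_mem hK (p := (14, 23)) (by decide)) c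
  have hB : ∀ e : Kˣ, Torus.torusHom chevF4 K (par hK 1 e) ∈ twistedF4 K (2 ^ m) := fun e => by
    obtain ⟨x, hx⟩ := (exp_bij hK).2 e
    obtain ⟨k, hk, hn⟩ := lifts hK ⟨0, by show 0 < 2; norm_num⟩
    have hconj := mul_mem (mul_mem hn (hpair x)) (inv_mem hn)
    have hcomm : k * Torus.torusHom chevF4 K (par hK x 1) * k⁻¹ = Torus.torusHom chevF4 K (par hK x 1) := by
      obtain ⟨d, rfl⟩ := (Torus.range_torusHom mem_data).ge hk
      rw [← map_mul, mul_comm, map_mul, mul_inv_cancel_right]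
    have hconj' : N.nW mem_data K [1, 2, 1, 2] * Torus.torusHom chevF4 K (par hK x 1) * (N.nW mem_data K [1, 2, 1, 2])⁻¹
        ∈ twistedF4 K (2 ^ m) := by
      rw [← hcomm]
      convert hconj using 1
      show _ = N.nW mem_data K [1, 2, 1, 2] * k * _ * (N.nW mem_data K [1, 2, 1, 2] * k)⁻¹
      group
    have e1 : N.nW mem_data K [1, 2, 1, 2] * Torus.torusHom chevF4 K (par hK x 1) * (N.nW mem_data K [1, 2, 1, 2])⁻¹ =
        Torus.torusHom chevF4 K (par hK x 1 * par hK 1 e) := by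
      have hl : ∀ i ∈ [1, 2, 1, 2], i < chevF4.rank := by decide +kernel
      rw [par_pair, map_mul, Torus.torus_simple mem_data, Torus.torus_simple mem_data,
        show chevF4.simple 0 = 33 by decide +kernel, show chevF4.simple 3 = 24 by decide +kernel,
        ← conj_mul, nW_conj_hGL hl (by decide +kernel) (Units.ne_zero _),
        nW_conj_hGL hl (by decide +kernel) (Units.ne_zero _),
        show N.act chevF4 [1, 2, 1, 2] 33 = 37 by decide +kernel, show N.act chevF4 [1, 2, 1, 2] 24 = 32 by decide +kernel,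
        ← Torus.torus_root mem_data (by decide +kernel), ← Torus.torus_root mem_data (by decide +kernel), ← map_mul]
      congr 1
      rw [← par_pair, ← par_mul, mul_one, one_mul]
      funext i
      obtain ⟨i, hi⟩ := i
      have : i < 4 := hi
      have hc : (List.range 4).map (fun i => (chevF4.coroot.getD 37 #[]).getD i 0) = [1, 2, 2, 0] ∧
          (List.range 4).map (fun i => (chevF4.coroot.getD 32 #[]).getD i 0) = [0, 1, 2, 1] := by decide +kernel
      simp [List.range_succ] at hc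
      obtain ⟨⟨a0, a1, a2, a3⟩, b0, b1, b2, b3⟩ := hc
      interval_cases i
      · simp [par, a0, b0, tu]
      · rw [← hx]
        simp [par, a1, b1, map_mul, map_pow, pow_two, zpow_ofNat]
        rw [← pow_two (tu hK (tu hK x)), tu2, mul_comm]
      · rw [← hx]
        simp [par, a2, b2, zpow_ofNat]
      · simp [par, a3, b3]
    rw [e1, map_mul] at hconj'
    have := mul_mem (inv_mem (hpair x)) hconj'
    rwa [inv_mul_cancel_left] at this
  have e0 : par hK c e = par hK c 1 * par hK 1 e := by rw [← par_mul, mul_one, one_mul]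
  rw [e0, map_mul]
  exact mul_mem (hpair c) (hB e)

theorem eq_fix : twistedF4 K (2 ^ m) = (tw hK).fix :=
  (classes hK).eq_fix (lifts hK) (le_fix hK)
    (fun g hg hgf => (orbits hK).mem_of_fam (fam_T hK) hg hgf)
    (fun h hh hf => by
      obtain ⟨c, e, rfl⟩ := fixed_torus hK hh hf
      exact par_mem hK c e)

theorem lift_fix : Lifts (classes hK) (tw hK).fix := fun j => by
  obtain ⟨k, hk, h⟩ := lifts hK j
  exact ⟨k, hk, le_fix hK h⟩

/-- the structure of the fixed group -/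
noncomputable def setup : Setup (tw hK) where
  O := orbits hK
  C := classes hK
  lift := lift_fix hK
  fam := fam_of hK le_rfl (fun L => (classes hK).word_conj (lift_fix hK) L)
    (pair_fix hK (p := (33, 24)) (by decide)) (W0_fix hK Pq_ok) (Z_fix hK Pq_ok)

/-- the parametrisation of the fixed torus -/
noncomputable def parHom : Kˣ × Kˣ →* GL chevF4.Idx K where
  toFun x := Torus.torusHom chevF4 K (par hK x.1 x.2)
  map_one' := by rw [Prod.fst_one, Prod.snd_one, par_one, map_one]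
  map_mul' x y := by rw [Prod.fst_mul, Prod.snd_mul, par_mul, map_mul]

theorem card_torus : Nat.card ↥((tw hK).fix ⊓ chevF4.diagonalSubgroup K) = (2 ^ (2 * m + 1) - 1) ^ 2 := by
  have hinj : Function.Injective (parHom hK) := fun x y h => by
    have h' := torus_inj h
    exact Prod.ext (congrFun h' (⟨3, by decide⟩ : Fin chevF4.rank)) (congrFun h' (⟨2, by decide⟩ : Fin chevF4.rank))
  have hr : (parHom hK).range = (tw hK).fix ⊓ chevF4.diagonalSubgroup K := by
    refine le_antisymm ?_ fun h hh => ?_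
    · rintro _ ⟨x, rfl⟩
      exact ⟨le_fix hK (par_mem hK x.1 x.2), (Torus.range_torusHom mem_data).le ⟨_, rfl⟩⟩
    · obtain ⟨c, e, rfl⟩ := fixed_torus hK hh.2 hh.1
      exact ⟨(c, e), rfl⟩
  rw [← hr, ← Nat.card_congr (MonoidHom.ofInjective hinj).toEquiv, Nat.card_prod, Nat.card_units,
    Nat.card_eq_fintype_card, hK, pow_two]

theorem num_eq : ∀ a ∈ reps, (orbits hK).num a = (2 ^ (2 * m + 1)) ^ 1 := by
  intro a ha
  rw [pow_one, ← hK, ← Nat.card_eq_fintype_card]
  exact Nat.card_congr (Equiv.subtypeUnivEquiv (p := (orbits hK).Adm a)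
    fun s => Or.inl (List.contains_iff_mem.2 ha))

include hK

theorem card_diag : Nat.card ↥(chevF4.diagonalSubgroup K ⊓ twistedF4 K (2 ^ m)) = (2 ^ (2 * m + 1) - 1) ^ 2 := by
  rw [eq_fix hK, inf_comm, card_torus]

theorem card_unip : Nat.card ↥(chevF4.posUnipotent K ⊓ twistedF4 K (2 ^ m)) = (2 ^ (2 * m + 1)) ^ 12 := by
  rw [Setup.unip_transfer (eq_fix hK), (setup hK).card_fixU_pow reps rfl (by decide) _ (fun _ => 1) (num_eq hK)]
  rfl

theorem card_group : Nat.card ↥(twistedF4 K (2 ^ m)) = (2 ^ (2 * m + 1)) ^ 12 * (2 ^ (2 * m + 1) - 1) *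
    ((2 ^ (2 * m + 1)) ^ 3 + 1) * ((2 ^ (2 * m + 1)) ^ 4 - 1) * ((2 ^ (2 * m + 1)) ^ 6 + 1) := by
  rw [eq_fix hK, (setup hK).card_fix_pow ((setup hK).mkWeyl (w := cw) rfl ls ls_ok) reps rfl (by decide) _
    (fun _ => 1) (num_eq hK) (w := cw) rfl, card_torus]
  have e : (ls.map fun L => ((negReps chevF4 reps (flatW cw L)).map fun _ => 1).sum) =
      [0, 2, 1, 3, 3, 5, 4, 6, 6, 8, 7, 9, 9, 11, 10, 12] := by decide +kernel
  show (2 ^ (2 * m + 1)) ^ (reps.map fun _ => 1).sum * _ *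
    ((ls.map fun L => ((negReps chevF4 reps (flatW cw L)).map fun _ => 1).sum).map fun n => (2 ^ (2 * m + 1)) ^ n).sum = _
  rw [e, show (reps.map fun _ => 1).sum = 12 by decide]
  generalize hQ : 2 ^ (2 * m + 1) = Q
  have h1 : 1 ≤ Q := hQ ▸ Nat.one_le_pow _ _ (by norm_num)
  simp only [List.map_cons, List.map_nil, List.sum_cons, List.sum_nil]
  zify [Nat.one_le_pow 4 Q h1, h1]
  ring

theorem bn_pair : ∃ P : Cfsg.BNPair ↥(twistedF4 K (2 ^ m)),
    P.B = (chevF4.borelSubgroup K ⊓ twistedF4 K (2 ^ m)).subgroupOf (twistedF4 K (2 ^ m)) ∧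
    P.N = (chevF4.monomialSubgroup K ⊓ twistedF4 K (2 ^ m)).subgroupOf (twistedF4 K (2 ^ m)) :=
  (setup hK).bn_transfer (eq_fix hK)

theorem core_trivial :
    ((chevF4.borelSubgroup K ⊓ twistedF4 K (2 ^ m)).subgroupOf (twistedF4 K (2 ^ m))).normalCore = ⊥ :=
  (setup hK).core_transfer (eq_fix hK) (L0 := opp) ((setup hK).opp_of_ok (w := cw) rfl opp_ok)

theorem weyl : ∃ φ : ↥(chevF4.monomialSubgroup K ⊓ twistedF4 K (2 ^ m)) →* DihedralGroup 8,
    Function.Surjective φ ∧ φ.ker = (chevF4.diagonalSubgroup K ⊓ twistedF4 K (2 ^ m)).subgroupOf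
      (chevF4.monomialSubgroup K ⊓ twistedF4 K (2 ^ m)) := by
  obtain ⟨φ, h1, h2⟩ := (setup hK).weyl_transfer (eq_fix hK)
    ((setup hK).cox_of_ok (w := cw) rfl Dihedral.M8 cox_ok)
  obtain ⟨h, hb⟩ := Dihedral.exists_iso
  refine ⟨h.comp φ, hb.2.comp h1, ?_⟩
  rw [← h2]
  ext x
  exact ⟨fun hx => hb.1 (hx.trans h.map_one.symm), fun hx => (congrArg h hx).trans h.map_one⟩

theorem perfect (hm : 1 ≤ m) : commutator ↥(twistedF4 K (2 ^ m)) = ⊤ := by
  have hcard : 8 ≤ Fintype.card K := by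
    rw [hK]; exact le_trans (by norm_num) (Nat.pow_le_pow_right (by norm_num) (show 3 ≤ 2 * m + 1 by omega))
  obtain ⟨b, hb, hb2⟩ := exists_sq_ne_one (K := K) (by omega)
  set G := (tw hK).fix
  have h20 : ((2 : ℤ) : K) = 0 := by exact_mod_cast two_zero hK
  have hP : ∀ t, wordG (D := chevF4) mem_data [(33, th hK t), (24, t)] ∈ ⁅G, G⁆ := fun t => by
    have h := orth_comm mem_data (m := 2) h20 (R := [33, 24]) (K := G) (by decide +kernel) (by decide +kernel)
      (tf hK b) (tf hK (t / (b ^ 2 - 1))) (fun r _ => by unfold tf; split_ifs <;> simp [hb])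
      (pair_torus_mem hK (pair_fix hK (p := (33, 24)) (by decide)) (pair_fix hK (p := (14, 23)) (by decide)) b)
      (by rw [← pair_eq hK (p := (33, 24)) (by decide)]; exact pair_fix hK (p := (33, 24)) (by decide) _)
    have e : b ^ 2 * (t / (b ^ 2 - 1)) - t / (b ^ 2 - 1) = t := by field_simp
    rw [pair_eq hK (p := (33, 24)) (by decide)]
    convert h using 4 with r
    conv_lhs => rw [← e]
    unfold tf
    split_ifs <;> simp
  have hp : chevF4.pairing 27 27 = 2 ∧ chevF4.pairing 27 25 = -2 ∧ chevF4.pairing 27 28 = 0 ∧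
      chevF4.pairing 27 30 = 2 ∧ chevF4.pairing 25 27 = -1 ∧ chevF4.pairing 25 25 = 2 ∧
      chevF4.pairing 25 28 = 1 ∧ chevF4.pairing 25 30 = 0 := by decide +kernel
  obtain ⟨p11, p12, p13, p14, p21, p22, p23, p24⟩ := hp
  let H : Kˣ → GL chevF4.Idx K := fun e =>
    hGL mem_data K 27 ((tu hK e : Kˣ) : K) * hGL mem_data K 25 (e : K)
  have hHG : ∀ e, H e ∈ G := fun e => by
    have hpB := le_fix hK (par_mem hK 1 e)
    rwa [par_B, map_mul, Torus.torus_simple mem_data, Torus.torus_simple mem_data,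
      show chevF4.simple 1 = 27 by decide +kernel, show chevF4.simple 2 = 25 by decide +kernel] at hpB
  have hc : ∀ (e : Kˣ) (r : ℕ), r < 48 → ∀ t, H e * xx r t * (H e)⁻¹ =
      xx r (th hK (e : K) ^ chevF4.pairing 27 r * ((e : K) ^ chevF4.pairing 25 r * t)) := fun e r hr t => by
    rw [show H e * xx r t * (H e)⁻¹ = hGL mem_data K 27 ((tu hK e : Kˣ) : K) * (hGL mem_data K 25 (e : K) * xx r t *
      (hGL mem_data K 25 (e : K))⁻¹) * (hGL mem_data K 27 ((tu hK e : Kˣ) : K))⁻¹ by simp only [H]; group,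
      Weight.h_conj_GL mem_data (by decide +kernel) hr e.ne_zero,
      Weight.h_conj_GL mem_data (by decide +kernel) hr (Units.ne_zero _)]
    rfl
  have hnorm : ∀ x ∈ G, ∀ y ∈ ⁅G, G⁆, x * y * x⁻¹ ∈ ⁅G, G⁆ := fun x hx y hy =>
    (Subgroup.mem_normalizer_iff.1 (Subgroup.normalizer_commutator_ge_left _ _ hx) _).1 hy
  have hbe : (Units.mk0 b hb : K) + 1 ≠ 0 := fun h => by
    rw [Units.val_mk0, ← eq_neg_iff_add_eq_zero, neg_self hK] at h
    exact hb2 (by rw [h]; simp)
  have hZ : ∀ u, Z hK Pq u ∈ ⁅G, G⁆ := fun u => by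
    set e := Units.mk0 b hb
    set x := u / ((e : K) + 1) with hxd
    have hx : (e : K) * x = u + x := by
      have : ((e : K) + 1) * x = u := by rw [hxd]; field_simp
      linear_combination this - x * two_zero hK
    have hconj : H e * Z hK Pq x * (H e)⁻¹ = Z hK Pq ((e : K) * x) := by
      have k1 : th hK (e : K) ^ (0 : ℤ) * ((e : K) ^ (1 : ℤ) * x) = e * x := by simp
      have k2 : th hK (e : K) ^ (2 : ℤ) * ((e : K) ^ (0 : ℤ) * th hK x ^ 2) = th hK ((e : K) * x) ^ 2 := by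
        simp [zpow_ofNat, mul_pow]
      simp only [Z, show Pq.c = 28 from rfl, show Pq.d = 30 from rfl]
      rw [show H e * (xx 28 x * xx 30 (th hK x ^ 2)) * (H e)⁻¹ =
        (H e * xx 28 x * (H e)⁻¹) * (H e * xx 30 (th hK x ^ 2) * (H e)⁻¹) by group,
        hc e 28 (by norm_num), hc e 30 (by norm_num), p13, p14, p23, p24, k1, k2]
    have hadd : Z hK Pq (u + x) = Z hK Pq u * Z hK Pq x := by
      have e2 : th hK (u + x) ^ 2 = th hK u ^ 2 + th hK x ^ 2 := by
        rw [map_add]; linear_combination (th hK u * th hK x) * two_zero hK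
      simp only [Z, xx]
      rw [e2, ← Rel.xGL_add mem_data (show Pq.c < chevF4.nroots by decide +kernel),
        ← Rel.xGL_add mem_data (show Pq.d < chevF4.nroots by decide +kernel),
        show xx Pq.c u * xx Pq.d (th hK u ^ 2) * (xx Pq.c x * xx Pq.d (th hK x ^ 2)) =
          xx Pq.c u * (xx Pq.d (th hK u ^ 2) * xx Pq.c x) * xx Pq.d (th hK x ^ 2) by group,
        ← (quad_comm hK Pq_ok x (th hK u ^ 2)).2.2.2.2.eq]
      group
    have hcm := Subgroup.commutator_mem_commutator (hHG e) (Z_fix hK Pq_ok x)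
    rwa [commutatorElement_def, hconj, hx, hadd, mul_inv_cancel_right] at hcm
  have hW : ∀ t, W0 hK Pq t ∈ ⁅G, G⁆ := fun t => by
    have hne : ∃ e : Kˣ, (e : K) ^ 2 / th hK (e : K) ^ 2 + 1 ≠ 0 := by
      refine ⟨Units.mk0 b hb, fun h => ?_⟩
      rw [← eq_neg_iff_add_eq_zero, neg_self hK, Units.val_mk0, div_eq_one_iff_eq (by simp [hb])] at h
      haveI := char_two hK
      have h1 : b = th hK b := CharTwo.sq_inj.1 h
      have h3 := th2 hK b
      rw [← h1, ← h1] at h3
      have h4 : b = 1 := mul_eq_left₀ hb |>.1 (by rw [← pow_two]; exact h3)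
      exact hb2 (by rw [h4]; simp)
    obtain ⟨e, he⟩ := hne
    set χ : K := (e : K) ^ 2 / th hK (e : K) ^ 2 with hχ
    have htn : th hK (e : K) ≠ 0 := by simp
    have hconj : ∀ x, H e * W0 hK Pq x * (H e)⁻¹ = W0 hK Pq (χ * x) := fun x => by
      have h27 : th hK χ = th hK (e : K) ^ 2 / e := by rw [hχ, map_div₀, th_sq, map_pow]
      have k1 : th hK (e : K) ^ (2 : ℤ) * ((e : K) ^ (-1 : ℤ) * th hK x) = th hK (χ * x) := by
        rw [map_mul, h27]; simp [zpow_ofNat]; field_simp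
      have k2 : th hK (e : K) ^ (-2 : ℤ) * ((e : K) ^ (2 : ℤ) * x) = χ * x := by
        rw [hχ]; simp [zpow_ofNat]; field_simp
      have k3 : th hK (e : K) ^ (0 : ℤ) * ((e : K) ^ (1 : ℤ) * (th hK x * x)) = th hK (χ * x) * (χ * x) := by
        rw [map_mul, h27, hχ]; simp; field_simp
      simp only [W0, show Pq.a = 27 from rfl, show Pq.b = 25 from rfl, show Pq.c = 28 from rfl]
      rw [show H e * (xx 27 (th hK x) * xx 25 x * xx 28 (th hK x * x)) * (H e)⁻¹ = (H e * xx 27 (th hK x) * (H e)⁻¹) *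
        (H e * xx 25 x * (H e)⁻¹) * (H e * xx 28 (th hK x * x) * (H e)⁻¹) by group, hc e 27 (by norm_num),
        hc e 25 (by norm_num), hc e 28 (by norm_num), p11, p12, p13, p21, p22, p23, k1, k2, k3]
    set x := t / (χ + 1)
    have hx : χ * x = t + x := by
      have : (χ + 1) * x = t := by simp only [x]; field_simp
      linear_combination this - x * two_zero hK
    have hcm := Subgroup.commutator_mem_commutator (hHG e) (W0_fix hK Pq_ok x)
    rw [commutatorElement_def, hconj, hx] at hcm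
    have key : W0 hK Pq t = W0 hK Pq (t + x) * (W0 hK Pq x)⁻¹ * (W0 hK Pq x * Z hK Pq (th hK t * x) *
        (W0 hK Pq x)⁻¹) := by
      rw [show W0 hK Pq (t + x) * (W0 hK Pq x)⁻¹ * (W0 hK Pq x * Z hK Pq (th hK t * x) * (W0 hK Pq x)⁻¹) =
        W0 hK Pq (t + x) * Z hK Pq (th hK t * x) * (W0 hK Pq x)⁻¹ by group, ← W0_mul hK Pq_ok t x,
        mul_inv_cancel_right]
    rw [key]
    exact mul_mem hcm (hnorm _ (W0_fix hK Pq_ok x) _ (hZ _))
  refine Setup.perfect_transfer (eq_fix hK) ?_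
  refine (setup hK).perfect (L0 := opp) ((setup hK).opp_of_ok (w := cw) rfl opp_ok)
    (fam_of hK (Subgroup.commutator_le_self _) (fun L => ?_) hP hW hZ) ?_
  · obtain ⟨k, hk, h⟩ := (setup hK).C.word_lift (setup hK).lift L
    exact ⟨k, hk, fun x hx =>
      (Subgroup.mem_normalizer_iff.1 (Subgroup.normalizer_commutator_ge_left _ _ h) x).1 hx⟩
  · conv_lhs => rw [← eq_fix hK]
    refine genSubgroup_le mem_data fun w hw => ?_
    obtain ⟨h1, h2 | h2⟩ := gen_cases hK hw
    · exact Subgroup.mem_sup_left ⟨h1, h2⟩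
    · exact Subgroup.mem_sup_right ⟨h1, h2⟩

theorem simple_group (hm : 1 ≤ m) :
    IsSimpleGroup ↥(twistedF4 K (2 ^ m)) ∧ ¬ IsMulCommutative ↥(twistedF4 K (2 ^ m)) := by
  have hconn : ∀ J : Finset (Fin 2), J.Nonempty → J ≠ Finset.univ → ∃ i ∈ J, ∃ j, j ∉ J ∧ (i != j) = true := by
    decide
  refine Setup.simple_transfer (eq_fix hK) ((setup hK).simple
    ((setup hK).irreducible_of_ok (w := cw) rfl (fun i j : Fin 2 => i != j) adj_ok hconn)
    (L0 := opp) ((setup hK).opp_of_ok (w := cw) rfl opp_ok) (by show 0 < 2; norm_num) ?_)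
  have := perfect hK hm
  rwa [eq_fix hK] at this

end CfsgLib.Chev.Twisted.ReeF4
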