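import Cfsg.Agent.Lib.Chev.Twisted.Coord
import Cfsg.Agent.Lib.Chev.Group.Torus
import Cfsg.Agent.Lib.Chev.Aut.Borel

/-! Fixed points of an automorphism permuting the root subgroups. -/
set_option autoImplicit false
open Cfsg.Lie
open scoped Matrix MatrixGroups

namespace CfsgLib.Chev.Twisted

open CfsgLib.Chev CfsgLib.Chev.Checks CfsgLib.Chev.Basic

variable {D : ChevalleyDatum} {F : Type*} [Field F]

/-- an automorphism sending `x_r(t)` to `x_{ρ r}(c_r π_r(t))` -/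
structure Twist {D : ChevalleyDatum} (hD : D ∈ dataList) (F : Type*) [Field F] where
  φ : MulAut ↥(D.group F)
  ρ : ℕ → ℕ
  c : ℕ → F
  π : ℕ → (F →+* F)
  ρ_inj : ∀ r s, r < D.nroots → s < D.nroots → ρ r = ρ s → r = s
  ρ_pos : ∀ r, D.IsPosRoot r → D.IsPosRoot (ρ r)
  ρ_negRoot : ∀ r, D.IsNegRoot r → D.IsNegRoot (ρ r)
  ρ_neg : ∀ r, r < D.nroots → ρ (D.neg r) = D.neg (ρ r)
  c_cases : ∀ r, r < D.nroots → c r = 1 ∨ c r = -1
  c_neg : ∀ r, r < D.nroots → c (D.neg r) = c r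
  π_neg : ∀ r, r < D.nroots → π (D.neg r) = π r
  map_x : ∀ r, r < D.nroots → ∀ t, φ (Aut.xe hD r t) = Aut.xe hD (ρ r) (c r * π r t)

theorem hGL_mul (hD : D ∈ dataList) {r : ℕ} (hr : r < D.nroots) {s t : F} (hs : s ≠ 0) (ht : t ≠ 0) :
    hGL hD F r (s * t) = hGL hD F r s * hGL hD F r t := by
  have h1 := Torus.torus_root hD hr (Units.mk0 s hs * Units.mk0 t ht)
  have h2 := Torus.torus_root hD hr (Units.mk0 s hs)
  have h3 := Torus.torus_root hD hr (Units.mk0 t ht)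
  simp only [Units.val_mul, Units.val_mk0] at h1 h2 h3
  rw [← h1, ← h2, ← h3, ← map_mul]
  congr 1
  funext k
  simp [mul_zpow]

namespace Twist

variable {hD : D ∈ dataList} (S : Twist hD F)

theorem ρ_lt {r : ℕ} (hr : r < D.nroots) : S.ρ r < D.nroots := by
  rcases Checks.pos_or_neg hD hr with h | h
  exacts [(S.ρ_pos r h).1, (S.ρ_negRoot r h).1]

theorem c_ne {r : ℕ} (hr : r < D.nroots) : S.c r ≠ 0 := by
  rcases S.c_cases r hr with h | h <;> simp [h]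

open scoped Classical in
/-- the automorphism on matrices -/
noncomputable def sig (g : GL D.Idx F) : GL D.Idx F :=
  if h : g ∈ D.group F then (S.φ ⟨g, h⟩ : GL D.Idx F) else 1

theorem sig_mk (g : ↥(D.group F)) : S.sig g = S.φ g := by rw [sig, dif_pos g.2]

theorem sig_mem (g : GL D.Idx F) : S.sig g ∈ D.group F := by
  unfold sig
  split_ifs
  exacts [SetLike.coe_mem _, one_mem _]

theorem sig_mul {a b : GL D.Idx F} (ha : a ∈ D.group F) (hb : b ∈ D.group F) :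
    S.sig (a * b) = S.sig a * S.sig b := by
  rw [show a * b = ((⟨a, ha⟩ * ⟨b, hb⟩ : ↥(D.group F)) : GL D.Idx F) from rfl, sig_mk, map_mul,
    Subgroup.coe_mul, ← sig_mk, ← sig_mk]

theorem sig_one : S.sig 1 = 1 := by
  rw [show (1 : GL D.Idx F) = ((1 : ↥(D.group F)) : GL D.Idx F) from rfl, sig_mk, map_one]

theorem sig_inv {a : GL D.Idx F} (ha : a ∈ D.group F) : S.sig a⁻¹ = (S.sig a)⁻¹ := by
  rw [show a⁻¹ = (((⟨a, ha⟩ : ↥(D.group F))⁻¹ : ↥(D.group F)) : GL D.Idx F) from rfl, sig_mk, map_inv,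
    Subgroup.coe_inv, ← sig_mk]

theorem sig_inj {a b : GL D.Idx F} (ha : a ∈ D.group F) (hb : b ∈ D.group F) (h : S.sig a = S.sig b) : a = b := by
  rw [show a = ((⟨a, ha⟩ : ↥(D.group F)) : GL D.Idx F) from rfl,
    show b = ((⟨b, hb⟩ : ↥(D.group F)) : GL D.Idx F) from rfl, sig_mk, sig_mk] at h
  exact congrArg Subtype.val (S.φ.injective (Subtype.ext h))

theorem sig_x {r : ℕ} (hr : r < D.nroots) (t : F) :
    S.sig (xGL hD F r t) = xGL hD F (S.ρ r) (S.c r * S.π r t) := by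
  rw [show xGL hD F r t = ((Aut.xe hD r t : ↥(D.group F)) : GL D.Idx F) from rfl, sig_mk, S.map_x r hr]
  rfl

theorem sig_nGL {r : ℕ} (hr : r < D.nroots) (t : F) :
    S.sig (nGL hD F r t) = nGL hD F (S.ρ r) (S.c r * S.π r t) := by
  rw [nGL, S.sig_mul (mul_mem (xGL_mem_group hD _ _) (xGL_mem_group hD _ _)) (xGL_mem_group hD _ _),
    S.sig_mul (xGL_mem_group hD _ _) (xGL_mem_group hD _ _), S.sig_x hr, S.sig_x (Checks.neg_lt hD hr),
    S.ρ_neg r hr, S.c_neg r hr, S.π_neg r hr, map_neg, map_inv₀, nGL, mul_inv, mul_neg]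
  rcases S.c_cases r hr with e | e <;> simp [e]

theorem sig_hGL {r : ℕ} (hr : r < D.nroots) {t : F} (ht : t ≠ 0) :
    S.sig (hGL hD F r t) = hGL hD F (S.ρ r) (S.π r t) := by
  have hπ : S.π r t ≠ 0 := (map_ne_zero (S.π r)).2 ht
  have hr' := S.ρ_lt hr
  rw [hGL, S.sig_mul (nGL_mem_group hD _ _) (nGL_mem_group hD _ _), S.sig_nGL hr, S.sig_nGL hr, map_neg, map_one]
  rcases S.c_cases r hr with e | e
  · rw [e]; simp [hGL]
  · rw [e]
    have h2 := hGL_mul hD hr' (neg_ne_zero.2 hπ) (neg_ne_zero.2 (one_ne_zero (α := F)))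
    rw [mul_neg, mul_one, neg_neg] at h2
    rw [h2]
    simp only [neg_one_mul, neg_neg, hGL]
    have hn : nGL hD F (S.ρ r) (-1) = (nGL hD F (S.ρ r) 1)⁻¹ := Diag.nGL_neg_one hD hr'
    have h3 := hGL_mul hD hr' (neg_ne_zero.2 (one_ne_zero (α := F))) (neg_ne_zero.2 (one_ne_zero (α := F)))
    rw [neg_mul_neg, one_mul] at h3
    have h4 : hGL hD F (S.ρ r) (1 : F) = 1 := by simp [hGL, hn]
    rw [h4] at h3
    simp only [hGL, hn] at h3
    rw [hn]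
    calc nGL hD F (S.ρ r) (-S.π r t) * nGL hD F (S.ρ r) 1
        = nGL hD F (S.ρ r) (-S.π r t) * 1 * nGL hD F (S.ρ r) 1 := by group
      _ = _ := by rw [h3]; group

/-- elements of the group whose image lies in `K` -/
def pre (K : Subgroup (GL D.Idx F)) : Subgroup (GL D.Idx F) :=
  ((K.subgroupOf (D.group F)).comap S.φ.toMonoidHom).map (D.group F).subtype

theorem mem_pre {K : Subgroup (GL D.Idx F)} {g : GL D.Idx F} : g ∈ S.pre K ↔ g ∈ D.group F ∧ S.sig g ∈ K := by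
  constructor
  · rintro ⟨y, hy, rfl⟩
    exact ⟨y.2, by rw [Subgroup.coe_subtype, sig_mk]; exact Subgroup.mem_subgroupOf.1 hy⟩
  · rintro ⟨hg, h⟩
    refine ⟨⟨g, hg⟩, Subgroup.mem_subgroupOf.2 ?_, rfl⟩
    rw [MulEquiv.coe_toMonoidHom, ← sig_mk]
    exact h

/-- the fixed subgroup -/
def fix : Subgroup (GL D.Idx F) :=
  (MonoidHom.eqLocus S.φ.toMonoidHom (MonoidHom.id _)).map (D.group F).subtype

theorem mem_fix {g : GL D.Idx F} : g ∈ S.fix ↔ g ∈ D.group F ∧ S.sig g = g := by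
  constructor
  · rintro ⟨y, hy, rfl⟩
    exact ⟨y.2, by rw [Subgroup.coe_subtype, sig_mk]; exact congrArg Subtype.val hy⟩
  · rintro ⟨hg, h⟩
    exact ⟨⟨g, hg⟩, Subtype.ext (by show (S.φ ⟨g, hg⟩ : GL D.Idx F) = g; rw [← sig_mk]; exact h), rfl⟩

theorem fix_le : S.fix ≤ D.group F := fun _ h => (S.mem_fix.1 h).1

theorem sig_gen {P Q : ℕ → Prop} (hP : ∀ r, P r → r < D.nroots ∧ Q (S.ρ r)) {g : GL D.Idx F}
    (hg : g ∈ RootGen.gen D F P) : S.sig g ∈ RootGen.gen D F Q := by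
  have h : RootGen.gen D F P ≤ S.pre (RootGen.gen D F Q) := RootGen.gen_le hD fun r hr t =>
    S.mem_pre.2 ⟨xGL_mem_group hD _ _, by rw [S.sig_x (hP r hr).1]; exact RootGen.xGL_mem_gen hD (hP r hr).2 _⟩
  exact (S.mem_pre.1 (h hg)).2

theorem sig_pos {g : GL D.Idx F} (hg : g ∈ D.posUnipotent F) : S.sig g ∈ D.posUnipotent F :=
  S.sig_gen (P := D.IsPosRoot) (Q := D.IsPosRoot) (fun r hr => ⟨hr.1, S.ρ_pos r hr⟩) hg

theorem sig_diag {g : GL D.Idx F} (hg : g ∈ D.diagonalSubgroup F) : S.sig g ∈ D.diagonalSubgroup F := by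
  have h : D.diagonalSubgroup F ≤ S.pre (D.diagonalSubgroup F) := by
    refine (Subgroup.closure_le _).2 ?_
    rintro x ⟨r, t, hr, ht, hx⟩
    obtain rfl : x = hGL hD F r t := Units.ext (hx.trans (hGL_val hD r t).symm)
    refine S.mem_pre.2 ⟨diagonal_le_group hD (hGL_mem_diagonal hD hr ht), ?_⟩
    rw [S.sig_hGL hr ht]
    exact hGL_mem_diagonal hD (S.ρ_lt hr) ((map_ne_zero _).2 ht)
  exact (S.mem_pre.1 (h hg)).2

theorem sig_borel {g : GL D.Idx F} (hg : g ∈ D.borelSubgroup F) : S.sig g ∈ D.borelSubgroup F := by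
  obtain ⟨u, hu, h, hh, rfl⟩ := (BH.mem_borel_iff hD).1 hg
  rw [S.sig_mul (posUnipotent_le_group hu) (diagonal_le_group hD hh)]
  exact mul_mem (Subgroup.mem_sup_left (S.sig_pos hu)) (Subgroup.mem_sup_right (S.sig_diag hh))

theorem sig_monomial {g : GL D.Idx F} (hg : g ∈ D.monomialSubgroup F) : S.sig g ∈ D.monomialSubgroup F := by
  have h : D.monomialSubgroup F ≤ S.pre (D.monomialSubgroup F) := by
    refine sup_le (fun x hx => S.mem_pre.2 ⟨diagonal_le_group hD hx, Subgroup.mem_sup_left (S.sig_diag hx)⟩)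
      ((Subgroup.closure_le _).2 ?_)
    rintro x ⟨r, hr, hx⟩
    obtain rfl : x = nGL hD F r 1 := Units.ext (hx.trans (nGL_val hD r 1).symm)
    refine S.mem_pre.2 ⟨nGL_mem_group hD _ _, ?_⟩
    rw [S.sig_nGL hr]
    exact nGL_mem_monomial hD (S.ρ_lt hr) (mul_ne_zero (S.c_ne hr) ((map_ne_zero _).2 one_ne_zero))
  exact (S.mem_pre.1 (h hg)).2

/-- commuting with `ρ` -/
def Comm (l : List ℕ) : Prop := ∀ r, r < D.nroots → S.ρ (N.act D l r) = N.act D l (S.ρ r)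

theorem nk_conj {l : List ℕ} (hl : ∀ i ∈ l, i < D.rank) {k : GL D.Idx F} (hk : k ∈ D.diagonalSubgroup F) {r : ℕ}
    (hr : r < D.nroots) : ∃ a : F, a ≠ 0 ∧ ∀ t : F,
      N.nW hD F l * k * xGL hD F r t * (N.nW hD F l * k)⁻¹ = xGL hD F (N.act D l r) (a * t) := by
  obtain ⟨η, hη, h1⟩ := N.nW_conj (F := F) hD hl hr
  obtain ⟨a, ha, h2⟩ := BH.conj_x hD hk r hr
  refine ⟨(η : F) * a, mul_ne_zero (by rcases hη with rfl | rfl <;> simp) ha, fun t => ?_⟩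
  rw [show N.nW hD F l * k * xGL hD F r t * (N.nW hD F l * k)⁻¹ =
    N.nW hD F l * (k * xGL hD F r t * k⁻¹) * (N.nW hD F l)⁻¹ by group, h2, h1, mul_assoc]

theorem comm_of {l : List ℕ} (hl : ∀ i ∈ l, i < D.rank) {k : GL D.Idx F} (hk : k ∈ D.diagonalSubgroup F)
    (h : (N.nW hD F l * k)⁻¹ * S.sig (N.nW hD F l * k) ∈ D.diagonalSubgroup F) : S.Comm l := by
  intro r hr
  set n := N.nW hD F l * k with hn
  obtain ⟨a, ha, h1⟩ := nk_conj (hD := hD) hl hk hr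
  have hk' : k * (n⁻¹ * S.sig n) ∈ D.diagonalSubgroup F := mul_mem hk h
  obtain ⟨a', ha', h2⟩ := nk_conj (hD := hD) hl hk' (S.ρ_lt hr)
  have hng : n ∈ D.group F := mul_mem (monomial_le_group hD (N.nW_mem hD hl)) (diagonal_le_group hD hk)
  have e := congrArg S.sig (h1 1)
  rw [S.sig_mul (mul_mem hng (xGL_mem_group hD _ _)) (inv_mem hng), S.sig_mul hng (xGL_mem_group hD _ _),
    S.sig_inv hng, S.sig_x hr, S.sig_x (N.act_lt hD hl hr)] at e
  have e2 : N.nW hD F l * (k * (n⁻¹ * S.sig n)) = S.sig n := by rw [hn]; group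
  rw [e2] at h2
  rw [h2] at e
  refine (N.xGL_inj hD (N.act_lt hD hl (S.ρ_lt hr)) (S.ρ_lt (N.act_lt hD hl hr))
    (mul_ne_zero ha' (mul_ne_zero (S.c_ne hr) ((map_ne_zero _).2 one_ne_zero))) e).symm

theorem comm_minus {l : List ℕ} (hc : S.Comm l) {r : ℕ} (hr : Canonical.Minus D l r) :
    Canonical.Minus D l (S.ρ r) := ⟨S.ρ_pos r hr.1, hc r hr.1.1 ▸ S.ρ_negRoot _ hr.2⟩

theorem comm_plus {l : List ℕ} (hc : S.Comm l) {r : ℕ} (hr : Canonical.Plus D l r) :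
    Canonical.Plus D l (S.ρ r) := ⟨S.ρ_pos r hr.1, hc r hr.1.1 ▸ S.ρ_pos _ hr.2⟩

theorem comm_of_fix {l : List ℕ} (hl : ∀ i ∈ l, i < D.rank) {k : GL D.Idx F} (hk : k ∈ D.diagonalSubgroup F)
    (h : N.nW hD F l * k ∈ S.fix) : S.Comm l :=
  S.comm_of hl hk (by rw [(S.mem_fix.1 h).2, inv_mul_cancel]; exact one_mem _)

/-- the fixed normal form -/
theorem fix_form {g : GL D.Idx F} (hg : g ∈ S.fix) : ∃ v ∈ D.posUnipotent F, v ∈ S.fix ∧ ∃ l : List ℕ,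
    (∀ i ∈ l, i < D.rank) ∧ ∃ k ∈ D.diagonalSubgroup F, N.nW hD F l * k ∈ S.fix ∧
      ∃ u ∈ RootGen.gen D F (Canonical.Minus D l), u ∈ S.fix ∧ g = v * (N.nW hD F l * k) * u := by
  obtain ⟨hgG, hgs⟩ := S.mem_fix.1 hg
  obtain ⟨b, hb, l, hl, k0, hk0, u, hu, e0⟩ := Canonical.exists_form hD hgG
  obtain ⟨v, hv, h, hh, rfl⟩ := (BH.mem_borel_iff hD).1 hb
  obtain ⟨k, hk, e⟩ : ∃ k ∈ D.diagonalSubgroup F, g = v * (N.nW hD F l * k) * u :=
    ⟨(N.nW hD F l)⁻¹ * h * N.nW hD F l * k0, mul_mem (N.diag_nW hD hl hh) hk0, by rw [e0]; group⟩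
  set n := N.nW hD F l * k with hn
  have hnN : n ∈ D.monomialSubgroup F := mul_mem (N.nW_mem hD hl) (Subgroup.mem_sup_left hk)
  have hng := monomial_le_group hD hnN
  have huU : u ∈ D.posUnipotent F := RootGen.gen_le hD (fun r hr t => xGL_mem_pos hD hr.1 t) hu
  have hug := posUnipotent_le_group huU
  have hvg := posUnipotent_le_group hv
  have e' : v * n * u = S.sig v * S.sig n * S.sig u := by
    rw [← S.sig_mul hvg hng, ← S.sig_mul (mul_mem hvg hng) hug, ← e, hgs]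
  have hvB : v ∈ D.borelSubgroup F := Subgroup.mem_sup_left hv
  have hH := Canonical.cell_unique hD hvB (S.sig_borel hvB) hnN (S.sig_monomial hnN)
    (Subgroup.mem_sup_left huU) (Subgroup.mem_sup_left (S.sig_pos huU)) e'
  have hc := S.comm_of hl hk hH
  have hu' := S.sig_gen (Q := Canonical.Minus D l) (fun r hr => ⟨hr.1.1, S.comm_minus hc hr⟩) hu
  have hdd : n * (n⁻¹ * S.sig n) * n⁻¹ ∈ D.diagonalSubgroup F := N.diagonal_normal hD hnN hH
  have e2 : v * n * u = (S.sig v * (n * (n⁻¹ * S.sig n) * n⁻¹)) * n * S.sig u := by rw [e']; group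
  obtain ⟨eb, eu⟩ := Canonical.minus_inj hD hl hk hvB
    (mul_mem (S.sig_borel hvB) (Subgroup.mem_sup_right hdd)) hu hu' e2
  have h1 : (S.sig v)⁻¹ * v = n * (n⁻¹ * S.sig n) * n⁻¹ := by
    exact inv_mul_eq_of_eq_mul eb
  have h2 : (S.sig v)⁻¹ * v = 1 := Subgroup.mem_bot.1 ((BH.pos_inf_diagonal hD).le
    (Subgroup.mem_inf.2 ⟨mul_mem (inv_mem (S.sig_pos hv)) hv, show (S.sig v)⁻¹ * v ∈ D.diagonalSubgroup F from h1 ▸ hdd⟩))
  rw [inv_mul_eq_one] at h2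
  have hvn : S.sig n = n := by
    have h3 := e'
    rw [← eu, h2] at h3
    exact (mul_left_cancel (mul_right_cancel h3)).symm
  exact ⟨v, hv, S.mem_fix.2 ⟨hvg, h2⟩, l, hl, k, hk, S.mem_fix.2 ⟨hng, hvn⟩, u, hu,
    S.mem_fix.2 ⟨hug, eu.symm⟩, e⟩

/-- fixed elements of `B` -/
theorem borel_form {b : GL D.Idx F} (hb : b ∈ D.borelSubgroup F) (hbf : b ∈ S.fix) :
    ∃ v ∈ D.posUnipotent F, v ∈ S.fix ∧ ∃ h ∈ D.diagonalSubgroup F, h ∈ S.fix ∧ b = v * h := by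
  obtain ⟨hbg, hbs⟩ := S.mem_fix.1 hbf
  obtain ⟨v, hv, h, hh, rfl⟩ := (BH.mem_borel_iff hD).1 hb
  rw [S.sig_mul (posUnipotent_le_group hv) (diagonal_le_group hD hh)] at hbs
  have h7 := Subgroup.mul_injective_of_disjoint (disjoint_iff.2 (BH.pos_inf_diagonal hD))
    (a₁ := (⟨S.sig v, S.sig_pos hv⟩, ⟨S.sig h, S.sig_diag hh⟩)) (a₂ := (⟨v, hv⟩, ⟨h, hh⟩)) hbs
  exact ⟨v, hv, S.mem_fix.2 ⟨posUnipotent_le_group hv, congrArg (fun x => (x.1 : GL D.Idx F)) h7⟩, h, hh,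
    S.mem_fix.2 ⟨diagonal_le_group hD hh, congrArg (fun x => (x.2 : GL D.Idx F)) h7⟩, rfl⟩

theorem plus_inf_minus (hD : D ∈ dataList) {l : List ℕ} (hl : ∀ i ∈ l, i < D.rank) {g : GL D.Idx F}
    (h1 : g ∈ RootGen.gen D F (Canonical.Plus D l)) (h2 : g ∈ RootGen.gen D F (Canonical.Minus D l)) : g = 1 := by
  have hP := cl_of_closed (F := F) (Canonical.plus_closed hD hl)
  have hM := cl_of_closed (F := F) (Canonical.minus_closed hD hl)
  refine eq_one_of_coord hD (gen_le_pos hD hP h1) fun r _ => ?_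
  by_cases h : Canonical.Plus D l r
  · exact coord_off hD hM h2 fun hm => N.not_pos_neg hD h.2 (Checks.neg_pos_of_neg hD hm.2.1 hm.2)
      |> False.elim
  · exact coord_off hD hP h1 h

/-- the fixed splitting of `U` -/
theorem split_fix {l : List ℕ} (hl : ∀ i ∈ l, i < D.rank) (hc : S.Comm l) {g : GL D.Idx F}
    (hg : g ∈ D.posUnipotent F) (hgf : g ∈ S.fix) :
    ∃ p ∈ RootGen.gen D F (Canonical.Plus D l), p ∈ S.fix ∧
      ∃ q ∈ RootGen.gen D F (Canonical.Minus D l), q ∈ S.fix ∧ g = p * q := by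
  obtain ⟨p, hp, q, hq, e⟩ := Canonical.split hD hl hg
  have hpg : p ∈ D.group F :=
    posUnipotent_le_group (RootGen.gen_le hD (fun r hr t => xGL_mem_pos hD hr.1 t) hp)
  have hqg : q ∈ D.group F :=
    posUnipotent_le_group (RootGen.gen_le hD (fun r hr t => xGL_mem_pos hD hr.1 t) hq)
  have hp' := S.sig_gen (Q := Canonical.Plus D l) (fun r hr => ⟨hr.1.1, S.comm_plus hc hr⟩) hp
  have hq' := S.sig_gen (Q := Canonical.Minus D l) (fun r hr => ⟨hr.1.1, S.comm_minus hc hr⟩) hq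
  have hs := (S.mem_fix.1 hgf).2
  rw [e, S.sig_mul hpg hqg] at hs
  have h1 : p⁻¹ * S.sig p = q * (S.sig q)⁻¹ := by
    rw [eq_mul_inv_iff_mul_eq, mul_assoc, hs]; group
  have h2 := plus_inf_minus hD hl (mul_mem (inv_mem hp) hp') (h1 ▸ mul_mem hq (inv_mem hq'))
  rw [inv_mul_eq_one] at h2
  refine ⟨p, hp, S.mem_fix.2 ⟨hpg, h2.symm⟩, q, hq, S.mem_fix.2 ⟨hqg, ?_⟩, e⟩
  rw [← h2] at hs
  exact mul_left_cancel hs

theorem fix_coord {P : ℕ → Prop} (hP : Cl D F P) (hst : ∀ r, P r → P (S.ρ r)) {r : ℕ} (hr : P r)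
    (h1 : Lead D F P r) (h2 : Lead D F P (S.ρ r)) {g : GL D.Idx F} (hg : g ∈ RootGen.gen D F P) (hgf : g ∈ S.fix) :
    coord hD g (S.ρ r) = S.c r * S.π r (coord hD g r) := by
  obtain ⟨q, hq, e⟩ := lead_decomp hD hP hr h1 hg
  have hrl := (hP.pos r hr).1
  have hqg := posUnipotent_le_group (gen_le_pos hD (cl_erase hP h1) hq)
  have hq' := S.sig_gen (Q := fun s => P s ∧ s ≠ S.ρ r) (fun s hs =>
    ⟨(hP.pos s hs.1).1, hst s hs.1, fun e => hs.2 (S.ρ_inj s r (hP.pos s hs.1).1 hrl e)⟩) hq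
  have hgs := (S.mem_fix.1 hgf).2
  generalize coord hD g r = a at e ⊢
  subst e
  rw [S.sig_mul (xGL_mem_group hD _ _) hqg, S.sig_x hrl] at hgs
  rw [← hgs]
  exact coord_lead hD hP (hst r hr) h2 hq'

end Twist

end CfsgLib.Chev.Twisted
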