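import Cfsg.Agent.Lib.Chev.Engine.Sem
import Cfsg.Agent.Lib.Chev.Twisted.Base

/-! Evaluation of words with integer parameters modulo an integer vanishing in the field. -/
set_option autoImplicit false
open Cfsg.Lie
open scoped Matrix MatrixGroups

namespace CfsgLib.Chev.Twisted.IntEval

open CfsgLib.Chev

variable (D : ChevalleyDatum) (m : ℤ)

/-- apply a root element to a sparse vector -/
def stepV (r : ℕ) (τ : ℤ) (v : List (ℕ × ℤ)) : List (ℕ × ℤ) :=
  v.flatMap fun it => (Sem.col D D.chainEntry r it.1).map fun q => (q.1, it.2 * q.2.1 * τ ^ q.2.2)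

/-- the coefficient at a row -/
def coefAt (i : ℕ) (v : List (ℕ × ℤ)) : ℤ := ((v.filter fun it => it.1 == i).map Prod.snd).sum

/-- collect and reduce -/
def normV (v : List (ℕ × ℤ)) : List (ℕ × ℤ) :=
  (List.range (D.rank + D.nroots)).map fun i => (i, coefAt i v % m)

/-- apply a word -/
def evalV : List (ℕ × ℤ) → List (ℕ × ℤ) → List (ℕ × ℤ)
  | [], v => normV D m v
  | p :: w, v => normV D m (stepV D p.1 p.2 (evalV w v))

/-- agreement of two words on all columns -/
def sameW (w w' : List (ℕ × ℤ)) : Bool :=
  (w ++ w').all (fun p => decide (p.1 < D.nroots)) &&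
    (List.range (D.rank + D.nroots)).all fun j => evalV D m w [(j, 1)] == evalV D m w' [(j, 1)]

/-- the chain table has distinct keys -/
def nodupOK : Bool := (List.range D.nroots).all fun r => decide ((D.chain.getD r #[]).toList.map Prod.fst).Nodup

variable {D m} {F : Type*} [Field F]

/-- the value of a sparse vector -/
def valV (v : List (ℕ × ℤ)) : D.Idx → F := (v.map fun it => (it.2 : F) • Sem.e D F it.1).sum

theorem valV_norm (hm : (m : F) = 0) (v : List (ℕ × ℤ)) : valV (D := D) (F := F) (normV D m v) = valV v := by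
  have h1 : valV (D := D) (F := F) (normV D m v) =
      ∑ i ∈ Finset.range (D.rank + D.nroots), (coefAt i v : F) • Sem.e D F i := by
    have : ∀ (n : ℕ) (f : ℕ → D.Idx → F), ((List.range n).map f).sum = ∑ i ∈ Finset.range n, f i := by
      intro n f
      induction n with
      | zero => simp
      | succ n ih => simp [List.range_succ, Finset.sum_range_succ, ih]
    rw [valV, normV, List.map_map, this]
    refine Finset.sum_congr rfl fun i _ => ?_
    simp only [Function.comp_apply, Aut.cast_mod hm]
  rw [h1]
  induction v with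
  | nil => simp [coefAt, valV]
  | cons a v ih =>
    have e : ∀ i, (coefAt i (a :: v) : F) • Sem.e D F i =
        (if i = a.1 then (a.2 : F) • Sem.e D F i else 0) + (coefAt i v : F) • Sem.e D F i := by
      intro i
      by_cases h : i = a.1
      · subst h; simp [coefAt, add_smul]
      · simp [coefAt, h, Ne.symm h]
    have hih := ih (by
      rw [valV, normV, List.map_map]
      have : ∀ (n : ℕ) (f : ℕ → D.Idx → F), ((List.range n).map f).sum = ∑ i ∈ Finset.range n, f i := by
        intro n f
        induction n with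
        | zero => simp
        | succ n ih => simp [List.range_succ, Finset.sum_range_succ, ih]
      rw [this]
      exact Finset.sum_congr rfl fun i _ => by simp only [Function.comp_apply, Aut.cast_mod hm])
    simp only [e, Finset.sum_add_distrib, hih, Finset.sum_ite_eq', Finset.mem_range]
    simp only [valV, List.map_cons, List.sum_cons]
    split_ifs with h
    · rfl
    · rw [Sem.e_out (not_lt.1 h), smul_zero]

theorem step_val (hL : Sem.Lookup D D.chainEntry) {r : ℕ} (hr : r < D.nroots) (τ : ℤ) :
    ∀ v : List (ℕ × ℤ), valV (D := D) (F := F) (stepV D r τ v) = D.x F r (τ : F) *ᵥ valV v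
  | [] => by simp [stepV, valV]
  | a :: v => by
    have ih := step_val hL hr τ v
    simp only [stepV, valV, List.flatMap_cons, List.map_append, List.sum_append, List.map_cons, List.sum_cons,
      Matrix.mulVec_add, Matrix.mulVec_smul] at ih ⊢
    rw [ih, Sem.x_mulVec_e hL hr, List.smul_sum, List.map_map, List.map_map]
    congr 2
    exact List.map_congr_left fun q _ => by simp [smul_smul, mul_assoc]

theorem eval_val (hm : (m : F) = 0) (hL : Sem.Lookup D D.chainEntry) (v : List (ℕ × ℤ)) :
    ∀ w : List (ℕ × ℤ), (∀ p ∈ w, p.1 < D.nroots) →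
      valV (D := D) (F := F) (evalV D m w v) = D.wordMat F (w.map fun p => (p.1, (p.2 : F))) *ᵥ valV v
  | [], _ => by simp [evalV, valV_norm hm, ChevalleyDatum.wordMat]
  | p :: w, h => by
    rw [evalV, valV_norm hm, step_val hL (h p List.mem_cons_self),
      eval_val hm hL v w fun q hq => h q (List.mem_cons_of_mem _ hq), Matrix.mulVec_mulVec]
    simp [ChevalleyDatum.wordMat]

theorem wordMat_eq (hm : (m : F) = 0) (hnd : nodupOK D = true) {w w' : List (ℕ × ℤ)} (h : sameW D m w w' = true) :
    D.wordMat F (w.map fun p => (p.1, (p.2 : F))) = D.wordMat F (w'.map fun p => (p.1, (p.2 : F))) := by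
  simp only [nodupOK, List.all_eq_true, List.mem_range, decide_eq_true_eq] at hnd
  simp only [sameW, Bool.and_eq_true, List.all_eq_true, List.mem_range, decide_eq_true_eq, beq_iff_eq,
    List.mem_append] at h
  have hL : Sem.Lookup D D.chainEntry := ⟨hnd, fun _ _ _ _ => rfl⟩
  refine Matrix.ext_of_mulVec_single fun k => ?_
  obtain ⟨j, hj, hk⟩ : ∃ j < D.rank + D.nroots, Sem.e D F j = Pi.single k 1 := by
    rcases k with i | s
    exacts [⟨i.1, by omega, Sem.e_inl i⟩, ⟨D.rank + s.1, by omega, Sem.e_inr s⟩]
  have hv : valV (D := D) (F := F) [(j, 1)] = Pi.single k 1 := by simp [valV, hk]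
  have e1 := eval_val (F := F) hm hL [(j, 1)] w fun p hp => h.1 p (Or.inl hp)
  have e2 := eval_val (F := F) hm hL [(j, 1)] w' fun p hp => h.1 p (Or.inr hp)
  rw [← hv, ← e1, ← e2, h.2 j hj]

end CfsgLib.Chev.Twisted.IntEval
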