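import Cfsg.Agent.Lib.Chev.Twisted.Extra
import Cfsg.Agent.Lib.Chev.Twisted.Frob
import Cfsg.Agent.Lib.Chev.Twisted.IntEval
import Cfsg.Prelude.Def_LieTwisted
import Mathlib.GroupTheory.Coxeter.Matrix

/-! The small Ree groups `²G₂(q)`. -/
set_option autoImplicit false
open Cfsg.Lie
open scoped Matrix MatrixGroups commutatorElement

namespace CfsgLib.Chev.Twisted.ReeG2

open CfsgLib.Chev CfsgLib.Chev.Checks CfsgLib.Chev.Basic

def lev : List ℕ := [0, 0, 0, 0, 0, 0, 0, 0, 1, 2, 1, 2]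
def reps : List ℕ := [6, 10, 11]
def cj : List (List ℕ) := [[0, 1]]
def cw : List (List ℕ) := [[0, 1, 0, 1, 0, 1]]
def ls : List (List (Fin 1)) := [[], [0]]
def w0 : List ℕ := [0, 1, 0, 1, 0, 1]

theorem g2_tw : twOK chevG2 Aut.GData.g2 = true := by decide +kernel
theorem orb_ok : orbitsOK chevG2 Aut.GData.g2 3 lev 3 reps reps = true := by decide +kernel
theorem cls_ok : classesOK chevG2 (Aut.gRoot Aut.GData.g2) cj cw = true := by decide +kernel
theorem ls_ok : weylOK chevG2 cw ls = true := by decide +kernel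
theorem opp_ok : oppOK chevG2 (flatW cw ([0] : List (Fin 1))) = true := by decide +kernel
theorem cox_ok : coxOK chevG2 cw (fun i j : Fin 1 => CoxeterMatrix.A 1 i j) = true := by decide +kernel
theorem mem_data : chevG2 ∈ dataList := by simp [dataList]
theorem nd_ok : IntEval.nodupOK chevG2 = true := by decide +kernel

variable {K : Type*} [Field K] [Fintype K] {m : ℕ} (hK : Fintype.card K = 3 ^ (2 * m + 1))

include hK in
theorem char_three : CharP K 3 := by
  haveI := Fact.mk Nat.prime_three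
  obtain ⟨n, hp, hc⟩ := FiniteField.card K (ringChar K)
  have h : ringChar K ∣ 3 ^ (2 * m + 1) := by rw [← hK, hc]; exact dvd_pow_self _ n.ne_zero
  have h2 : ringChar K = 3 := (Nat.prime_dvd_prime_iff_eq hp Nat.prime_three).1 (hp.dvd_of_dvd_pow h)
  exact h2 ▸ ringChar.charP K

include hK in
theorem three_zero : ((3 : ℤ) : K) = 0 := by
  haveI := char_three hK
  exact_mod_cast CharP.cast_eq_zero K 3

include hK in
theorem exists_theta : ∃ f : K ≃+* K, ∀ x, f x = x ^ 3 ^ m := by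
  haveI := char_three hK
  haveI := Fact.mk Nat.prime_three
  exact ⟨RingEquiv.ofBijective (iterateFrobenius K 3 m)
    (Finite.injective_iff_bijective.1 (RingHom.injective _)), fun x => iterateFrobenius_def 3 m x⟩

/-- the map `θ` -/
noncomputable def th : K ≃+* K := (exists_theta hK).choose

theorem th_apply (x : K) : th hK x = x ^ 3 ^ m := (exists_theta hK).choose_spec x

theorem th3 (x : K) : th hK (th hK x) ^ 3 = x := by
  rw [th_apply, th_apply, ← pow_mul, ← pow_mul, show 3 ^ m * (3 ^ m * 3) = 3 ^ (2 * m + 1) by ring, ← hK]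
  exact FiniteField.pow_card x

theorem th_cube (x : K) : th hK (th hK x ^ 3) = x := by rw [map_pow, th3]

/-- the twist data -/
noncomputable def kind : Kind chevG2 K where
  G := Aut.GData.g2
  p := 3
  m := 3
  hm := three_zero hK
  hp _ := ⟨char_three hK, Nat.prime_three⟩
  hrel := Aut.GData.g2_ok.1
  hdata := Aut.GData.g2_ok.2
  htw := g2_tw
  f := th hK

/-- the twist -/
noncomputable def tw : Twist (mem_data) K := mkTwist mem_data (kind hK)

theorem expo_cases : ∀ r < 12, Aut.gExpo Aut.GData.g2 r = 1 ∨ Aut.gExpo Aut.GData.g2 r = 3 := by decide +kernel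

theorem π_apply {r : ℕ} (hr : r < 12) (t : K) : (tw hK).π r t = th hK (t ^ Aut.gExpo Aut.GData.g2 r) := by
  show th hK (expHom K 3 (Aut.gExpo Aut.GData.g2 r) t) = _
  rw [expHom_apply (fun _ => ⟨char_three hK, Nat.prime_three⟩)]
  exact (expo_cases r hr).imp_right fun h => ⟨h, by norm_num⟩

/-- the orbits -/
noncomputable def orbits : Orbits (tw hK) :=
  mkOrbits Aut.GData.g2 rfl rfl (m := 3) (three_zero hK) lev 3 reps reps orb_ok

/-- the classes -/
noncomputable def classes : Classes (tw hK) := mkClasses rfl cj cw cls_ok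

/-- the roots of the class and the sign -/
structure Sext where
  a : ℕ
  b : ℕ
  c : ℕ
  d : ℕ
  e : ℕ
  f : ℕ
  eps : ℤ

def Ps : Sext := ⟨7, 6, 8, 9, 10, 11, 1⟩
def Ns : Sext := ⟨4, 5, 3, 2, 1, 0, -1⟩

/-- the checked properties -/
def sextOK (S : Sext) : Bool :=
  ((chevG2.commTerms S.a S.b).map (fun c => (c.1, c.2.1 % 3, c.2.2)) ==
    [(S.c, (-S.eps) % 3, 1, 1), (S.d, 1, 2, 1), (S.e, S.eps % 3, 3, 1), (S.f, 1, 3, 2)]) &&
  ([(S.c, S.d), (S.c, S.e), (S.c, S.f), (S.d, S.e), (S.d, S.f), (S.e, S.f)].all fun p =>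
    p.2 != chevG2.neg p.1 && (chevG2.commTerms p.1 p.2).all fun c => c.2.1 % 3 == 0) &&
  ([S.a, S.b, S.c, S.d, S.e, S.f].all fun r => decide (r < 12)) &&
  (S.eps == 1 || S.eps == -1) && S.b != S.a && S.b != chevG2.neg S.a &&
  ([(S.a, S.b, 3), (S.b, S.a, 1), (S.c, S.e, 3), (S.e, S.c, 1), (S.d, S.f, 3), (S.f, S.d, 1)].all fun p =>
    Aut.gRoot Aut.GData.g2 p.1 == p.2.1 && Aut.gExpo Aut.GData.g2 p.1 == p.2.2 &&
      Aut.gSign Aut.GData.g2 p.1 == 1)

theorem Ps_ok : sextOK Ps = true := by decide +kernel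
theorem Ns_ok : sextOK Ns = true := by decide +kernel

variable {S : Sext} (hS : sextOK S = true)

/-- a root element -/
noncomputable abbrev xx (r : ℕ) (t : K) : GL chevG2.Idx K := xGL mem_data K r t

include hS in
theorem sext_lt : S.a < 12 ∧ S.b < 12 ∧ S.c < 12 ∧ S.d < 12 ∧ S.e < 12 ∧ S.f < 12 := by
  simp only [sextOK, Bool.and_eq_true, decide_eq_true_eq, List.all_cons, List.all_nil, and_true] at hS
  exact hS.1.1.1.1.2

include hS in
theorem eps_cases : (S.eps : K) = 1 ∨ (S.eps : K) = -1 := by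
  simp only [sextOK, Bool.and_eq_true, Bool.or_eq_true, beq_iff_eq] at hS
  rcases hS.1.1.1.2 with h | h <;> simp [h]

include hS in
theorem eps_cube : (S.eps : K) ^ 3 = S.eps ∧ (S.eps : K) * S.eps = 1 := by
  rcases eps_cases (K := K) hS with h | h <;> rw [h] <;> norm_num

include hK hS in
theorem sext_comm : ∀ p ∈ [(S.c, S.d), (S.c, S.e), (S.c, S.f), (S.d, S.e), (S.d, S.f), (S.e, S.f)],
    ∀ t u : K, Commute (xx p.1 t) (xx p.2 u) := by
  intro p hp t u
  obtain ⟨la, lb, lc, ld, le', lf⟩ := sext_lt hS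
  have hlt : p.1 < 12 ∧ p.2 < 12 := by
    simp only [List.mem_cons, List.not_mem_nil, or_false] at hp
    rcases hp with rfl | rfl | rfl | rfl | rfl | rfl <;> exact ⟨by assumption, by assumption⟩
  simp only [sextOK, Bool.and_eq_true, List.all_eq_true, beq_iff_eq, bne_iff_ne] at hS
  obtain ⟨h1, h2⟩ := hS.1.1.1.1.1.2 p hp
  exact commute_x mem_data hlt.1 hlt.2 h1 (fun c hc => by
    rw [← Aut.cast_mod (m := 3) (three_zero hK), h2 c hc, Int.cast_zero]) t u

include hK hS in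
theorem sext_swap (s t : K) : xx S.b s * xx S.a t = xx S.a t * xx S.b s *
    (xx S.c ((S.eps : K) * t * s) * (xx S.d (t ^ 2 * s) * (xx S.e (-((S.eps : K) * t ^ 3 * s)) *
      xx S.f (-(t ^ 3 * s ^ 2))))) := by
  obtain ⟨la, lb, -⟩ := sext_lt hS
  simp only [sextOK, Bool.and_eq_true, beq_iff_eq, bne_iff_ne] at hS
  rw [Rel.comm_GL mem_data la lb hS.1.1.2 hS.1.2 t s]
  congr 1
  have e : chevG2.commWord K S.a S.b t s =
      ((chevG2.commTerms S.a S.b).map (fun c => (c.1, c.2.1 % 3, c.2.2))).map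
        fun c : ℕ × ℤ × ℕ × ℕ => (c.1, (c.2.1 : K) * (-t) ^ c.2.2.1 * s ^ c.2.2.2) := by
    rw [ChevalleyDatum.commWord, List.map_map]
    refine List.map_congr_left fun c _ => ?_
    simp only [Function.comp_apply]
    rw [Aut.cast_mod (m := 3) (three_zero hK)]
  rw [e, hS.1.1.1.1.1.1]
  simp only [List.map_cons, List.map_nil, Aut.cast_mod (m := 3) (three_zero hK), Rel.wordGL, List.prod_cons,
    List.prod_nil, mul_one]
  simp only [Int.cast_neg, Int.cast_one, one_mul, pow_one, neg_sq, Odd.neg_pow (show Odd 3 by decide),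
    mul_neg, neg_mul, neg_neg]

/-- a word of the class -/
noncomputable def W (S : Sext) (t u v : K) : GL chevG2.Idx K :=
  xx S.a ((S.eps : K) * th hK t) * (xx S.b ((S.eps : K) * t) *
    (xx S.c ((S.eps : K) * (th hK t * t + th hK u)) * (xx S.d ((S.eps : K) * (th hK t ^ 2 * t + th hK v)) *
      (xx S.e ((S.eps : K) * u) * xx S.f ((S.eps : K) * v)))))

/-- first family -/
noncomputable def A (S : Sext) (t : K) : GL chevG2.Idx K :=
  xx S.a ((S.eps : K) * th hK t) * (xx S.b ((S.eps : K) * t) *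
    (xx S.c ((S.eps : K) * (th hK t * t)) * xx S.d ((S.eps : K) * (th hK t ^ 2 * t))))

/-- second family -/
noncomputable def B1 (S : Sext) (u : K) : GL chevG2.Idx K :=
  xx S.c ((S.eps : K) * th hK u) * xx S.e ((S.eps : K) * u)

/-- third family -/
noncomputable def B2 (S : Sext) (v : K) : GL chevG2.Idx K :=
  xx S.d ((S.eps : K) * th hK v) * xx S.f ((S.eps : K) * v)

include hS in
theorem W_eq (t u v : K) : W hK S t u v = A hK S t * B1 hK S u * B2 hK S v := by
  obtain ⟨la, lb, lc, ld, le', lf⟩ := sext_lt hS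
  have c1 := fun t u => sext_comm hK hS (S.c, S.d) (by simp) t u
  have c4 := fun t u => sext_comm hK hS (S.d, S.e) (by simp) t u
  simp only [W, A, B1, B2, mul_add, xx]
  rw [← Rel.xGL_add mem_data lc, ← Rel.xGL_add mem_data ld]
  calc _ = xx S.a ((S.eps : K) * th hK t) * xx S.b ((S.eps : K) * t) * xx S.c ((S.eps : K) * (th hK t * t)) *
        (xx S.c ((S.eps : K) * th hK u) * xx S.d ((S.eps : K) * (th hK t ^ 2 * t))) *
        (xx S.d ((S.eps : K) * th hK v) * xx S.e ((S.eps : K) * u)) * xx S.f ((S.eps : K) * v) := by group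
    _ = _ := by rw [(c1 _ _).eq, (c4 _ _).eq]; group

include hS in
theorem sig_x (r s : ℕ) (n : ℕ)
    (h : (r, s, n) ∈ [(S.a, S.b, 3), (S.b, S.a, 1), (S.c, S.e, 3), (S.e, S.c, 1), (S.d, S.f, 3), (S.f, S.d, 1)]) (t : K) :
    (tw hK).sig (xx r t) = xx s (th hK (t ^ n)) := by
  obtain ⟨la, lb, lc, ld, le', lf⟩ := sext_lt hS
  have hr : r < 12 := by
    simp only [List.mem_cons, List.not_mem_nil, or_false, Prod.mk.injEq] at h
    omega
  simp only [sextOK, Bool.and_eq_true, beq_iff_eq, bne_iff_ne, List.all_eq_true] at hS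
  obtain ⟨⟨h1, h2⟩, h3⟩ := hS.2 _ h
  rw [(tw hK).sig_x hr]
  show xx (Aut.gRoot Aut.GData.g2 r) ((Aut.gSign Aut.GData.g2 r : K) * (tw hK).π r t) = _
  rw [π_apply hK hr, h1, h2, h3, Int.cast_one, one_mul]

theorem xx_mem (r : ℕ) (t : K) : xx r t ∈ chevG2.group K := xGL_mem_group mem_data _ _

include hS in
theorem th_eps (x : K) : th hK (((S.eps : K) * x) ^ 3) = (S.eps : K) * th hK (x ^ 3) := by
  rw [mul_pow, (eps_cube hS).1, map_mul, map_intCast]

include hS in
theorem B1_fix (u : K) : B1 hK S u ∈ (tw hK).fix := by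
  refine (tw hK).mem_fix.2 ⟨mul_mem (xx_mem _ _) (xx_mem _ _), ?_⟩
  rw [B1, (tw hK).sig_mul (xx_mem _ _) (xx_mem _ _), sig_x hK hS S.c S.e 3 (by simp), sig_x hK hS S.e S.c 1 (by simp),
    pow_one, th_eps hK hS, th_cube, map_mul, map_intCast,
    (sext_comm hK hS (S.c, S.e) (by simp) ((S.eps : K) * th hK u) ((S.eps : K) * u)).eq]

include hS in
theorem B2_fix (v : K) : B2 hK S v ∈ (tw hK).fix := by
  refine (tw hK).mem_fix.2 ⟨mul_mem (xx_mem _ _) (xx_mem _ _), ?_⟩
  rw [B2, (tw hK).sig_mul (xx_mem _ _) (xx_mem _ _), sig_x hK hS S.d S.f 3 (by simp), sig_x hK hS S.f S.d 1 (by simp),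
    pow_one, th_eps hK hS, th_cube, map_mul, map_intCast,
    (sext_comm hK hS (S.d, S.f) (by simp) ((S.eps : K) * th hK v) ((S.eps : K) * v)).eq]

include hS in
theorem A_fix (t : K) : A hK S t ∈ (tw hK).fix := by
  obtain ⟨la, lb, lc, ld, le', lf⟩ := sext_lt hS
  have g1 : xx S.c ((S.eps : K) * (th hK t * t)) * xx S.d ((S.eps : K) * (th hK t ^ 2 * t)) ∈ chevG2.group K :=
    mul_mem (xx_mem _ _) (xx_mem _ _)
  have g2 : xx S.b ((S.eps : K) * t) * (xx S.c ((S.eps : K) * (th hK t * t)) *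
      xx S.d ((S.eps : K) * (th hK t ^ 2 * t))) ∈ chevG2.group K := mul_mem (xx_mem _ _) g1
  refine (tw hK).mem_fix.2 ⟨mul_mem (xx_mem _ _) g2, ?_⟩
  rw [A, (tw hK).sig_mul (xx_mem _ _) g2, (tw hK).sig_mul (xx_mem _ _) g1, (tw hK).sig_mul (xx_mem _ _) (xx_mem _ _),
    sig_x hK hS S.a S.b 3 (by simp), sig_x hK hS S.b S.a 1 (by simp), sig_x hK hS S.c S.e 3 (by simp),
    sig_x hK hS S.d S.f 3 (by simp), pow_one, th_eps hK hS, th_eps hK hS, th_eps hK hS, th_cube, map_mul (th hK),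
    map_intCast, ← mul_assoc, sext_swap hK hS]
  obtain ⟨e3, e2⟩ := eps_cube (K := K) hS
  have k1 : (S.eps : K) * ((S.eps : K) * th hK t) * ((S.eps : K) * t) = (S.eps : K) * (th hK t * t) := by
    linear_combination ((S.eps : K) * (th hK t * t)) * e2
  have k2 : ((S.eps : K) * th hK t) ^ 2 * ((S.eps : K) * t) = (S.eps : K) * (th hK t ^ 2 * t) := by
    linear_combination (th hK t ^ 2 * t) * e3
  have k3 : -((S.eps : K) * ((S.eps : K) * th hK t) ^ 3 * ((S.eps : K) * t)) =
      -((S.eps : K) * th hK ((th hK t * t) ^ 3)) := by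
    rw [mul_pow (th hK t) t, map_mul, th_cube, map_pow, mul_pow, e3]
    linear_combination (-((S.eps : K) * th hK t ^ 3 * t)) * e2
  have k4 : -(((S.eps : K) * th hK t) ^ 3 * ((S.eps : K) * t) ^ 2) =
      -((S.eps : K) * th hK ((th hK t ^ 2 * t) ^ 3)) := by
    rw [mul_pow (th hK t ^ 2) t, map_mul, show (th hK t ^ 2) ^ 3 = (th hK t ^ 3) ^ 2 by ring, map_pow (th hK) (th hK t ^ 3),
      th_cube, map_pow, mul_pow, e3]
    linear_combination (-((S.eps : K) * th hK t ^ 3 * t ^ 2)) * e2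
  rw [k1, k2, k3, k4]
  generalize (S.eps : K) * th hK ((th hK t * t) ^ 3) = X
  generalize (S.eps : K) * th hK ((th hK t ^ 2 * t) ^ 3) = Y
  have c6 := sext_comm hK hS (S.e, S.f) (by simp) X (-Y)
  have hc : xx S.e (-X) * xx S.f (-Y) * (xx S.e X * xx S.f Y) = 1 := by
    rw [show xx S.e (-X) * xx S.f (-Y) * (xx S.e X * xx S.f Y) =
      xx S.e (-X) * (xx S.f (-Y) * xx S.e X) * xx S.f Y by group, ← c6.eq,
      show xx S.e (-X) * (xx S.e X * xx S.f (-Y)) * xx S.f Y =
        (xx S.e (-X) * xx S.e X) * (xx S.f (-Y) * xx S.f Y) by group,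
      Rel.xGL_add mem_data le', Rel.xGL_add mem_data lf, neg_add_cancel, neg_add_cancel, xGL_zero, xGL_zero, one_mul]
  simp only [mul_assoc] at hc ⊢
  rw [hc, mul_one]

include hS in
theorem W_fix (t u v : K) : W hK S t u v ∈ (tw hK).fix := by
  rw [W_eq hK hS]; exact mul_mem (mul_mem (A_fix hK hS t) (B1_fix hK hS u)) (B2_fix hK hS v)

theorem wordU_eq (t u v : K) : wordG (D := chevG2) mem_data (reeWordU (3 ^ m) t u v) = W hK Ps t u v := by
  simp [reeWordU, wordG, W, Ps, g2a, g2b, g2ab, g2aab, g2aaab, g2aaabb, th_apply, xx, ← pow_mul, ← pow_succ,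
    mul_comm (2 : ℕ) (3 ^ m)]

theorem negIdx_eq : chevG2.negIdx.getD 7 0 = 4 ∧ chevG2.negIdx.getD 6 0 = 5 ∧ chevG2.negIdx.getD 8 0 = 3 ∧
    chevG2.negIdx.getD 9 0 = 2 ∧ chevG2.negIdx.getD 10 0 = 1 ∧ chevG2.negIdx.getD 11 0 = 0 := by decide +kernel

theorem wordV_eq (t u v : K) : wordG (D := chevG2) mem_data (reeWordV (3 ^ m) t u v) = W hK Ns t u v := by
  obtain ⟨n1, n2, n3, n4, n5, n6⟩ := negIdx_eq
  simp only [Array.getD_eq_getD_getElem?] at n1 n2 n3 n4 n5 n6
  simp [reeWordV, ChevalleyDatum.negWord, reeWordU, wordG, W, Ns, g2a, g2b, g2ab, g2aab, g2aaab, g2aaabb, th_apply,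
    xx, ← pow_mul, ← pow_succ, mul_comm (2 : ℕ) (3 ^ m), n1, n2, n3, n4, n5, n6]

theorem W_mem {S : Sext} (h : S = Ps ∨ S = Ns) (t u v : K) : W hK S t u v ∈ twistedG2 K (3 ^ m) := by
  rcases h with rfl | rfl
  · rw [← wordU_eq]; exact wordG_mem mem_data ⟨t, u, v, Or.inl rfl⟩
  · rw [← wordV_eq]; exact wordG_mem mem_data ⟨t, u, v, Or.inr rfl⟩

theorem A_mem {S : Sext} (h : S = Ps ∨ S = Ns) (t : K) : A hK S t ∈ twistedG2 K (3 ^ m) := by
  have := W_mem hK h t 0 0
  simpa [W, A, xx, xGL_zero] using this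

theorem B1_mem {S : Sext} (h : S = Ps ∨ S = Ns) (u : K) : B1 hK S u ∈ twistedG2 K (3 ^ m) := by
  have := W_mem hK h 0 u 0
  simpa [W, B1, xx, xGL_zero] using this

theorem B2_mem {S : Sext} (h : S = Ps ∨ S = Ns) (v : K) : B2 hK S v ∈ twistedG2 K (3 ^ m) := by
  have := W_mem hK h 0 0 v
  simpa [W, B2, xx, xGL_zero] using this

theorem signs : (∀ r ∈ [7, 6, 8, 9, 10, 11], chevG2.IsPosRoot r) ∧
    (∀ r ∈ [4, 5, 3, 2, 1, 0], chevG2.IsNegRoot r) := by decide +kernel

theorem W_pos (t u v : K) : W hK Ps t u v ∈ chevG2.posUnipotent K := by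
  have h : ∀ r ∈ [7, 6, 8, 9, 10, 11], ∀ x : K, xx r x ∈ chevG2.posUnipotent K :=
    fun r hr x => xGL_mem_pos mem_data (signs.1 r hr) x
  exact mul_mem (h 7 (by simp) _) (mul_mem (h 6 (by simp) _) (mul_mem (h 8 (by simp) _) (mul_mem (h 9 (by simp) _)
    (mul_mem (h 10 (by simp) _) (h 11 (by simp) _)))))

theorem W_neg (t u v : K) : W hK Ns t u v ∈ chevG2.negUnipotent K := by
  have h : ∀ r ∈ [4, 5, 3, 2, 1, 0], ∀ x : K, xx r x ∈ chevG2.negUnipotent K :=
    fun r hr x => xGL_mem_neg mem_data (signs.2 r hr) x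
  exact mul_mem (h 4 (by simp) _) (mul_mem (h 5 (by simp) _) (mul_mem (h 3 (by simp) _) (mul_mem (h 2 (by simp) _)
    (mul_mem (h 1 (by simp) _) (h 0 (by simp) _)))))

/-- each generator is a fixed element of `U` or of `V` -/
theorem gen_cases {w : List (ℕ × K)} (hw : w ∈ g2Words K (3 ^ m)) : wordG mem_data w ∈ (tw hK).fix ∧
    (wordG mem_data w ∈ chevG2.posUnipotent K ∨ wordG mem_data w ∈ chevG2.negUnipotent K) := by
  obtain ⟨t, u, v, rfl | rfl⟩ := hw
  · rw [wordU_eq hK]; exact ⟨W_fix hK Ps_ok t u v, Or.inl (W_pos hK t u v)⟩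
  · rw [wordV_eq hK]; exact ⟨W_fix hK Ns_ok t u v, Or.inr (W_neg hK t u v)⟩

theorem le_fix : twistedG2 K (3 ^ m) ≤ (tw hK).fix := genSubgroup_le mem_data fun _ hw => (gen_cases hK hw).1

theorem A_word (S : Sext) (t : K) : A hK S t = wordG (D := chevG2) mem_data [(S.a, (S.eps : K) * th hK t),
    (S.b, (S.eps : K) * t), (S.c, (S.eps : K) * (th hK t * t)), (S.d, (S.eps : K) * (th hK t ^ 2 * t))] := by
  simp [A, wordG, xx]

theorem A_pe (s : K) : A hK Ps s = Classes.prodE mem_data ([(7, fun s => th hK s)] ++ (6, id) ::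
    [(8, fun s => th hK s * s), (9, fun s => th hK s ^ 2 * s)]) s := by
  simp [A, Ps, Classes.prodE, xx]

theorem B1_pe (s : K) : B1 hK Ps s = Classes.prodE mem_data ([(8, fun s => th hK s)] ++ (10, id) :: []) s := by
  simp [B1, Ps, Classes.prodE, xx]

theorem B2_pe (s : K) : B2 hK Ps s = Classes.prodE mem_data ([(9, fun s => th hK s)] ++ (11, id) :: []) s := by
  simp [B2, Ps, Classes.prodE, xx]

theorem lifts : Lifts (classes hK) (twistedG2 K (3 ^ m)) := by
  set O := orbits hK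
  set C := classes hK
  intro j
  obtain rfl : j = ⟨0, by show 0 < 1; norm_num⟩ := Fin.ext (Nat.lt_one_iff.1 j.2)
  refine C.exists_lift O (twistedG2 K (3 ^ m)) (le_fix hK) _ (fun a ha hm => ?_)
    (v := wordG mem_data [(4, ((Ns.eps : ℤ) : K) * th hK 1), (5, ((Ns.eps : ℤ) : K) * 1),
      (3, ((Ns.eps : ℤ) : K) * (th hK 1 * 1)), (2, ((Ns.eps : ℤ) : K) * (th hK 1 ^ 2 * 1))]) ?_ ?_ ?_
  · have ha' : a ∈ reps := ha
    simp only [reps, List.mem_cons, List.not_mem_nil, or_false] at ha'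
    rcases ha' with rfl | rfl | rfl
    · exact famOn_direct O (le_fix hK) lev reps rfl rfl (C.w_lt _) ha [(7, fun s => th hK s)]
        [(8, fun s => th hK s * s), (9, fun s => th hK s ^ 2 * s)]
        (by show directOK chevG2 lev reps w0 [7] 6 [8, 9] = true; decide +kernel)
        fun s _ => by rw [← A_pe]; exact A_mem hK (Or.inl rfl) s
    · exact famOn_direct O (le_fix hK) lev reps rfl rfl (C.w_lt _) ha [(8, fun s => th hK s)] []
        (by show directOK chevG2 lev reps w0 [8] 10 [] = true; decide +kernel)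
        fun s _ => by rw [← B1_pe]; exact B1_mem hK (Or.inl rfl) s
    · exact famOn_direct O (le_fix hK) lev reps rfl rfl (C.w_lt _) ha [(9, fun s => th hK s)] []
        (by show directOK chevG2 lev reps w0 [9] 11 [] = true; decide +kernel)
        fun s _ => by rw [← B2_pe]; exact B2_mem hK (Or.inl rfl) s
  · have h := A_mem hK (Or.inr rfl) (1 : K)
    rw [A_word] at h
    exact h
  · exact wordG_neg_ne O (l := w0) (by decide +kernel) (by decide +kernel) (by decide +kernel) (by rfl)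
      (by simp only [List.mem_cons, List.not_mem_nil, or_false, forall_eq_or_imp, forall_eq]; decide +kernel)
      (by simp [Ns])
  · refine Subgroup.list_prod_mem _ fun x hx => ?_
    simp only [List.map_cons, List.map_nil, List.mem_cons, List.not_mem_nil, or_false] at hx
    rcases hx with rfl | rfl | rfl | rfl
    · exact RootGen.xGL_mem_gen mem_data ⟨by decide +kernel,
        (inB_iff (by decide +kernel)).1 (by show inB chevG2 [0, 1] 4 = true; decide +kernel)⟩ _
    · exact RootGen.xGL_mem_gen mem_data ⟨by decide +kernel,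
        (inB_iff (by decide +kernel)).1 (by show inB chevG2 [0, 1] 5 = true; decide +kernel)⟩ _
    · exact RootGen.xGL_mem_gen mem_data ⟨by decide +kernel,
        (inB_iff (by decide +kernel)).1 (by show inB chevG2 [0, 1] 3 = true; decide +kernel)⟩ _
    · exact RootGen.xGL_mem_gen mem_data ⟨by decide +kernel,
        (inB_iff (by decide +kernel)).1 (by show inB chevG2 [0, 1] 2 = true; decide +kernel)⟩ _

/-- families from the basic ones -/
theorem fam_of {M : Subgroup (GL chevG2.Idx K)} (hM : M ≤ (tw hK).fix) (h0 : ∀ t, A hK Ps t ∈ M)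
    (h1 : ∀ t, B1 hK Ps t ∈ M) (h2 : ∀ t, B2 hK Ps t ∈ M) : (orbits hK).Fam M := by
  intro a ha hpos s hs
  have hn := conj_nil (D := chevG2) (F := K) mem_data M
  have key : ∃ x ∈ M, x ∈ (tw hK).fix ∧
      x ∈ RootGen.gen chevG2 K ((orbits hK).PL chevG2.IsPosRoot ((orbits hK).lev a)) ∧
      coord mem_data x a = s ∧ ∀ c ∈ (orbits hK).reps, c ≠ a → (orbits hK).lev c = (orbits hK).lev a →
        coord mem_data x c = 0 := by
    have ha' : a ∈ reps := ha
    simp only [reps, List.mem_cons, List.not_mem_nil, or_false] at ha'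
    rcases ha' with rfl | rfl | rfl
    · exact fam_cert (orbits hK) hM lev reps rfl rfl ha (l := []) (by simp) hn [(7, fun s => th hK s)]
        [(8, fun s => th hK s * s), (9, fun s => th hK s ^ 2 * s)] 6
        (by show certOK chevG2 lev reps [] [7] 6 [8, 9] 6 = true; decide +kernel)
        (fun s _ => by rw [← A_pe]; exact h0 s) s hs
    · exact fam_cert (orbits hK) hM lev reps rfl rfl ha (l := []) (by simp) hn [(8, fun s => th hK s)] [] 10
        (by show certOK chevG2 lev reps [] [8] 10 [] 10 = true; decide +kernel)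
        (fun s _ => by rw [← B1_pe]; exact h1 s) s hs
    · exact fam_cert (orbits hK) hM lev reps rfl rfl ha (l := []) (by simp) hn [(9, fun s => th hK s)] [] 11
        (by show certOK chevG2 lev reps [] [9] 11 [] 11 = true; decide +kernel)
        (fun s _ => by rw [← B2_pe]; exact h2 s) s hs
  obtain ⟨x, h1', h2', h3', h4', h5'⟩ := key
  exact ⟨x, h1', h2', h3', h4', fun b hb hba hl _ => h5' b hb hba hl⟩

theorem fam_T : (orbits hK).Fam (twistedG2 K (3 ^ m)) :=
  fam_of hK (le_fix hK) (A_mem hK (Or.inl rfl)) (B1_mem hK (Or.inl rfl)) (B2_mem hK (Or.inl rfl))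

def src : Fin 2 → Fin 2 := ![1, 0]

theorem src_bij : Function.Bijective src := Finite.injective_iff_bijective.1 (by decide)

theorem src_root : ∀ i : Fin 2, Aut.gRoot Aut.GData.g2 (chevG2.simple (src i).1) = chevG2.simple i.1 := by
  decide +kernel

/-- `θ` on units -/
noncomputable def tu : Kˣ →* Kˣ := Units.map (th hK).toRingHom.toMonoidHom

theorem tu3 (x : Kˣ) : tu hK (tu hK x) ^ 3 = x := Units.ext (by simp [tu, th3])

/-- torus coordinates of the fixed elements -/
noncomputable def par (c : Kˣ) : Fin chevG2.rank → Kˣ := fun i => [tu hK c, c].getD i.1 1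

theorem torus_inj : Function.Injective (Torus.torusHom chevG2 K) := by
  rw [← MonoidHom.ker_eq_bot_iff]
  refine Subgroup.eq_bot_of_card_eq _ ?_
  rw [show Nat.card ↥(Torus.torusHom chevG2 K).ker = _ from Torus.ker_G2]
  simp

/-- the parametrisation of the fixed torus -/
noncomputable def parHom : Kˣ →* GL chevG2.Idx K where
  toFun c := Torus.torusHom chevG2 K (par hK c)
  map_one' := by
    rw [← map_one (Torus.torusHom chevG2 K)]
    congr 1
    funext i
    obtain ⟨i, hi⟩ := i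
    have : i < 2 := hi
    interval_cases i <;> simp [par]
  map_mul' x y := by
    rw [← map_mul]
    congr 1
    funext i
    obtain ⟨i, hi⟩ := i
    have : i < 2 := hi
    interval_cases i <;> simp [par]

theorem parHom_inj : Function.Injective (parHom hK) := fun x y h =>
  congrFun (torus_inj h) (⟨1, by decide⟩ : Fin chevG2.rank)

theorem fixed_torus {h : GL chevG2.Idx K} (hh : h ∈ chevG2.diagonalSubgroup K) (hf : h ∈ (tw hK).fix) :
    ∃ c : Kˣ, h = parHom hK c := by
  obtain ⟨d, rfl⟩ := (Torus.range_torusHom mem_data).ge hh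
  have hs := ((tw hK).mem_fix.1 hf).2
  rw [sig_torusHom (tw hK) src src_root src_bij d] at hs
  have hd := torus_inj hs
  let f : Fin 2 → Kˣ := d
  refine ⟨f 1, congrArg _ (funext fun i => ?_)⟩
  obtain ⟨i, hi⟩ := i
  have hi' : i < 2 := hi
  have hlt : chevG2.simple 1 = 6 := by decide +kernel
  interval_cases i
  · refine (congrFun hd ⟨0, hi⟩).symm.trans (Units.ext ?_)
    show (tw hK).π (chevG2.simple 1) (f 1 : K) = th hK (f 1 : K)
    rw [hlt, π_apply hK (by norm_num), show Aut.gExpo Aut.GData.g2 6 = 1 by decide +kernel, pow_one]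
  · rfl

theorem coroots : (List.range 2).map (fun i => (chevG2.coroot.getD 8 #[]).getD i 0) = [1, 3] ∧
    (List.range 2).map (fun i => (chevG2.coroot.getD 10 #[]).getD i 0) = [1, 1] := by decide +kernel

/-- the exponent map -/
noncomputable def phi : Kˣ →* Kˣ := (powMonoidHom 3).comp (tu hK) * MonoidHom.id Kˣ

theorem phi_apply (u : Kˣ) : phi hK u = tu hK u ^ 3 * u := rfl

theorem pair_torus (u : Kˣ) : parHom hK (phi hK u) =
    (([8, 10] : List ℕ).map fun r => hGL mem_data K r (if r = 8 ∨ r = 3 then th hK (u : K) else (u : K))).prod := by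
  simp only [List.map_cons, List.map_nil, List.prod_cons, List.prod_nil, mul_one, true_or, if_true,
    show ¬ ((10 : ℕ) = 8 ∨ (10 : ℕ) = 3) by norm_num, if_false]
  rw [show hGL mem_data K 8 (th hK (u : K)) = hGL mem_data K 8 ((tu hK u : Kˣ) : K) from rfl,
    ← Torus.torus_root mem_data (by decide +kernel), ← Torus.torus_root mem_data (by decide +kernel), ← map_mul]
  show Torus.torusHom chevG2 K _ = _
  congr 1
  funext i
  obtain ⟨i, hi⟩ := i
  have : i < 2 := hi
  have hc := coroots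
  simp [List.range_succ] at hc
  obtain ⟨⟨a0, a1⟩, b0, b1⟩ := hc
  interval_cases i
  · simp [par, a0, b0, phi_apply]
    rw [tu3, mul_comm]
  · simp [par, a1, b1, phi_apply, zpow_ofNat]

theorem phi_mem (u : Kˣ) : parHom hK (phi hK u) ∈ twistedG2 K (3 ^ m) := by
  rw [pair_torus]
  have n1 : chevG2.neg 8 = 3 ∧ chevG2.neg 10 = 1 := by decide +kernel
  refine orth_torus_mem mem_data (m := 3) (three_zero hK) (by decide +kernel) _ ?_ ?_ ?_ ?_
  · simpa [B1, Ps, wordG, xx] using B1_mem hK (Or.inl rfl : Ps = Ps ∨ Ps = Ns) (u : K)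
  · simpa [B1, Ns, wordG, xx, n1, map_inv₀] using B1_mem hK (Or.inr rfl : Ns = Ps ∨ Ns = Ns) ((u : K)⁻¹)
  · simpa [B1, Ps, wordG, xx] using B1_mem hK (Or.inl rfl : Ps = Ps ∨ Ps = Ns) (-1 : K)
  · simpa [B1, Ns, wordG, xx, n1] using B1_mem hK (Or.inr rfl : Ns = Ps ∨ Ns = Ns) (-1 : K)

/-- integer words -/
def iw (S : Sext) (t u v : ℤ) : List (ℕ × ℤ) :=
  [(S.a, S.eps * t), (S.b, S.eps * t), (S.c, S.eps * (t * t + u)), (S.d, S.eps * (t ^ 2 * t + v)), (S.e, S.eps * u),
    (S.f, S.eps * v)]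

theorem iw_val (S : Sext) (t u v : ℤ) :
    wordG (D := chevG2) mem_data ((iw S t u v).map fun p => (p.1, (p.2 : K))) = W hK S (t : K) u v := by
  simp [iw, wordG, W, xx, map_intCast]

def cert : List (ℕ × ℤ) := iw Ps 0 0 1 ++ iw Ns 0 0 1 ++ iw Ps 1 1 1 ++ iw Ns (-1) 1 (-1)

def hcert : List (ℕ × ℤ) := [(10, -1), (1, 1), (10, -1), (10, -1), (1, 1), (10, -1)]

theorem cert_ok : IntEval.sameW chevG2 3 cert hcert = true := by decide +kernel

theorem neg_one_mem : parHom hK (-1) ∈ twistedG2 K (3 ^ m) := by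
  have h1 : parHom hK (-1) = wordG (D := chevG2) mem_data (cert.map fun p => (p.1, (p.2 : K))) := by
    refine Units.ext ?_
    rw [wordG_val, IntEval.wordMat_eq (three_zero hK) nd_ok cert_ok]
    have e : parHom hK (-1) = hGL mem_data K 10 ((-1 : Kˣ) : K) := by
      rw [← Torus.torus_root mem_data (by decide +kernel)]
      show Torus.torusHom chevG2 K _ = _
      congr 1
      funext i
      obtain ⟨i, hi⟩ := i
      have : i < 2 := hi
      have hc := coroots
      simp [List.range_succ] at hc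
      obtain ⟨-, b0, b1⟩ := hc
      interval_cases i
      · refine Units.ext ?_; simp [par, b0, tu]
      · simp [par, b1]
    rw [e, hGL_val]
    have n1 : chevG2.negIdx.getD 10 0 = 1 := negIdx_eq.2.2.2.2.1
    simp [ChevalleyDatum.hMat, ChevalleyDatum.hWord, ChevalleyDatum.nWord, ChevalleyDatum.neg, hcert, n1]
  have happ : ∀ w w' : List (ℕ × K), wordG (D := chevG2) mem_data (w ++ w') =
      wordG mem_data w * wordG mem_data w' := fun w w' => by simp [wordG]
  rw [h1, cert, List.map_append, List.map_append, List.map_append, happ, happ, happ, iw_val hK, iw_val hK, iw_val hK,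
    iw_val hK]
  exact mul_mem (mul_mem (mul_mem (W_mem hK (Or.inl rfl) _ _ _) (W_mem hK (Or.inr rfl) _ _ _))
    (W_mem hK (Or.inl rfl) _ _ _)) (W_mem hK (Or.inr rfl) _ _ _)

include hK in
theorem card_mod : Fintype.card K % 4 = 3 := by
  rw [hK, pow_succ, pow_mul, Nat.mul_mod, Nat.pow_mod]; norm_num

include hK in
theorem neg_one_not_sq : ¬ IsSquare (-1 : K) := fun h => FiniteField.isSquare_neg_one_iff.1 h (card_mod hK)

theorem phi_cover (c : Kˣ) : c ∈ (phi hK).range ∨ -c ∈ (phi hK).range := by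
  have hsq : ∀ u, IsSquare ((phi hK u : Kˣ) : K) := fun u => by
    have hodd : Odd (3 ^ m * 3) := by rw [← pow_succ]; exact (by decide : Odd 3).pow
    obtain ⟨k, hk⟩ := hodd
    refine ⟨(u : K) ^ (k + 1), ?_⟩
    show th hK (u : K) ^ 3 * (u : K) = _
    rw [th_apply, ← pow_mul, hk, ← pow_succ, ← pow_add]
    ring_nf
  have h1 : (-1 : Kˣ) ∉ (phi hK).range := by
    rintro ⟨u, hu⟩
    exact neg_one_not_sq hK (by simpa [hu] using hsq u)
  have hker : (phi hK).ker = (powMonoidHom 2 : Kˣ →* Kˣ).ker := by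
    ext u
    simp only [MonoidHom.mem_ker, powMonoidHom_apply, phi_apply]
    constructor <;> intro h
    · have h1 : tu hK u ^ 3 = u⁻¹ := eq_inv_of_mul_eq_one_left h
      have h2 : tu hK u = u⁻¹ := by
        have := congrArg (tu hK) h1
        rw [map_pow, tu3, map_inv] at this
        rw [eq_comm, inv_eq_iff_eq_inv]; exact this
      rw [h2, inv_pow, inv_inj, pow_succ] at h1
      exact mul_eq_right.1 h1
    · have hu : (u : K) * u = 1 := by rw [← pow_two, ← Units.val_pow_eq_pow_val, h, Units.val_one]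
      rcases mul_self_eq_one_iff.1 hu with e | e <;> exact Units.ext (by simp [tu, e, Odd.neg_one_pow (show Odd 3 by decide)])
  have hidx : (phi hK).range.index = 2 := by
    have h2 : Nat.card ↥(phi hK).ker = 2 := by
      rw [hker, IsCyclic.card_powMonoidHom_ker, Nat.card_units, Nat.card_eq_fintype_card]
      have := card_mod hK
      exact Nat.gcd_eq_right (Nat.dvd_of_mod_eq_zero (by omega))
    have e1 := Subgroup.card_mul_index (phi hK).range
    have e2 := Subgroup.card_mul_index (phi hK).ker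
    rw [Subgroup.index_ker, h2, ← e1, mul_comm] at e2
    exact (Nat.eq_of_mul_eq_mul_left Nat.card_pos e2).symm
  by_cases hc : c ∈ (phi hK).range
  · exact Or.inl hc
  · refine Or.inr ?_
    have := (Subgroup.mul_mem_iff_of_index_two hidx (a := c) (b := (-1 : Kˣ))).2 (iff_of_false hc h1)
    simpa using this

theorem parHom_mem (c : Kˣ) : parHom hK c ∈ twistedG2 K (3 ^ m) := by
  rcases phi_cover hK c with ⟨u, hu⟩ | ⟨u, hu⟩
  · rw [← hu]; exact phi_mem hK u
  · rw [← neg_neg c, ← hu, ← mul_neg_one, map_mul]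
    exact mul_mem (phi_mem hK u) (neg_one_mem hK)

theorem eq_fix : twistedG2 K (3 ^ m) = (tw hK).fix :=
  (classes hK).eq_fix (lifts hK) (le_fix hK)
    (fun g hg hgf => (orbits hK).mem_of_fam (fam_T hK) hg hgf)
    (fun h hh hf => by
      obtain ⟨c, rfl⟩ := fixed_torus hK hh hf
      exact parHom_mem hK c)

theorem lift_fix : Lifts (classes hK) (tw hK).fix := fun j => by
  obtain ⟨k, hk, h⟩ := lifts hK j
  exact ⟨k, hk, le_fix hK h⟩

/-- the structure of the fixed group -/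
noncomputable def setup : Setup (tw hK) where
  O := orbits hK
  C := classes hK
  lift := lift_fix hK
  fam := fam_of hK le_rfl (A_fix hK Ps_ok) (B1_fix hK Ps_ok) (B2_fix hK Ps_ok)

theorem parHom_range : (parHom hK).range = (tw hK).fix ⊓ chevG2.diagonalSubgroup K := by
  refine le_antisymm ?_ fun h hh => ?_
  · rintro _ ⟨x, rfl⟩
    exact ⟨le_fix hK (parHom_mem hK x), (Torus.range_torusHom mem_data).le ⟨_, rfl⟩⟩
  · obtain ⟨c, rfl⟩ := fixed_torus hK hh.2 hh.1
    exact ⟨c, rfl⟩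

theorem range_diag : (parHom hK).range = chevG2.diagonalSubgroup K ⊓ twistedG2 K (3 ^ m) := by
  rw [parHom_range, eq_fix hK, inf_comm]

theorem card_torus : Nat.card ↥((tw hK).fix ⊓ chevG2.diagonalSubgroup K) = 3 ^ (2 * m + 1) - 1 := by
  rw [← parHom_range, ← Nat.card_congr (MonoidHom.ofInjective (parHom_inj hK)).toEquiv, Nat.card_units,
    Nat.card_eq_fintype_card, hK]

theorem num_eq : ∀ a ∈ reps, (orbits hK).num a = (3 ^ (2 * m + 1)) ^ 1 := by
  intro a ha
  rw [pow_one, ← hK, ← Nat.card_eq_fintype_card]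
  exact Nat.card_congr (Equiv.subtypeUnivEquiv (p := (orbits hK).Adm a)
    fun s => Or.inl (List.contains_iff_mem.2 ha))

theorem pairings : chevG2.pairing 7 7 = 2 ∧ chevG2.pairing 7 6 = -3 ∧ chevG2.pairing 7 8 = -1 ∧
    chevG2.pairing 7 9 = 1 ∧ chevG2.pairing 7 10 = 3 ∧ chevG2.pairing 7 11 = 0 ∧
    chevG2.pairing 6 7 = -1 ∧ chevG2.pairing 6 6 = 2 ∧ chevG2.pairing 6 8 = 1 ∧
    chevG2.pairing 6 9 = 0 ∧ chevG2.pairing 6 10 = -1 ∧ chevG2.pairing 6 11 = 1 := by decide +kernel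

theorem parHom_conj (c : Kˣ) (r : ℕ) (hr : r < 12) (t : K) : parHom hK c * xx r t * (parHom hK c)⁻¹ =
    xx r (th hK (c : K) ^ chevG2.pairing 7 r * ((c : K) ^ chevG2.pairing 6 r * t)) := by
  have e : parHom hK c = hGL mem_data K 7 ((tu hK c : Kˣ) : K) * hGL mem_data K 6 (c : K) := by
    have h : par hK c = Pi.mulSingle (⟨0, by decide⟩ : Fin chevG2.rank) (tu hK c) *
        Pi.mulSingle (⟨1, by decide⟩ : Fin chevG2.rank) c := by
      funext i
      obtain ⟨i, hi⟩ := i
      have : i < 2 := hi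
      interval_cases i <;> simp [par, Fin.ext_iff]
    show Torus.torusHom chevG2 K (par hK c) = _
    rw [h, map_mul, Torus.torus_simple mem_data, Torus.torus_simple mem_data,
      show chevG2.simple 0 = 7 by decide +kernel, show chevG2.simple 1 = 6 by decide +kernel]
  rw [e, show hGL mem_data K 7 ((tu hK c : Kˣ) : K) * hGL mem_data K 6 (c : K) * xx r t *
    (hGL mem_data K 7 ((tu hK c : Kˣ) : K) * hGL mem_data K 6 (c : K))⁻¹ =
    hGL mem_data K 7 ((tu hK c : Kˣ) : K) * (hGL mem_data K 6 (c : K) * xx r t *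
      (hGL mem_data K 6 (c : K))⁻¹) * (hGL mem_data K 7 ((tu hK c : Kˣ) : K))⁻¹ by group,
    Weight.h_conj_GL mem_data (by decide +kernel) hr c.ne_zero,
    Weight.h_conj_GL mem_data (by decide +kernel) hr (Units.ne_zero _)]
  rfl

/-- characters on the three families -/
noncomputable def ch0 (c : K) : K := c ^ 2 / th hK c ^ 3
noncomputable def ch1 (c : K) : K := th hK c ^ 3 / c

theorem ch_ne {c : K} (hc : c ≠ 0) (h1 : c ≠ 1) (h2 : c ≠ -1) : ch0 hK c ≠ 1 ∧ ch1 hK c ≠ 1 ∧ c ≠ 1 := by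
  refine ⟨fun h => h1 ?_, fun h => ?_, h1⟩
  · rw [ch0, div_eq_one_iff_eq (by simp [hc])] at h
    have h' := congrArg (fun x => th hK x ^ 3) h
    simp only [th_cube] at h'
    rw [map_pow, ← pow_mul, mul_comm, pow_mul, ← h] at h'
    exact mul_left_cancel₀ (pow_ne_zero 3 hc) (by linear_combination h')
  · rw [ch1, div_eq_one_iff_eq hc] at h
    have h' := congrArg (th hK) h
    rw [th_cube] at h'
    rw [← h'] at h
    have : c * c = 1 := mul_left_cancel₀ hc (by linear_combination h)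
    rcases mul_self_eq_one_iff.1 this with e | e
    exacts [h1 e, h2 e]

theorem W_conj (c : Kˣ) (t u v : K) : parHom hK c * W hK Ps t u v * (parHom hK c)⁻¹ =
    W hK Ps (ch0 hK c * t) (ch1 hK c * u) ((c : K) * v) := by
  obtain ⟨p1, p2, p3, p4, p5, p6, q1, q2, q3, q4, q5, q6⟩ := pairings
  have hn : th hK (c : K) ≠ 0 := by simp
  have hcc := c.ne_zero
  have e0 : th hK (ch0 hK c) = th hK (c : K) ^ 2 / c := by rw [ch0, map_div₀, th_cube, map_pow]
  have e1 : th hK (ch1 hK c) = (c : K) / th hK c := by rw [ch1, map_div₀, th_cube]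
  simp only [W, show Ps.a = 7 from rfl, show Ps.b = 6 from rfl, show Ps.c = 8 from rfl, show Ps.d = 9 from rfl,
    show Ps.e = 10 from rfl, show Ps.f = 11 from rfl, show Ps.eps = 1 from rfl, Int.cast_one, one_mul]
  rw [show ∀ (P a b c' d e f : GL chevG2.Idx K), P * (a * (b * (c' * (d * (e * f))))) * P⁻¹ =
      (P * a * P⁻¹) * ((P * b * P⁻¹) * ((P * c' * P⁻¹) * ((P * d * P⁻¹) * ((P * e * P⁻¹) * (P * f * P⁻¹))))) from
    fun P a b c' d e f => by group,
    parHom_conj hK c 7 (by norm_num), parHom_conj hK c 6 (by norm_num), parHom_conj hK c 8 (by norm_num),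
    parHom_conj hK c 9 (by norm_num), parHom_conj hK c 10 (by norm_num), parHom_conj hK c 11 (by norm_num),
    p1, p2, p3, p4, p5, p6, q1, q2, q3, q4, q5, q6, map_mul, map_mul, map_mul, e0, e1]
  have k7 : th hK (c : K) ^ (2 : ℤ) * ((c : K) ^ (-1 : ℤ) * th hK t) = th hK (c : K) ^ 2 / c * th hK t := by
    simp [zpow_ofNat]; field_simp
  have k6 : th hK (c : K) ^ (-3 : ℤ) * ((c : K) ^ (2 : ℤ) * t) = ch0 hK c * t := by
    simp [ch0, zpow_ofNat]; field_simp
  have k8 : th hK (c : K) ^ (-1 : ℤ) * ((c : K) ^ (1 : ℤ) * (th hK t * t + th hK u)) =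
      th hK (c : K) ^ 2 / c * th hK t * (ch0 hK c * t) + (c : K) / th hK c * th hK u := by
    simp [ch0]; field_simp
  have k9 : th hK (c : K) ^ (1 : ℤ) * ((c : K) ^ (0 : ℤ) * (th hK t ^ 2 * t + th hK v)) =
      (th hK (c : K) ^ 2 / c * th hK t) ^ 2 * (ch0 hK c * t) + th hK c * th hK v := by
    simp [ch0]; field_simp
  have k10 : th hK (c : K) ^ (3 : ℤ) * ((c : K) ^ (-1 : ℤ) * u) = ch1 hK c * u := by
    simp [ch1, zpow_ofNat]; field_simp
  have k11 : th hK (c : K) ^ (0 : ℤ) * ((c : K) ^ (1 : ℤ) * v) = (c : K) * v := by simp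
  rw [k7, k6, k8, k9, k10, k11]

theorem W_inj {t u v t' u' v' : K} (h : W hK Ps t u v = W hK Ps t' u' v') : t = t' ∧ u = u' ∧ v = v' := by
  rw [W_eq hK Ps_ok, W_eq hK Ps_ok] at h
  set O := orbits hK
  have hl : O.lev 6 = 0 ∧ O.lev 10 = 1 ∧ O.lev 11 = 2 ∧ O.lev 7 = 0 ∧ O.lev 8 = 1 ∧ O.lev 9 = 2 :=
    ⟨rfl, rfl, rfl, rfl, rfl, rfl⟩
  have hp : ∀ r ∈ [7, 6, 8, 9, 10, 11], chevG2.IsPosRoot r := signs.1
  have hx : ∀ (r L : ℕ), r ∈ [7, 6, 8, 9, 10, 11] → L ≤ O.lev r → ∀ x : K,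
      xx r x ∈ RootGen.gen chevG2 K (O.PL chevG2.IsPosRoot L) :=
    fun r L hr hL x => RootGen.xGL_mem_gen mem_data ⟨hp r hr, hL⟩ x
  have hA : ∀ t, A hK Ps t ∈ RootGen.gen chevG2 K (O.PL chevG2.IsPosRoot 0) := fun t =>
    mul_mem (hx 7 0 (by simp) (Nat.zero_le _) _) (mul_mem (hx 6 0 (by simp) (Nat.zero_le _) _)
      (mul_mem (hx 8 0 (by simp) (Nat.zero_le _) _) (hx 9 0 (by simp) (Nat.zero_le _) _)))
  have hB1 : ∀ L ≤ 1, ∀ u, B1 hK Ps u ∈ RootGen.gen chevG2 K (O.PL chevG2.IsPosRoot L) := fun L hL u =>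
    mul_mem (hx 8 L (by simp) hL _) (hx 10 L (by simp) hL _)
  have hB2 : ∀ L ≤ 2, ∀ v, B2 hK Ps v ∈ RootGen.gen chevG2 K (O.PL chevG2.IsPosRoot L) := fun L hL v =>
    mul_mem (hx 9 L (by simp) hL _) (hx 11 L (by simp) hL _)
  have hcl := fun L => O.pl_cl (cl_pos mem_data (F := K)) L
  have hlead := fun {L r : ℕ} (hr : O.lev r = L) => O.pl_lead (cl_pos mem_data (F := K)) hr
  have h0 : ∀ t u v, coord mem_data (A hK Ps t * B1 hK Ps u * B2 hK Ps v) 6 = t := fun t u v => by
    rw [coord_mul mem_data (hcl 0) ⟨hp 6 (by simp), le_rfl⟩ (hlead hl.1) (mul_mem (hA t) (hB1 0 (by norm_num) u))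
        (hB2 0 (by norm_num) v),
      coord_mul mem_data (hcl 0) ⟨hp 6 (by simp), le_rfl⟩ (hlead hl.1) (hA t) (hB1 0 (by norm_num) u)]
    have c0 : ∀ u, coord mem_data (B1 hK Ps u) 6 = 0 := fun u =>
      coord_off mem_data (hcl 1) (hB1 1 le_rfl u) fun h' => by have h2 := h'.2; rw [hl.1] at h2; omega
    have c1 : ∀ v, coord mem_data (B2 hK Ps v) 6 = 0 := fun v =>
      coord_off mem_data (hcl 2) (hB2 2 le_rfl v) fun h' => by have h2 := h'.2; rw [hl.1] at h2; omega
    rw [c0, c1, add_zero, add_zero]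
    simp only [A, show Ps.a = 7 from rfl, show Ps.b = 6 from rfl, show Ps.c = 8 from rfl, show Ps.d = 9 from rfl,
      show Ps.eps = 1 from rfl, Int.cast_one, one_mul]
    rw [coord_mul mem_data (hcl 0) ⟨hp 6 (by simp), le_rfl⟩ (hlead hl.1) (hx 7 0 (by simp) (Nat.zero_le _) _)
        (mul_mem (hx 6 0 (by simp) (Nat.zero_le _) _)
          (mul_mem (hx 8 0 (by simp) (Nat.zero_le _) _) (hx 9 0 (by simp) (Nat.zero_le _) _))),
      coord_mul mem_data (hcl 0) ⟨hp 6 (by simp), le_rfl⟩ (hlead hl.1) (hx 6 0 (by simp) (Nat.zero_le _) _)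
        (mul_mem (hx 8 0 (by simp) (Nat.zero_le _) _) (hx 9 0 (by simp) (Nat.zero_le _) _)),
      coord_mul mem_data (hcl 0) ⟨hp 6 (by simp), le_rfl⟩ (hlead hl.1) (hx 8 0 (by simp) (Nat.zero_le _) _)
        (hx 9 0 (by simp) (Nat.zero_le _) _),
      coord_x mem_data (hp 7 (by simp)), coord_x mem_data (hp 6 (by simp)), coord_x mem_data (hp 8 (by simp)),
      coord_x mem_data (hp 9 (by simp))]
    simp
  have h1 : ∀ u v, coord mem_data (B1 hK Ps u * B2 hK Ps v) 10 = u := fun u v => by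
    rw [coord_mul mem_data (hcl 1) ⟨hp 10 (by simp), le_rfl⟩ (hlead hl.2.1) (hB1 1 le_rfl u) (hB2 1 (by norm_num) v),
      coord_off mem_data (hcl 2) (hB2 2 le_rfl v) (fun h' => by have h2 := h'.2; rw [hl.2.1] at h2; omega), add_zero]
    simp only [B1, show Ps.c = 8 from rfl, show Ps.e = 10 from rfl, show Ps.eps = 1 from rfl, Int.cast_one, one_mul]
    rw [coord_mul mem_data (hcl 1) ⟨hp 10 (by simp), le_rfl⟩ (hlead hl.2.1) (hx 8 1 (by simp) le_rfl _)
        (hx 10 1 (by simp) le_rfl _), coord_x mem_data (hp 8 (by simp)), coord_x mem_data (hp 10 (by simp))]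
    simp
  have h2 : ∀ v, coord mem_data (B2 hK Ps v) 11 = v := fun v => by
    simp only [B2, show Ps.d = 9 from rfl, show Ps.f = 11 from rfl, show Ps.eps = 1 from rfl, Int.cast_one, one_mul]
    rw [coord_mul mem_data (hcl 2) ⟨hp 11 (by simp), le_rfl⟩ (hlead hl.2.2.1) (hx 9 2 (by simp) le_rfl _)
        (hx 11 2 (by simp) le_rfl _), coord_x mem_data (hp 9 (by simp)), coord_x mem_data (hp 11 (by simp))]
    simp
  obtain rfl : t = t' := by rw [← h0 t u v, h, h0]
  rw [mul_assoc, mul_assoc] at h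
  have h' := mul_left_cancel h
  obtain rfl : u = u' := by rw [← h1 u v, h', h1]
  exact ⟨rfl, rfl, by rw [← h2 v, mul_left_cancel h', h2]⟩

include hK

theorem card_diag : Nat.card ↥(chevG2.diagonalSubgroup K ⊓ twistedG2 K (3 ^ m)) = 3 ^ (2 * m + 1) - 1 := by
  rw [eq_fix hK, inf_comm, card_torus]

theorem card_unip : Nat.card ↥(chevG2.posUnipotent K ⊓ twistedG2 K (3 ^ m)) = (3 ^ (2 * m + 1)) ^ 3 := by
  rw [Setup.unip_transfer (eq_fix hK), (setup hK).card_fixU_pow reps rfl (by decide) _ (fun _ => 1) (num_eq hK)]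
  rfl

theorem mem_unip_iff (g : GL chevG2.Idx K) :
    g ∈ chevG2.posUnipotent K ⊓ twistedG2 K (3 ^ m) ↔ ∃ t u v : K, g = W hK Ps t u v := by
  refine ⟨fun hg => ?_, ?_⟩
  · let Φ : K × K × K → ↥(chevG2.posUnipotent K ⊓ twistedG2 K (3 ^ m)) := fun x =>
      ⟨W hK Ps x.1 x.2.1 x.2.2, W_pos hK _ _ _, W_mem hK (Or.inl rfl) _ _ _⟩
    have hinj : Function.Injective Φ := fun x y h => by
      obtain ⟨a, b, c⟩ := W_inj hK (congrArg Subtype.val h)
      exact Prod.ext a (Prod.ext b c)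
    have hbij : Function.Bijective Φ := by
      refine (Nat.bijective_iff_injective_and_card Φ).2 ⟨hinj, ?_⟩
      rw [card_unip hK, Nat.card_prod, Nat.card_prod, Nat.card_eq_fintype_card, hK]
      ring
    obtain ⟨x, hx⟩ := hbij.2 ⟨g, hg⟩
    exact ⟨x.1, x.2.1, x.2.2, (congrArg Subtype.val hx).symm⟩
  · rintro ⟨t, u, v, rfl⟩
    exact ⟨W_pos hK t u v, W_mem hK (Or.inl rfl) t u v⟩

theorem unip_elements :
    (∀ g : GL chevG2.Idx K, g ∈ chevG2.posUnipotent K ⊓ twistedG2 K (3 ^ m) ↔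
      ∃ t u v : K, (g : Matrix chevG2.Idx chevG2.Idx K) = chevG2.wordMat K (reeWordU (3 ^ m) t u v)) ∧
    Nat.card ↥(chevG2.posUnipotent K ⊓ twistedG2 K (3 ^ m)) = (3 ^ (2 * m + 1)) ^ 3 := by
  refine ⟨fun g => (mem_unip_iff hK g).trans (exists_congr fun t => exists_congr fun u => exists_congr fun v => ?_),
    card_unip hK⟩
  rw [← wordU_eq hK, ← wordG_val mem_data, Units.ext_iff]

theorem card_group : Nat.card ↥(twistedG2 K (3 ^ m)) =
    (3 ^ (2 * m + 1)) ^ 3 * (3 ^ (2 * m + 1) - 1) * ((3 ^ (2 * m + 1)) ^ 3 + 1) := by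
  rw [eq_fix hK, (setup hK).card_fix_pow ((setup hK).mkWeyl (w := cw) rfl ls ls_ok) reps rfl (by decide) _
    (fun _ => 1) (num_eq hK) (w := cw) rfl, card_torus]
  have e : (ls.map fun L => ((negReps chevG2 reps (flatW cw L)).map fun _ => 1).sum) = [0, 3] := by decide +kernel
  show (3 ^ (2 * m + 1)) ^ (reps.map fun _ => 1).sum * _ *
    ((ls.map fun L => ((negReps chevG2 reps (flatW cw L)).map fun _ => 1).sum).map fun n => (3 ^ (2 * m + 1)) ^ n).sum = _
  rw [e, show (reps.map fun _ => 1).sum = 3 by decide]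
  simp only [List.map_cons, List.map_nil, List.sum_cons, List.sum_nil, pow_zero, add_zero]
  ring

theorem bn_pair : ∃ P : Cfsg.BNPair ↥(twistedG2 K (3 ^ m)),
    P.B = (chevG2.borelSubgroup K ⊓ twistedG2 K (3 ^ m)).subgroupOf (twistedG2 K (3 ^ m)) ∧
    P.N = (chevG2.monomialSubgroup K ⊓ twistedG2 K (3 ^ m)).subgroupOf (twistedG2 K (3 ^ m)) :=
  (setup hK).bn_transfer (eq_fix hK)

theorem core_trivial :
    ((chevG2.borelSubgroup K ⊓ twistedG2 K (3 ^ m)).subgroupOf (twistedG2 K (3 ^ m))).normalCore = ⊥ :=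
  (setup hK).core_transfer (eq_fix hK) (L0 := ([0] : List (Fin 1))) ((setup hK).opp_of_ok (w := cw) rfl opp_ok)

theorem weyl : ∃ φ : ↥(chevG2.monomialSubgroup K ⊓ twistedG2 K (3 ^ m)) →* Multiplicative (ZMod 2),
    Function.Surjective φ ∧ φ.ker = (chevG2.diagonalSubgroup K ⊓ twistedG2 K (3 ^ m)).subgroupOf
      (chevG2.monomialSubgroup K ⊓ twistedG2 K (3 ^ m)) := by
  obtain ⟨φ, h1, h2⟩ := (setup hK).weyl_transfer (eq_fix hK)
    ((setup hK).cox_of_ok (w := cw) rfl (CoxeterMatrix.A 1) cox_ok)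
  have hp : ∀ i j : Fin 1, ((fun _ => Multiplicative.ofAdd (1 : ZMod 2)) i *
      (fun _ => Multiplicative.ofAdd (1 : ZMod 2)) j) ^ CoxeterMatrix.A 1 i j = 1 := by decide +kernel
  let h := CfsgLib.BNPair.Coxeter.hom (s := fun _ : Fin 1 => Multiplicative.ofAdd (1 : ZMod 2)) hp
  let a := (CoxeterMatrix.A 1).simple 0
  have ha : a * a = 1 := CfsgLib.BNPair.Coxeter.simple_sq _ _
  have hb : Function.Bijective h := by
    let ψ : Multiplicative (ZMod 2) →* (CoxeterMatrix.A 1).Group :=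
      { toFun := fun x => a ^ (Multiplicative.toAdd x).val
        map_one' := pow_zero _
        map_mul' := fun x y => by
          rw [← pow_add, toAdd_mul, ZMod.val_add, ← pow_eq_pow_mod _ (by rw [pow_two]; exact ha)] }
    have h1 : ψ.comp h = MonoidHom.id _ := (CoxeterMatrix.A 1).toCoxeterSystem.ext_simple fun i => by
      rw [CoxeterMatrix.toCoxeterSystem_simple, MonoidHom.comp_apply, CfsgLib.BNPair.Coxeter.hom_simple,
        MonoidHom.id_apply]
      show a ^ 1 = _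
      rw [pow_one, Fin.fin_one_eq_zero i]
    refine ⟨Function.LeftInverse.injective (g := ψ) fun x => DFunLike.congr_fun h1 x, fun y => ⟨ψ y, ?_⟩⟩
    show h (a ^ (Multiplicative.toAdd y).val) = y
    rw [map_pow, CfsgLib.BNPair.Coxeter.hom_simple]
    revert y; decide +kernel
  refine ⟨h.comp φ, hb.2.comp h1, ?_⟩
  rw [← h2]
  ext x
  exact ⟨fun hx => hb.1 (hx.trans h.map_one.symm), fun hx => (congrArg h hx).trans h.map_one⟩

theorem perfect (hm : 1 ≤ m) : commutator ↥(twistedG2 K (3 ^ m)) = ⊤ := by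
  have hcard : 3 < Fintype.card K := by
    rw [hK]; exact lt_of_lt_of_le (by norm_num) (Nat.pow_le_pow_right (by norm_num) (show 3 ≤ 2 * m + 1 by omega))
  obtain ⟨b, hb, hb2⟩ := exists_sq_ne_one (K := K) hcard
  obtain ⟨d0, d1, d2⟩ := ch_ne hK hb (fun e => hb2 (by simp [e])) (fun e => hb2 (by simp [e]))
  set G := (tw hK).fix
  have hHG : parHom hK (Units.mk0 b hb) ∈ G := le_fix hK (parHom_mem hK _)
  have hcom : ∀ t u v, W hK Ps (ch0 hK b * t) (ch1 hK b * u) (b * v) * (W hK Ps t u v)⁻¹ ∈ ⁅G, G⁆ := fun t u v => by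
    have h := Subgroup.commutator_mem_commutator hHG (W_fix hK Ps_ok t u v)
    rwa [commutatorElement_def, W_conj] at h
  have fam : (orbits hK).Fam ⁅G, G⁆ := by
    intro a ha hpos s hs
    set O := orbits hK
    set P := parHom hK (Units.mk0 b hb)
    have ha' : a ∈ reps := ha
    obtain ⟨χ, hχ, hconj⟩ : ∃ χ : K, χ ≠ 1 ∧ ∀ t, P * xx a t * P⁻¹ = xx a (χ * t) := by
      obtain ⟨-, p2, -, -, p5, p6, -, q2, -, -, q5, q6⟩ := pairings
      simp only [reps, List.mem_cons, List.not_mem_nil, or_false] at ha'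
      rcases ha' with rfl | rfl | rfl
      · refine ⟨_, d0, fun t => (parHom_conj hK _ 6 (by norm_num) t).trans (congrArg _ ?_)⟩
        rw [p2, q2]; simp [ch0, zpow_ofNat]; field_simp
      · refine ⟨_, d1, fun t => (parHom_conj hK _ 10 (by norm_num) t).trans (congrArg _ ?_)⟩
        rw [p5, q5]; simp [ch1, zpow_ofNat]; field_simp
      · refine ⟨_, d2, fun t => (parHom_conj hK _ 11 (by norm_num) t).trans (congrArg _ ?_)⟩
        rw [p6, q6]; simp
    obtain ⟨y, -, hyf, hy, hyc, -⟩ := (setup hK).fam a ha hpos (s / (χ - 1)) (Or.inl (List.contains_iff_mem.2 ha))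
    have hcl := O.pl_cl (cl_pos mem_data (F := K)) (O.lev a)
    have hlead := O.pl_lead (cl_pos mem_data (F := K)) (rfl : O.lev a = O.lev a)
    obtain ⟨z, hz, e⟩ := lead_decomp mem_data hcl ⟨hpos, le_rfl⟩ hlead hy
    have hPd : P ∈ chevG2.diagonalSubgroup K := (Torus.range_torusHom mem_data).le ⟨_, rfl⟩
    have hz' := (Subgroup.mem_normalizer_iff.1 (BH.diagonal_le_normalizer mem_data _ hPd) _).1 hz
    have e2 : P * y * P⁻¹ = xx a (χ * coord mem_data y a) * (P * z * P⁻¹) := by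
      conv_lhs => rw [e]
      rw [← hconj]; group
    have hPy : P * y * P⁻¹ ∈ RootGen.gen chevG2 K (O.PL chevG2.IsPosRoot (O.lev a)) :=
      (Subgroup.mem_normalizer_iff.1 (BH.diagonal_le_normalizer mem_data _ hPd) _).1 hy
    have hcm := Subgroup.commutator_mem_commutator hHG hyf
    rw [commutatorElement_def] at hcm
    refine ⟨_, hcm, Subgroup.commutator_le_self G hcm, mul_mem hPy (inv_mem hy), ?_, fun c hc hca hl _ => ?_⟩
    · rw [coord_mul mem_data hcl ⟨hpos, le_rfl⟩ hlead hPy (inv_mem hy),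
        coord_inv mem_data hcl ⟨hpos, le_rfl⟩ hlead hy, e2, coord_lead mem_data hcl ⟨hpos, le_rfl⟩ hlead hz', hyc]
      have : χ - 1 ≠ 0 := sub_ne_zero.2 hχ
      field_simp
      ring
    · exfalso
      have hc' : c ∈ reps := hc
      change lev.getD c 0 = lev.getD a 0 at hl
      simp only [reps, List.mem_cons, List.not_mem_nil, or_false] at ha' hc'
      rcases ha' with rfl | rfl | rfl <;> rcases hc' with rfl | rfl | rfl <;>
        first | exact hca rfl | simp [lev] at hl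
  refine Setup.perfect_transfer (eq_fix hK) ?_
  refine (setup hK).perfect (L0 := ([0] : List (Fin 1))) ((setup hK).opp_of_ok (w := cw) rfl opp_ok) fam ?_
  conv_lhs => rw [← eq_fix hK]
  refine genSubgroup_le mem_data fun w hw => ?_
  obtain ⟨h1, h2 | h2⟩ := gen_cases hK hw
  · exact Subgroup.mem_sup_left ⟨h1, h2⟩
  · exact Subgroup.mem_sup_right ⟨h1, h2⟩

theorem simple_group (hm : 1 ≤ m) :
    IsSimpleGroup ↥(twistedG2 K (3 ^ m)) ∧ ¬ IsMulCommutative ↥(twistedG2 K (3 ^ m)) := by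
  have hconn : ∀ J : Finset (Fin 1), J.Nonempty → J ≠ Finset.univ → ∃ i ∈ J, ∃ j, j ∉ J ∧ (i != j) = true := by
    decide
  refine Setup.simple_transfer (eq_fix hK) ((setup hK).simple
    ((setup hK).irreducible_of_ok (w := cw) rfl (fun i j : Fin 1 => i != j)
      (fun i j h => absurd ((inferInstance : Subsingleton (Fin 1)).elim i j) (bne_iff_ne.1 h)) hconn)
    (L0 := ([0] : List (Fin 1))) ((setup hK).opp_of_ok (w := cw) rfl opp_ok) (by show 0 < 1; norm_num) ?_)
  have := perfect hK hm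
  rwa [eq_fix hK] at this

theorem diag_cyclic : IsCyclic ↥(chevG2.diagonalSubgroup K ⊓ twistedG2 K (3 ^ m)) := by
  rw [← range_diag hK]
  exact isCyclic_of_surjective (parHom hK).rangeRestrict (parHom hK).rangeRestrict_surjective

theorem odd_fpf :
    2 * Nat.card {h : ↥(chevG2.diagonalSubgroup K ⊓ twistedG2 K (3 ^ m)) // Odd (orderOf h)} = 3 ^ (2 * m + 1) - 1 ∧
      ∀ h ∈ chevG2.diagonalSubgroup K ⊓ twistedG2 K (3 ^ m), h ≠ 1 → Odd (orderOf h) →
        (chevG2.posUnipotent K ⊓ twistedG2 K (3 ^ m)) ⊓ Subgroup.centralizer {h} = ⊥ := by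
  classical
  have hmod := card_mod hK
  constructor
  · let e : Kˣ ≃* ↥(chevG2.diagonalSubgroup K ⊓ twistedG2 K (3 ^ m)) :=
      (MonoidHom.ofInjective (parHom_inj hK)).trans (MulEquiv.subgroupCongr (range_diag hK))
    have hiff : ∀ c : Kˣ, Odd (orderOf c) ↔
        c ∈ (powMonoidHom ((Fintype.card K - 1) / 2) : Kˣ →* Kˣ).ker := by
      intro c
      rw [MonoidHom.mem_ker, powMonoidHom_apply, ← orderOf_dvd_iff_pow_eq_one]
      have hd : orderOf c ∣ 2 * ((Fintype.card K - 1) / 2) := by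
        rw [Nat.mul_div_cancel' (Nat.dvd_of_mod_eq_zero (by omega)), ← Fintype.card_units]
        exact orderOf_dvd_card
      refine ⟨fun h => ((Nat.coprime_two_left.2 h).symm).dvd_of_dvd_mul_left hd, fun h => ?_⟩
      exact Odd.of_dvd_nat (Nat.odd_iff.2 (by omega)) h
    rw [← Nat.card_congr (e.toEquiv.subtypeEquiv (p := fun c => Odd (orderOf c)) fun c => by
      show _ ↔ Odd (orderOf (e c)); rw [MulEquiv.orderOf_eq]),
      Nat.card_congr (Equiv.subtypeEquivRight hiff), IsCyclic.card_powMonoidHom_ker, Nat.card_units,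
      Nat.card_eq_fintype_card, Nat.gcd_eq_right (Nat.div_dvd_of_dvd (Nat.dvd_of_mod_eq_zero (by omega))),
      Nat.mul_div_cancel' (Nat.dvd_of_mod_eq_zero (by omega)), hK]
  · intro h hh h1 hodd
    rw [← range_diag hK] at hh
    obtain ⟨c, rfl⟩ := hh
    rw [orderOf_injective _ (parHom_inj hK)] at hodd
    have hc1 : (c : K) ≠ 1 := fun e => h1 (by rw [Units.ext (e.trans Units.val_one.symm), map_one])
    have hc2 : (c : K) ≠ -1 := fun e => by
      have hsq : c ^ 2 = 1 := Units.ext (by simp [e])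
      have h3 : orderOf c = 1 := Nat.eq_one_of_dvd_coprimes (Nat.coprime_two_left.2 hodd).symm dvd_rfl
        (orderOf_dvd_of_pow_eq_one hsq)
      exact hc1 (by rw [orderOf_eq_one_iff.1 h3, Units.val_one])
    obtain ⟨d0, d1, d2⟩ := ch_ne hK c.ne_zero hc1 hc2
    refine eq_bot_iff.2 fun g hg => ?_
    obtain ⟨t, u, v, rfl⟩ := (mem_unip_iff hK g).1 hg.1
    have hcm : parHom hK c * W hK Ps t u v = W hK Ps t u v * parHom hK c :=
      Subgroup.mem_centralizer_iff.1 hg.2 _ rfl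
    have hW := W_conj hK c t u v
    rw [hcm, mul_inv_cancel_right] at hW
    obtain ⟨et, eu, ev⟩ := W_inj hK hW
    have z : ∀ {χ x : K}, χ ≠ 1 → x = χ * x → x = 0 := fun hχ e => by
      by_contra hx
      exact hχ (mul_right_cancel₀ hx (by rw [one_mul]; exact e.symm))
    rw [Subgroup.mem_bot, z d0 et, z d1 eu, z d2 ev]
    simp [W, xx, xGL_zero]

end CfsgLib.Chev.Twisted.ReeG2
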