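import Cfsg.Agent.Lib.Chev.Twisted.G2Inv
import Cfsg.Agent.Lib.PSL2.Klein

/-! Sylow 2-normalisers of the small Ree groups. -/

set_option autoImplicit false

open Cfsg Cfsg.Lie
open CfsgLib.Chev CfsgLib.Chev.Checks CfsgLib.Chev.Basic

namespace CfsgLib.Chev.Twisted.ReeG2

theorem psl_four {K : Type*} [Field K] [Fintype K] (hodd : Fintype.card K % 2 = 1) (h8 : Fintype.card K % 8 = 3)
    {V : Subgroup (Matrix.ProjectiveSpecialLinearGroup (Fin 2) K)} (hV : IsKleinFour V) :
    Subgroup.centralizer (V : Set (Matrix.ProjectiveSpecialLinearGroup (Fin 2) K)) ≤ V ∧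
      Nat.card (Subgroup.normalizer (V : Set (Matrix.ProjectiveSpecialLinearGroup (Fin 2) K))) = 12 := by
  open CfsgLib.PSL2Klein in
  obtain ⟨g, r, hr, hmap⟩ := exists_four hodd hV
  obtain ⟨hF, hx, hy, -, -, -⟩ := four_isKlein hodd hr
  constructor
  · intro c hc
    rw [Subgroup.mem_centralizer_iff] at hc
    have h2 : MulAut.conj g c ∈ four hodd r := by
      refine centralizer_four hodd hr ?_ ?_
      · obtain ⟨v, hv, e⟩ := hmap.ge hx
        rw [← e]; exact Commute.map (show Commute c v from (hc v hv).symm) (MulAut.conj g).toMonoidHom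
      · obtain ⟨v, hv, e⟩ := hmap.ge hy
        rw [← e]; exact Commute.map (show Commute c v from (hc v hv).symm) (MulAut.conj g).toMonoidHom
    obtain ⟨v, hv, e⟩ := hmap.ge h2
    rwa [← (MulAut.conj g).injective e]
  · have h := (normalizer_four hodd hr).2
    rw [eight_dvd_rot_iff hodd, h8] at h
    obtain ⟨-, h⟩ := h.resolve_right (fun hh => absurd hh.1 (by norm_num))
    rw [← h, ← hmap, ← Subgroup.map_equiv_normalizer_eq,
      Subgroup.card_map_of_injective (MulAut.conj g).injective]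

variable {K : Type*} [Field K] [Fintype K] {m : ℕ} (hK : Fintype.card K = 3 ^ (2 * m + 1))

include hK

omit [Field K] [Fintype K] hK in
/-- groups of exponent two -/
theorem comm_of_sq {G : Type*} [Group G] {a b : G} (ha : a * a = 1) (hb : b * b = 1) (h : a * b * (a * b) = 1) :
    a * b = b * a := by
  rw [← inv_eq_of_mul_eq_one_right h, mul_inv_rev, inv_eq_of_mul_eq_one_right ha, inv_eq_of_mul_eq_one_right hb]

omit [Field K] [Fintype K] hK in
theorem conj_comm {H : Type*} [Group H] (g x y : H) (h : g * y * g⁻¹ * x = x * (g * y * g⁻¹)) :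
    y * (g⁻¹ * x * g) = g⁻¹ * x * g * y := by
  calc y * (g⁻¹ * x * g) = g⁻¹ * (g * y * g⁻¹ * x) * g := by group
    _ = g⁻¹ * (x * (g * y * g⁻¹)) * g := by rw [h]
    _ = g⁻¹ * x * g * y := by group

/-- no nontrivial element of an elementary abelian Sylow 2-subgroup is central in its normaliser -/
theorem fixed_trivial (hm : 1 ≤ m) (S : Sylow 2 ↥(twistedG2 K (3 ^ m)))
    (hab : ∀ x ∈ S, x * x = 1) (s : ↥(twistedG2 K (3 ^ m))) (hs : s ∈ S)
    (hcent : ∀ n ∈ Subgroup.normalizer ((S : Subgroup ↥(twistedG2 K (3 ^ m))) : Set ↥(twistedG2 K (3 ^ m))),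
      n * s = s * n) : s = 1 := by
  haveI : Fact (Nat.Prime 2) := ⟨Nat.prime_two⟩
  haveI hcomm : IsMulCommutative (S : Subgroup ↥(twistedG2 K (3 ^ m))) :=
    ⟨⟨fun a b => Subtype.ext (comm_of_sq (hab a a.2) (hab b b.2) (hab _ (mul_mem a.2 b.2)))⟩⟩
  open scoped IsMulCommutative in
  let T := MonoidHom.transfer (MonoidHom.id (S : Subgroup ↥(twistedG2 K (3 ^ m))))
  have key : ∀ (k : ℕ) (g₀ : ↥(twistedG2 K (3 ^ m))), g₀⁻¹ * s ^ k * g₀ ∈ (S : Subgroup ↥(twistedG2 K (3 ^ m))) →
      g₀⁻¹ * s ^ k * g₀ = s ^ k := by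
    intro k g₀ h
    obtain ⟨n, hn, e⟩ := S.conj_eq_normalizer_conj_of_mem (s ^ k) g₀ (pow_mem hs k) h
    rw [e, mul_assoc, ← ((show Commute n s from hcent n hn).pow_right k).eq, inv_mul_cancel_left]
  have h1 : T s = 1 := by
    have hle : commutator ↥(twistedG2 K (3 ^ m)) ≤ T.ker := Abelianization.commutator_subset_ker T
    rw [perfect hK hm] at hle
    exact hle (Subgroup.mem_top s)
  have h2 : s ^ (S : Subgroup ↥(twistedG2 K (3 ^ m))).index = 1 := by
    open scoped IsMulCommutative in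
    have e := MonoidHom.transfer_eq_pow (MonoidHom.id (S : Subgroup ↥(twistedG2 K (3 ^ m)))) s key
    exact congrArg Subtype.val (e.symm.trans h1)
  have hodd : ¬ 2 ∣ (S : Subgroup ↥(twistedG2 K (3 ^ m))).index := S.not_dvd_index
  obtain ⟨k, hk⟩ := Nat.odd_iff.2 (by omega : (S : Subgroup ↥(twistedG2 K (3 ^ m))).index % 2 = 1)
  rw [hk, pow_succ, pow_mul, pow_two, hab s hs, one_pow, one_mul] at h2
  exact h2

theorem sylow_normalizer (hm : 1 ≤ m) (S : Sylow 2 ↥(twistedG2 K (3 ^ m))) :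
    Subgroup.centralizer ((S : Subgroup ↥(twistedG2 K (3 ^ m))) : Set ↥(twistedG2 K (3 ^ m))) = S ∧
      Nat.card (Subgroup.normalizer ((S : Subgroup ↥(twistedG2 K (3 ^ m))) : Set ↥(twistedG2 K (3 ^ m)))) = 168 := by
  classical
  haveI : Fact (Nat.Prime 2) := ⟨Nat.prime_two⟩
  set G := ↥(twistedG2 K (3 ^ m))
  let a : G := ⟨parHom hK (-1), parHom_mem hK _⟩
  have ha1 : a ≠ 1 := fun e => by
    have h0 : (-1 : Kˣ) = 1 := parHom_inj hK ((congrArg Subtype.val e).trans (map_one _).symm)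
    exact neg_one_not_sq hK ⟨1, by rw [mul_one]; exact congrArg Units.val h0⟩
  have ha2 : a * a = 1 := Subtype.ext (show parHom hK (-1) * parHom hK (-1) = 1 by rw [← map_mul]; simp)
  obtain ⟨⟨e⟩, hsyl⟩ := involution_centralizer hK a ((Torus.range_torusHom mem_data).le ⟨_, rfl⟩) ha1 ha2
  set C := Subgroup.centralizer ({a} : Set G)
  have hodd : Fintype.card K % 2 = 1 := by have := card_mod hK; omega
  have h8 : Fintype.card K % 8 = 3 := by
    rw [hK, pow_succ, pow_mul, Nat.mul_mod, Nat.pow_mod]; norm_num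
  let f : Multiplicative (ZMod 2) × Matrix.ProjectiveSpecialLinearGroup (Fin 2) K →* G :=
    C.subtype.comp e.symm.toMonoidHom
  have hf : Function.Injective f := Subtype.val_injective.comp e.symm.injective
  have hfC : ∀ x, f x ∈ C := fun x => (e.symm x).2
  have hfsurj : ∀ g ∈ C, ∃ x, f x = g := fun g hg => ⟨e ⟨g, hg⟩, congrArg Subtype.val (e.symm_apply_apply _)⟩
  -- a Sylow subgroup of the projective group is a four group
  obtain ⟨Q⟩ : Nonempty (Sylow 2 (Matrix.ProjectiveSpecialLinearGroup (Fin 2) K)) := inferInstance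
  obtain ⟨k, hk⟩ : ∃ k, Fintype.card K = 8 * k + 3 := ⟨Fintype.card K / 8, by omega⟩
  have hQ : Nat.card ↥(Q : Subgroup (Matrix.ProjectiveSpecialLinearGroup (Fin 2) K)) = 4 := by
    have hcardPSL := CfsgLib.PSL2Two.two_mul_card_PSL (F := K) hodd
    have h1 : Nat.card (Matrix.ProjectiveSpecialLinearGroup (Fin 2) K) =
        4 * (Fintype.card K * (4 * k + 1) * (2 * k + 1)) := by
      have h2 : Fintype.card K ^ 2 - 1 = 8 * ((4 * k + 1) * (2 * k + 1)) := Nat.sub_eq_of_eq_add (by rw [hk]; ring)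
      refine Nat.eq_of_mul_eq_mul_left (show 0 < 2 by norm_num) ?_
      rw [hcardPSL, h2]; ring
    rw [Q.card_eq_multiplicity, h1, Nat.factorization_mul (by norm_num) (by positivity), Finsupp.add_apply,
      Nat.factorization_eq_zero_of_not_dvd (n := Fintype.card K * (4 * k + 1) * (2 * k + 1)) (by
        rw [Nat.dvd_iff_mod_eq_zero, hk]; simp [Nat.mul_mod, Nat.add_mod]), show (4 : ℕ) = 2 ^ 2 from rfl,
      Nat.Prime.factorization_pow Nat.prime_two, Finsupp.single_eq_same]
  let S0' : Subgroup G := ((⊤ : Subgroup (Multiplicative (ZMod 2))).prod (Q : Subgroup _)).map f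
  have hS0c : Nat.card ↥S0' = 8 := by
    rw [Subgroup.card_map_of_injective hf, Nat.card_congr (Subgroup.prodEquiv _ _).toEquiv, Nat.card_prod,
      Subgroup.card_top, hQ, Nat.card_eq_fintype_card, show Fintype.card (Multiplicative (ZMod 2)) = 2 from rfl]
  have hfac : 2 ^ (Nat.card G).factorization 2 = 8 := by rw [← S.card_eq_multiplicity]; exact (hsyl S).1
  let S0 : Sylow 2 G := Sylow.ofCard S0' (by rw [hS0c, hfac])
  have hS0 : (S0 : Subgroup G) = S0' := rfl
  have hsq : ∀ x ∈ S0', x * x = 1 := (hsyl S0).2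
  have hQK : IsKleinFour ↥(Q : Subgroup (Matrix.ProjectiveSpecialLinearGroup (Fin 2) K)) := by
    refine ⟨hQ, ?_⟩
    haveI : Nontrivial ↥(Q : Subgroup (Matrix.ProjectiveSpecialLinearGroup (Fin 2) K)) :=
      Finite.one_lt_card_iff_nontrivial.1 (by rw [hQ]; norm_num)
    refine (Monoid.exponent_eq_prime_iff Nat.prime_two).2 fun q hq => orderOf_eq_prime ?_ hq
    have h := hsq _ ⟨(1, (q : Matrix.ProjectiveSpecialLinearGroup (Fin 2) K)), ⟨Subgroup.mem_top _, q.2⟩, rfl⟩
    rw [← map_mul, ← map_one f] at h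
    rw [pow_two]
    exact Subtype.ext (Prod.ext_iff.1 (hf h)).2
  obtain ⟨hQc, hQn⟩ := psl_four hodd h8 hQK
  -- `a` lies in the Sylow subgroup
  have haC : a ∈ C := Subgroup.mem_centralizer_singleton_iff.2 rfl
  have haS : a ∈ S0' := by
    refine ⟨e ⟨a, haC⟩, ⟨Subgroup.mem_top _, hQc (Subgroup.mem_centralizer_iff.2 fun q _ => ?_)⟩,
      congrArg Subtype.val (e.symm_apply_apply _)⟩
    have hc : ∀ y : ↥C, Commute (⟨a, haC⟩ : ↥C) y := fun y =>
      Subtype.ext (Subgroup.mem_centralizer_singleton_iff.1 y.2).symm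
    have := (hc (e.symm (1, q))).map e.toMonoidHom
    rw [MulEquiv.coe_toMonoidHom, e.apply_symm_apply] at this
    exact (congrArg Prod.snd this.eq).symm
  have hS0ab : ∀ x ∈ S0', ∀ y ∈ S0', x * y = y * x := fun x hx y hy =>
    comm_of_sq (hsq x hx) (hsq y hy) (hsq _ (mul_mem hx hy))
  have hS0C : S0' ≤ C := by rintro _ ⟨x, -, rfl⟩; exact hfC x
  -- centraliser
  have hcent0 : Subgroup.centralizer (S0' : Set G) = S0' := by
    refine le_antisymm (fun x hx => ?_) (fun x hx => Subgroup.mem_centralizer_iff.2 fun y hy => hS0ab y hy x hx)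
    rw [Subgroup.mem_centralizer_iff] at hx
    obtain ⟨⟨z, y⟩, rfl⟩ := hfsurj x (Subgroup.mem_centralizer_singleton_iff.2 (hx a haS).symm)
    refine ⟨(z, y), ⟨Subgroup.mem_top _, hQc (Subgroup.mem_centralizer_iff.2 fun q hq => ?_)⟩, rfl⟩
    have h := hx (f (1, q)) ⟨(1, q), ⟨Subgroup.mem_top _, hq⟩, rfl⟩
    rw [← map_mul, ← map_mul] at h
    exact congrArg Prod.snd (hf h)
  -- the normaliser acting on the involutions
  set N := Subgroup.normalizer (S0' : Set G) with hN
  have hconj : ∀ n : N, ∀ v ∈ S0', (n : G) * v * (n : G)⁻¹ ∈ S0' :=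
    fun n v hv => (Subgroup.mem_normalizer_iff.1 n.2 v).1 hv
  letI : MulAction N G := MulAction.compHom G (ConjAct.toConjAct.toMonoidHom.comp N.subtype)
  have hsmul : ∀ (n : N) (v : G), n • v = (n : G) * v * (n : G)⁻¹ := fun _ _ => rfl
  have hstab : ∀ v, MulAction.stabilizer N v = (Subgroup.centralizer ({v} : Set G)).subgroupOf N := by
    intro v
    ext n
    rw [MulAction.mem_stabilizer_iff, hsmul, Subgroup.mem_subgroupOf, Subgroup.mem_centralizer_singleton_iff,
      mul_inv_eq_iff_eq_mul]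
  have hNidx : ¬ 2 ∣ (S0'.subgroupOf N).index := fun h =>
    S0.not_dvd_index (h.trans ((Subgroup.relIndex_dvd_index_of_le Subgroup.le_normalizer : S0'.relIndex N ∣ _)))
  have horb : ∀ t ∈ S0', t ≠ 1 → 3 ≤ (MulAction.orbit N t).ncard ∧ ¬ 2 ∣ (MulAction.orbit N t).ncard := by
    intro t ht ht1
    have hodd' : ¬ 2 ∣ (MulAction.orbit N t).ncard := by
      rw [← MulAction.index_stabilizer, hstab]
      refine fun h => hNidx (h.trans (Subgroup.index_dvd_of_le fun n hn => ?_))
      rw [Subgroup.mem_subgroupOf] at hn ⊢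
      exact Subgroup.mem_centralizer_singleton_iff.2 (hS0ab _ hn t ht)
    refine ⟨?_, hodd'⟩
    have h1 : (MulAction.orbit N t).ncard ≠ 1 := by
      intro h1
      obtain ⟨u, hu⟩ := Set.ncard_eq_one.1 h1
      refine ht1 (fixed_trivial hK hm S0 hsq t ht fun n hn => ?_)
      have e1 : t = u := by simpa [hu] using MulAction.mem_orbit_self (M := N) t
      have e2 : (⟨n, hn⟩ : N) • t = u := by
        have := MulAction.mem_orbit t (⟨n, hn⟩ : N)
        simpa [hu] using this
      rw [hsmul, ← e1] at e2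
      exact mul_inv_eq_iff_eq_mul.1 e2
    have h0 : (MulAction.orbit N t).ncard ≠ 0 := fun h => hodd' (h ▸ dvd_zero 2)
    omega
  -- the orbit of `a`
  set O := MulAction.orbit N a
  set I : Set G := (S0' : Set G) \ {1}
  have hIc : I.ncard = 7 := by
    rw [Set.ncard_sdiff_singleton_of_mem (one_mem _), ← Nat.card_coe_set_eq, show Nat.card (S0' : Set G) = 8 from hS0c]
  have horbI : ∀ t ∈ I, MulAction.orbit N t ⊆ I := by
    rintro t ⟨ht, ht1⟩ _ ⟨n, rfl⟩
    exact ⟨hconj n t ht, fun h => ht1 (conj_eq_one_iff.1 h)⟩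
  have haI : a ∈ I := ⟨haS, ha1⟩
  obtain ⟨hO3, hOodd⟩ : 3 ≤ O.ncard ∧ ¬ 2 ∣ O.ncard := horb a haS ha1
  have hO : O.ncard = 7 := by
    by_contra hne
    have hOle : O.ncard ≤ 7 := hIc ▸ Set.ncard_le_ncard (horbI a haI)
    have hTc : (I \ O).ncard = 7 - O.ncard := by rw [Set.ncard_sdiff (horbI a haI), hIc]
    obtain ⟨t, ht⟩ : (I \ O).Nonempty := by
      rw [← Set.ncard_pos, hTc]; omega
    have hdis : ∀ u ∈ I \ O, MulAction.orbit N u ⊆ I \ O := by
      intro u hu v hv
      refine ⟨horbI u hu.1 hv, fun hvO => hu.2 ?_⟩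
      have e1 := MulAction.orbit_eq_iff.2 hv
      have e2 := MulAction.orbit_eq_iff.2 hvO
      show u ∈ MulAction.orbit N a
      rw [← e2, e1]; exact MulAction.mem_orbit_self u
    obtain ⟨ht3, htodd⟩ := horb t ht.1.1 ht.1.2
    have htle := (Set.ncard_le_ncard (hdis t ht)).trans hTc.le
    have hO' : O.ncard = 3 := by omega
    have hTt : (MulAction.orbit N t).ncard = 3 := by omega
    obtain ⟨u, hu⟩ : ((I \ O) \ MulAction.orbit N t).Nonempty := by
      rw [← Set.ncard_pos, Set.ncard_sdiff (hdis t ht), hTc]; omega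
    have hsub : MulAction.orbit N u ⊆ (I \ O) \ MulAction.orbit N t := by
      intro v hv
      refine ⟨hdis u hu.1 hv, fun hvt => hu.2 ?_⟩
      have e1 := MulAction.orbit_eq_iff.2 hv
      have e2 := MulAction.orbit_eq_iff.2 hvt
      rw [← e2, e1]; exact MulAction.mem_orbit_self u
    have h1 := Set.ncard_le_ncard hsub
    rw [Set.ncard_sdiff (hdis t ht), hTc] at h1
    have h2 := (horb u hu.1.1.1 hu.1.1.2).1
    omega
  -- the stabiliser of `a`
  have hst : Nat.card (MulAction.stabilizer N a) = 24 := by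
    have hmap : ((MulAction.stabilizer N a).map N.subtype) =
        ((⊤ : Subgroup (Multiplicative (ZMod 2))).prod
          (Subgroup.normalizer ((Q : Subgroup (Matrix.ProjectiveSpecialLinearGroup (Fin 2) K)) : Set (Matrix.ProjectiveSpecialLinearGroup (Fin 2) K)))).map f := by
      rw [hstab, Subgroup.subgroupOf_map_subtype]
      ext x
      simp only [Subgroup.mem_inf, Subgroup.mem_map, Subgroup.mem_prod, Subgroup.mem_top, true_and]
      constructor
      · rintro ⟨hx, hxN⟩
        obtain ⟨⟨z, y⟩, rfl⟩ := hfsurj x hx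
        refine ⟨(z, y), Subgroup.mem_normalizer_iff.2 fun q => ?_, rfl⟩
        have h := Subgroup.mem_normalizer_iff.1 hxN (f (1, q))
        rw [← map_inv, ← map_mul, ← map_mul, Prod.inv_mk, Prod.mk_mul_mk, Prod.mk_mul_mk, mul_one, mul_inv_cancel] at h
        have hmem : ∀ q, f (1, q) ∈ S0' ↔ q ∈ (Q : Subgroup _) := fun q =>
          ⟨fun ⟨p, hp, ep⟩ => by have e3 := congrArg Prod.snd (hf ep); rw [← show p.2 = q from e3]; exact hp.2,
            fun hq => ⟨(1, q), ⟨Subgroup.mem_top _, hq⟩, rfl⟩⟩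
        rwa [hmem, hmem] at h
      · rintro ⟨⟨z, y⟩, hy, rfl⟩
        refine ⟨hfC _, Subgroup.mem_normalizer_iff.2 fun v => ?_⟩
        constructor
        · rintro ⟨⟨z', q⟩, hq, rfl⟩
          refine ⟨(z, y) * (z', q) * (z, y)⁻¹, ⟨Subgroup.mem_top _, (Subgroup.mem_normalizer_iff.1 hy q).1 hq.2⟩, ?_⟩
          rw [map_mul, map_mul, map_inv]
        · rintro ⟨⟨z', q⟩, hq, e'⟩
          refine ⟨(z, y)⁻¹ * (z', q) * (z, y), ⟨Subgroup.mem_top _, ?_⟩, ?_⟩
          · refine (Subgroup.mem_normalizer_iff.1 hy _).2 ?_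
            show y * (y⁻¹ * q * y) * y⁻¹ ∈ _
            rw [show y * (y⁻¹ * q * y) * y⁻¹ = q by group]; exact hq.2
          · rw [map_mul, map_mul, map_inv, e']; group
    rw [← Subgroup.card_map_of_injective (K := MulAction.stabilizer N a) N.subtype_injective, hmap,
      Subgroup.card_map_of_injective hf, Nat.card_congr (Subgroup.prodEquiv _ _).toEquiv, Nat.card_prod,
      Subgroup.card_top, hQn, Nat.card_eq_fintype_card, show Fintype.card (Multiplicative (ZMod 2)) = 2 from rfl]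
  have hN168 : Nat.card N = 168 := by
    rw [← (MulAction.stabilizer N a).card_mul_index, hst, MulAction.index_stabilizer, hO]
  -- transport to `S`
  obtain ⟨g, rfl⟩ := MulAction.exists_smul_eq G S0 S
  constructor
  · refine le_antisymm (fun x hx => ?_) ?_
    · rw [Sylow.coe_subgroup_smul, Subgroup.mem_pointwise_smul_iff_inv_smul_mem, hS0, ← hcent0]
      refine Subgroup.mem_centralizer_iff.2 fun y hy => ?_
      have hyS : MulAut.conj g • y ∈ ((g • S0 : Sylow 2 G) : Subgroup G) := by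
        rw [Sylow.coe_subgroup_smul]; exact Subgroup.smul_mem_pointwise_smul y (MulAut.conj g) _ hy
      have h : g * y * g⁻¹ * x = x * (g * y * g⁻¹) := Subgroup.mem_centralizer_iff.1 hx _ hyS
      simp only [← map_inv, MulAut.smul_def, MulAut.conj_apply, inv_inv]
      exact conj_comm g x y h
    · intro x hx
      refine Subgroup.mem_centralizer_iff.2 fun y hy => ?_
      exact comm_of_sq ((hsyl _).2 y hy) ((hsyl _).2 x hx) ((hsyl _).2 _ (mul_mem hy hx))
  · have h1 := Sylow.card_eq_index_normalizer (g • S0)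
    have h2 := Sylow.card_eq_index_normalizer S0
    have e1 := (Subgroup.normalizer (((g • S0 : Sylow 2 G) : Subgroup G) : Set G)).card_mul_index
    have e2 := (Subgroup.normalizer ((S0 : Subgroup G) : Set G)).card_mul_index
    have hi := h1.symm.trans h2
    refine (Nat.eq_of_mul_eq_mul_right (Nat.pos_of_ne_zero (Subgroup.index_ne_zero_of_finite (H := Subgroup.normalizer ((S0 : Subgroup G) : Set G)))) ?_).trans hN168
    exact ((congrArg (fun i => _ * i) hi).symm.trans e1).trans e2.symm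

end CfsgLib.Chev.Twisted.ReeG2
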