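import Cfsg.Agent.Lib.Chev.Twisted.G2Extra
import Cfsg.Agent.Lib.Chev.Twisted.G2Sylow
import Mathlib.Analysis.Fourier.FiniteAbelian.PontryaginDuality
import Mathlib.RepresentationTheory.Irreducible
import Mathlib.RepresentationTheory.Invariants
import Mathlib.LinearAlgebra.Trace

/-! The smallest degree of a nontrivial irreducible representation of a small Ree group. -/

set_option autoImplicit false

open Cfsg Cfsg.Lie
open CfsgLib.Chev CfsgLib.Chev.Checks CfsgLib.Chev.Basic

namespace CfsgLib.Chev.Twisted.ReeG2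

theorem act_table : (∀ p ∈ [(6, 8), (8, 8), (9, 8), (7, 10), (8, 10), (9, 10)], p.2 ≠ chevG2.neg p.1 ∧
      ∀ c ∈ chevG2.commTerms p.1 p.2, c.2.1 % 3 = 0) ∧
    ((chevG2.commTerms 7 8).map (fun c => (c.1, c.2.1 % 3, c.2.2)) =
      [(9, 1, 1, 1), (10, 0, 2, 1), (11, 0, 1, 2)]) ∧
    ((chevG2.commTerms 6 10).map (fun c => (c.1, c.2.1 % 3, c.2.2)) = [(11, 1, 1, 1)]) ∧
    (8 : ℕ) ≠ chevG2.neg 7 ∧ (10 : ℕ) ≠ chevG2.neg 6 := by decide +kernel

variable {K : Type*} [Field K] [Fintype K] {m : ℕ} (hK : Fintype.card K = 3 ^ (2 * m + 1))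

include hK

theorem B1_add (u u' : K) : B1 hK Ps u * B1 hK Ps u' = B1 hK Ps (u + u') := by
  have c := sext_comm hK Ps_ok (Ps.c, Ps.e) (by simp)
  simp only [B1, mul_add, map_add, xx] at c ⊢
  rw [← Rel.xGL_add mem_data (show Ps.c < chevG2.nroots by decide),
    ← Rel.xGL_add mem_data (show Ps.e < chevG2.nroots by decide), mul_assoc, mul_assoc]
  congr 1
  rw [← mul_assoc, ← mul_assoc, (c _ _).eq]

theorem B2_add (v v' : K) : B2 hK Ps v * B2 hK Ps v' = B2 hK Ps (v + v') := by
  have c := sext_comm hK Ps_ok (Ps.d, Ps.f) (by simp)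
  simp only [B2, mul_add, map_add, xx] at c ⊢
  rw [← Rel.xGL_add mem_data (show Ps.d < chevG2.nroots by decide),
    ← Rel.xGL_add mem_data (show Ps.f < chevG2.nroots by decide), mul_assoc, mul_assoc]
  congr 1
  rw [← mul_assoc, ← mul_assoc, (c _ _).eq]

theorem center_comm {r : ℕ} (hr : r ∈ [7, 6, 8, 9, 10, 11]) (v x : K) :
    Commute (B2 hK Ps v) (xx r x) := by
  have h : ∀ s ∈ [9, 11], ∀ a : K, Commute (xx s a) (xx r x) := fun s hs a =>
    commute_x mem_data (by revert s; decide) (by revert r; decide) (comm_table.1 s hs r hr).1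
      (fun c hc => by
        rw [← Aut.cast_mod (m := 3) (three_zero hK), (comm_table.1 s hs r hr).2 c hc, Int.cast_zero]) a x
  exact (h 9 (by simp) _).mul_left (h 11 (by simp) _)

theorem B1_B2_comm (u v : K) : Commute (B1 hK Ps u) (B2 hK Ps v) :=
  ((center_comm hK (r := 8) (by simp) v _).mul_right (center_comm hK (r := 10) (by simp) v _)).symm

theorem A_B2_comm (t v : K) : Commute (A hK Ps t) (B2 hK Ps v) :=
  ((center_comm hK (r := 7) (by simp) v _).mul_right ((center_comm hK (r := 6) (by simp) v _).mul_right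
    ((center_comm hK (r := 8) (by simp) v _).mul_right (center_comm hK (r := 9) (by simp) v _)))).symm

theorem A_conj (t u : K) :
    A hK Ps t * B1 hK Ps u * (A hK Ps t)⁻¹ = B1 hK Ps u * B2 hK Ps (t * u) := by
  obtain ⟨h0, h78, h610, n78, n610⟩ := act_table
  have hc : ∀ p ∈ [(6, 8), (8, 8), (9, 8), (7, 10), (8, 10), (9, 10)], ∀ a b : K,
      Commute (xx p.1 a) (xx p.2 b) := fun p hp a b =>
    commute_x mem_data (by revert p; decide) (by revert p; decide) (h0 p hp).1 (fun c hc => by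
      rw [← Aut.cast_mod (m := 3) (three_zero hK), (h0 p hp).2 c hc, Int.cast_zero]) a b
  have h3 : ∀ z : ℤ, ((z % 3 : ℤ) : K) = (z : K) := Aut.cast_mod (m := 3) (three_zero hK)
  have e7 : ∀ a b : K, xx 7 a * xx 8 b * (xx 7 a)⁻¹ = xx 8 b * xx 9 (a * b) := by
    intro a b
    have e := Rel.comm_GL mem_data (F := K) (show 7 < chevG2.nroots by decide) (show 8 < chevG2.nroots by decide)
      (by decide) n78 a b
    have ew : chevG2.commWord K 7 8 a b = ((chevG2.commTerms 7 8).map (fun c => (c.1, c.2.1 % 3, c.2.2))).map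
        fun c : ℕ × ℤ × ℕ × ℕ => (c.1, (c.2.1 : K) * (-a) ^ c.2.2.1 * b ^ c.2.2.2) := by
      rw [ChevalleyDatum.commWord, List.map_map]
      refine List.map_congr_left fun c _ => ?_
      simp only [Function.comp_apply, h3]
    rw [ew, h78] at e
    simp only [List.map_cons, List.map_nil, Rel.wordGL, List.prod_cons, List.prod_nil, Int.cast_one,
      Int.cast_zero, one_mul, zero_mul, xGL_zero, mul_one, pow_one] at e
    rw [mul_inv_eq_iff_eq_mul]
    calc xx 7 a * xx 8 b = xx 7 a * xx 8 b * (xx 9 (-a * b) * xx 9 (a * b)) := by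
          simp only [xx]
          rw [Rel.xGL_add mem_data (show 9 < chevG2.nroots by decide), neg_mul, neg_add_cancel, xGL_zero, mul_one]
      _ = xx 8 b * xx 7 a * xx 9 (a * b) := by rw [← mul_assoc, ← show xx 8 b * xx 7 a = _ from e]
      _ = _ := by
          have hb : Commute (xx 9 (a * b)) (xx 7 a) :=
            commute_x mem_data (by decide) (by decide) (comm_table.1 9 (by simp) 7 (by simp)).1 (fun c hc => by
              rw [← h3, (comm_table.1 9 (by simp) 7 (by simp)).2 c hc, Int.cast_zero]) _ _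
          rw [mul_assoc, ← hb.eq, ← mul_assoc]
  have e6 : ∀ a b : K, xx 6 a * xx 10 b * (xx 6 a)⁻¹ = xx 10 b * xx 11 (a * b) := by
    intro a b
    have e := Rel.comm_GL mem_data (F := K) (show 6 < chevG2.nroots by decide) (show 10 < chevG2.nroots by decide)
      (by decide) n610 a b
    have ew : chevG2.commWord K 6 10 a b = ((chevG2.commTerms 6 10).map (fun c => (c.1, c.2.1 % 3, c.2.2))).map
        fun c : ℕ × ℤ × ℕ × ℕ => (c.1, (c.2.1 : K) * (-a) ^ c.2.2.1 * b ^ c.2.2.2) := by
      rw [ChevalleyDatum.commWord, List.map_map]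
      refine List.map_congr_left fun c _ => ?_
      simp only [Function.comp_apply, h3]
    rw [ew, h610] at e
    simp only [List.map_cons, List.map_nil, Rel.wordGL, List.prod_cons, List.prod_nil, Int.cast_one,
      one_mul, mul_one, pow_one] at e
    rw [mul_inv_eq_iff_eq_mul]
    calc xx 6 a * xx 10 b = xx 6 a * xx 10 b * (xx 11 (-a * b) * xx 11 (a * b)) := by
          simp only [xx]
          rw [Rel.xGL_add mem_data (show 11 < chevG2.nroots by decide), neg_mul, neg_add_cancel, xGL_zero, mul_one]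
      _ = xx 10 b * xx 6 a * xx 11 (a * b) := by rw [← mul_assoc, ← show xx 10 b * xx 6 a = _ from e]
      _ = _ := by
          have hb : Commute (xx 11 (a * b)) (xx 6 a) :=
            commute_x mem_data (by decide) (by decide) (comm_table.1 11 (by simp) 6 (by simp)).1 (fun c hc => by
              rw [← h3, (comm_table.1 11 (by simp) 6 (by simp)).2 c hc, Int.cast_zero]) _ _
          rw [mul_assoc, ← hb.eq, ← mul_assoc]
  have c8 : ∀ r ∈ [6, 8, 9], ∀ a b : K, xx r a * xx 8 b * (xx r a)⁻¹ = xx 8 b := fun r hr a b => by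
    rw [(hc (r, 8) (by revert r; decide) a b).eq, mul_inv_cancel_right]
  have c10 : ∀ r ∈ [7, 8, 9], ∀ a b : K, xx r a * xx 10 b * (xx r a)⁻¹ = xx 10 b := fun r hr a b => by
    rw [(hc (r, 10) (by revert r; decide) a b).eq, mul_inv_cancel_right]
  have c11 : ∀ a b : K, xx 7 a * xx 11 b * (xx 7 a)⁻¹ = xx 11 b := fun a b => by
    have hb : Commute (xx 11 b) (xx 7 a) :=
      commute_x mem_data (by decide) (by decide) (comm_table.1 11 (by simp) 7 (by simp)).1 (fun c hc => by
        rw [← h3, (comm_table.1 11 (by simp) 7 (by simp)).2 c hc, Int.cast_zero]) _ _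
    rw [← hb.eq, mul_inv_cancel_right]
  simp only [A, B1, B2, show Ps.a = 7 from rfl, show Ps.b = 6 from rfl, show Ps.c = 8 from rfl,
    show Ps.d = 9 from rfl, show Ps.e = 10 from rfl, show Ps.f = 11 from rfl, show Ps.eps = 1 from rfl,
    Int.cast_one, one_mul, map_mul]
  generalize th hK t * t = α
  generalize th hK t ^ 2 * t = β
  generalize th hK t = s
  generalize th hK u = w
  rw [show ∀ (a b c d e f : GL chevG2.Idx K), (a * (b * (c * d))) * (e * f) * (a * (b * (c * d)))⁻¹ =
    (a * (b * (c * (d * e * d⁻¹) * c⁻¹) * b⁻¹) * a⁻¹) *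
      (a * (b * (c * (d * f * d⁻¹) * c⁻¹) * b⁻¹) * a⁻¹) from fun a b c d e f => by group,
    c8 9 (by simp), c8 8 (by simp), c8 6 (by simp), e7, c10 9 (by simp), c10 8 (by simp), e6,
    show ∀ (a e f : GL chevG2.Idx K), a * (e * f) * a⁻¹ = (a * e * a⁻¹) * (a * f * a⁻¹) from
      fun a e f => by group, c10 7 (by simp), c11]
  have hb : Commute (xx 9 (s * w)) (xx 10 u) := sext_comm hK Ps_ok (Ps.d, Ps.e) (by simp) _ _
  rw [mul_assoc, mul_assoc, ← mul_assoc (xx 9 (s * w)), hb.eq, mul_assoc]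

set_option maxHeartbeats 1000000 in
theorem min_degree (hm : 1 ≤ m) (k : ℕ) (ρ : Representation ℂ ↥(twistedG2 K (3 ^ m)) (Fin k → ℂ))
    (hirr : ρ.IsIrreducible) (hk : 2 ≤ k) :
    (3 ^ (2 * m + 1)) ^ 2 - 3 ^ (2 * m + 1) + 1 ≤ k := by
  classical
  haveI := (simple_group hK hm).1
  -- the abelian normal subgroup of the unipotent group
  let bG : K × K → ↥(twistedG2 K (3 ^ m)) := fun p =>
    ⟨B1 hK Ps p.1 * B2 hK Ps p.2, mul_mem (B1_mem hK (Or.inl rfl) _) (B2_mem hK (Or.inl rfl) _)⟩
  have hbG : ∀ p q, bG (p + q) = bG p * bG q := fun p q => Subtype.ext (by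
    simp only [bG, Prod.fst_add, Prod.snd_add, Subgroup.coe_mul]
    rw [← B1_add hK, ← B2_add hK, mul_assoc, mul_assoc]
    congr 1
    rw [← mul_assoc, ← mul_assoc, (B1_B2_comm hK _ _).eq])
  have hbG0 : bG 0 = 1 := by
    have := hbG 0 0
    rw [add_zero] at this
    exact left_eq_mul.1 this
  -- projections
  let P : AddChar (K × K) ℂ → ((Fin k → ℂ) →ₗ[ℂ] (Fin k → ℂ)) := fun l => ∑ p, l (-p) • ρ (bG p)
  have hP : ∀ l v q, ρ (bG q) (P l v) = l q • P l v := by
    intro l v q
    simp only [P, LinearMap.sum_apply, LinearMap.smul_apply, map_sum, map_smul, Finset.smul_sum, smul_smul]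
    refine Fintype.sum_equiv (Equiv.addLeft q) _ _ fun p => ?_
    rw [Equiv.coe_addLeft, hbG, map_mul, Module.End.mul_apply, ← AddChar.map_add_eq_mul, neg_add,
      add_neg_cancel_left]
  have hev : ∀ (l μ : AddChar (K × K) ℂ) v, (∀ p, ρ (bG p) v = l p • v) →
      P μ v = (if l = μ then (Fintype.card (K × K) : ℂ) else 0) • v := by
    intro l μ v hv
    simp only [P, LinearMap.sum_apply, LinearMap.smul_apply, hv, smul_smul, ← Finset.sum_smul]
    congr 1
    have e : ∀ p, μ (-p) * l p = (l - μ) p := fun p => by rw [AddChar.sub_apply', AddChar.map_neg_eq_inv]; ring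
    rw [Finset.sum_congr rfl fun p _ => e p, AddChar.sum_eq_ite]
    simp only [sub_eq_zero]
  -- some vector on which the centre of the unipotent group is not trivial
  obtain ⟨v₁, v₀, hv₀⟩ : ∃ v₁ v₀, ρ (bG (0, v₁)) v₀ ≠ v₀ := by
    by_contra hall
    push Not at hall
    have hker : ρ.ker = ⊤ := by
      refine (IsSimpleGroup.eq_bot_or_eq_top_of_normal ρ.ker inferInstance).resolve_left fun e => ?_
      have h1 : bG (0, 1) ∈ ρ.ker := MonoidHom.mem_ker.2 (LinearMap.ext fun v => hall 1 v)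
      rw [e, Subgroup.mem_bot, ← hbG0] at h1
      have h2 : W hK Ps 0 0 1 = W hK Ps (0 : K) 0 0 := by
        rw [W_eq hK Ps_ok, W_eq hK Ps_ok, mul_assoc, mul_assoc]
        exact congrArg (A hK Ps (0 : K) * ·) (congrArg Subtype.val h1)
      exact one_ne_zero (W_inj hK h2).2.2
    have htriv : ∀ g v, ρ g v = v := fun g v => by
      have h1 : ρ g = 1 := MonoidHom.mem_ker.1 (hker.ge (Subgroup.mem_top g))
      rw [h1, Module.End.one_apply]
    let e₀ : Fin k → ℂ := Pi.single ⟨0, by omega⟩ 1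
    let S : Subrepresentation ρ := ⟨Submodule.span ℂ {e₀}, fun g v hv => by rwa [htriv]⟩
    have hne : e₀ ≠ 0 := by simp [e₀]
    haveI := hirr
    rcases eq_bot_or_eq_top S with h | h
    · refine hne ((Submodule.mem_bot ℂ).1 ?_)
      have h1 : S.toSubmodule = ⊥ := by rw [h]; rfl
      exact h1 ▸ Submodule.mem_span_singleton_self e₀
    · have h1 : S.toSubmodule = ⊤ := by rw [h]; rfl
      have h2 := finrank_span_singleton (K := ℂ) hne
      rw [show Submodule.span ℂ {e₀} = ⊤ from h1, finrank_top, Module.finrank_fin_fun] at h2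
      omega
  -- a common eigenvector
  obtain ⟨l₀, hl₀, hw₀⟩ : ∃ l₀ : AddChar (K × K) ℂ, l₀ (0, v₁) ≠ 1 ∧ P l₀ v₀ ≠ 0 := by
    by_contra hall
    push Not at hall
    have hsum : ∑ l, P l v₀ = (Fintype.card (K × K) : ℂ) • v₀ := by
      simp only [P, LinearMap.sum_apply, LinearMap.smul_apply]
      rw [Finset.sum_comm]
      simp only [← Finset.sum_smul, AddChar.sum_apply_eq_ite, neg_eq_zero, ite_smul, zero_smul,
        Finset.sum_ite_eq', Finset.mem_univ, if_true, hbG0, map_one, Module.End.one_apply]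
    refine hv₀ (smul_right_injective (Fin k → ℂ) (Nat.cast_ne_zero.2 Fintype.card_ne_zero :
      (Fintype.card (K × K) : ℂ) ≠ 0) ?_)
    show (Fintype.card (K × K) : ℂ) • _ = (Fintype.card (K × K) : ℂ) • _
    rw [← map_smul, ← hsum, map_sum]
    refine Finset.sum_congr rfl fun l _ => ?_
    rw [hP]
    by_cases hl : l (0, v₁) = 1
    · rw [hl, one_smul]
    · rw [hall l hl, smul_zero]
  set w₀ := P l₀ v₀ with hw₀def
  let ψ : AddChar K ℂ := l₀.compAddMonoidHom (AddMonoidHom.inr K K)
  have hψ : ψ.IsPrimitive := AddChar.IsPrimitive.of_ne_one fun e => hl₀ (by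
    have := DFunLike.congr_fun e v₁; simpa [ψ] using this)
  have hψinj : ∀ a b : K, (∀ v, ψ (a * v) = ψ (b * v)) → a = b := fun a b h =>
    AddChar.to_mulShift_inj_of_isPrimitive hψ (DFunLike.ext _ _ fun v => by simpa using h v)
  -- the conjugates
  have hc1 : ∀ c : Kˣ, ch1 hK (c : K) ≠ 0 := fun c =>
    div_ne_zero (pow_ne_zero _ (by simp)) c.ne_zero
  let gG : Kˣ × K → ↥(twistedG2 K (3 ^ m)) := fun x =>
    ⟨parHom hK x.1 * A hK Ps x.2, mul_mem (parHom_mem hK _) (A_mem hK (Or.inl rfl) _)⟩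
  let L : Kˣ × K → (K × K →+ K × K) := fun x =>
    { toFun := fun p => (p.1 / ch1 hK (x.1 : K), p.2 / (x.1 : K) - x.2 * (p.1 / ch1 hK (x.1 : K)))
      map_zero' := by simp
      map_add' := fun p q => by simp [add_div, mul_add]; ring }
  have hconj : ∀ x p, bG p * gG x = gG x * bG (L x p) := by
    rintro ⟨c, t⟩ ⟨u, v⟩
    refine Subtype.ext ?_
    simp only [bG, gG, L, Subgroup.coe_mul, AddMonoidHom.coe_mk, ZeroHom.coe_mk]
    set u' := u / ch1 hK (c : K)
    set v' := v / (c : K)
    have hB : B1 hK Ps u * B2 hK Ps v = parHom hK c * (B1 hK Ps u' * B2 hK Ps v') * (parHom hK c)⁻¹ := by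
      have := W_conj hK c 0 u' v'
      rw [mul_zero, W_eq hK Ps_ok, W_eq hK Ps_ok, show A hK Ps (0 : K) = 1 by simp [A, xx, xGL_zero], one_mul, one_mul,
        mul_div_cancel₀ _ (hc1 c), mul_div_cancel₀ _ c.ne_zero] at this
      exact this.symm
    rw [hB, show parHom hK c * (B1 hK Ps u' * B2 hK Ps v') * (parHom hK c)⁻¹ * (parHom hK c * A hK Ps t) =
      parHom hK c * (B1 hK Ps u' * B2 hK Ps v' * A hK Ps t) by group, mul_assoc (parHom hK c)]
    congr 1
    rw [show A hK Ps t * (B1 hK Ps u' * B2 hK Ps (v' - t * u')) =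
        (A hK Ps t * B1 hK Ps u' * (A hK Ps t)⁻¹) * (A hK Ps t * B2 hK Ps (v' - t * u')) by group,
      A_conj, (A_B2_comm hK t (v' - t * u')).eq, mul_assoc (B1 hK Ps u') (B2 hK Ps (t * u')),
      ← mul_assoc (B2 hK Ps (t * u')), B2_add hK, add_sub_cancel, ← mul_assoc]
  let ch : Kˣ × K → AddChar (K × K) ℂ := fun x => l₀.compAddMonoidHom (L x)
  have hch : Function.Injective ch := by
    rintro ⟨c, t⟩ ⟨c', t'⟩ h
    have hc : c = c' := by
      refine Units.ext (inv_injective (hψinj _ _ fun v => ?_))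
      have := DFunLike.congr_fun h (0, v)
      simpa [ch, L, ψ, div_eq_inv_mul] using this
    subst hc
    refine Prod.ext rfl (hψinj _ _ fun v => ?_)
    have e := DFunLike.congr_fun h (v * ch1 hK (c : K), 0)
    simp only [ch, L, AddChar.compAddMonoidHom_apply, AddMonoidHom.coe_mk, ZeroHom.coe_mk,
      mul_div_cancel_right₀ _ (hc1 c), zero_div, zero_sub] at e
    have hsp : ∀ a : K, l₀ (v, a) = l₀ (v, 0) * ψ a := fun a => by
      simp only [ψ, AddChar.compAddMonoidHom_apply, AddMonoidHom.inr_apply, ← AddChar.map_add_eq_mul]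
      simp
    rw [hsp (-(t * v)), hsp (-(t' * v))] at e
    have e2 := mul_left_cancel₀ (IsUnit.ne_zero (AddChar.val_isUnit l₀ _)) e
    rw [AddChar.map_neg_eq_inv, AddChar.map_neg_eq_inv, inv_inj] at e2
    exact e2
  let vec : Kˣ × K → (Fin k → ℂ) := fun x => ρ (gG x) w₀
  have hvec : ∀ x p, ρ (bG p) (vec x) = ch x p • vec x := by
    intro x p
    simp only [vec, ← Module.End.mul_apply, ← map_mul, hconj]
    rw [map_mul, Module.End.mul_apply, hw₀def, hP, map_smul]
    rfl
  have hvne : ∀ x, vec x ≠ 0 := fun x e => hw₀ (by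
    have h1 := congrArg (ρ (gG x)⁻¹) e
    simpa [vec, ← Module.End.mul_apply, ← map_mul] using h1)
  have hli : LinearIndependent ℂ vec := by
    rw [Fintype.linearIndependent_iff]
    intro g hg i
    have h1 := congrArg (P (ch i)) hg
    simp only [map_sum, map_smul, map_zero, fun j => hev (ch j) (ch i) (vec j) (hvec j), hch.eq_iff, ite_smul,
      zero_smul, smul_ite, smul_zero, Finset.sum_ite_eq', Finset.mem_univ, if_true] at h1
    rcases smul_eq_zero.1 h1 with h | h
    · exact h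
    · exact absurd (smul_eq_zero.1 h) (not_or.2 ⟨Nat.cast_ne_zero.2 Fintype.card_ne_zero, hvne i⟩)
  have hcard : Fintype.card (Kˣ × K) = (3 ^ (2 * m + 1)) ^ 2 - 3 ^ (2 * m + 1) := by
    rw [Fintype.card_prod, Fintype.card_units, hK, Nat.sub_mul, one_mul, sq]
  have hle := hli.fintype_card_le_finrank
  rw [hcard, Module.finrank_fin_fun] at hle
  by_contra hlt
  have heq : k = (3 ^ (2 * m + 1)) ^ 2 - 3 ^ (2 * m + 1) := by omega
  -- the trace of an involution vanishes
  let b := basisOfLinearIndependentOfCardEqFinrank hli (by rw [hcard, Module.finrank_fin_fun, heq])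
  have hb : ∀ x, b x = vec x := fun x => by simp [b]
  let a : ↥(twistedG2 K (3 ^ m)) := ⟨parHom hK (-1), parHom_mem hK _⟩
  have htr : LinearMap.trace ℂ _ (ρ a) = 0 := by
    rw [LinearMap.trace_eq_matrix_trace ℂ b, Matrix.trace]
    refine Finset.sum_eq_zero fun j _ => ?_
    rw [Matrix.diag_apply, LinearMap.toMatrix_apply]
    set y := ρ a (b j)
    -- `y` is an eigenvector with the opposite character on the centre
    have hy : ∀ v, ρ (bG (0, v)) y = ch j (0, -v) • y := by
      intro v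
      have e : bG (0, v) * a = a * bG (0, -v) := Subtype.ext (by
        have := W_conj hK (-1) 0 0 (-v)
        rw [mul_zero, mul_zero, W_eq hK Ps_ok, W_eq hK Ps_ok, show A hK Ps (0 : K) = 1 by simp [A, xx, xGL_zero],
          show B1 hK Ps (0 : K) = 1 by simp [B1, xx, xGL_zero]] at this
        simp only [one_mul, Units.val_neg, Units.val_one, neg_mul, neg_neg] at this
        rw [mul_inv_eq_iff_eq_mul] at this
        simp only [bG, a, Subgroup.coe_mul, show B1 hK Ps (0 : K) = 1 by simp [B1, xx, xGL_zero], one_mul]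
        exact this.symm)
      simp only [y, ← Module.End.mul_apply, ← map_mul, e]
      rw [map_mul, Module.End.mul_apply, hb, hvec, map_smul]
    have hrep : ∀ v z, b.repr (ρ (bG (0, v)) z) j = ch j (0, v) * b.repr z j := by
      intro v z
      have e : (b.coord j).comp (ρ (bG (0, v))) = ch j (0, v) • b.coord j := b.ext fun i => by
        simp only [LinearMap.comp_apply, LinearMap.smul_apply, Module.Basis.coord_apply]
        rw [hb, hvec, map_smul, ← hb, Module.Basis.repr_self, Finsupp.smul_apply]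
        rcases eq_or_ne i j with rfl | hij
        · simp
        · simp [hij]
      simpa using LinearMap.congr_fun e z
    by_contra hne
    obtain ⟨c, t⟩ := j
    have hne1 : (c : K)⁻¹ ≠ -(c : K)⁻¹ := fun e => by
      have h2 : (c : K)⁻¹ * 2 = 0 := by linear_combination e
      rcases mul_eq_zero.1 h2 with h | h
      · exact c.ne_zero (inv_eq_zero.1 h)
      · haveI := char_three hK
        have h3 : ((2 : ℕ) : K) = 0 := by exact_mod_cast h
        rw [CharP.cast_eq_zero_iff K 3] at h3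
        norm_num at h3
    refine hne1 (hψinj _ _ fun v => ?_)
    have h1 := hrep v y
    rw [hy, map_smul, Finsupp.smul_apply, smul_eq_mul] at h1
    have h2 := mul_right_cancel₀ hne h1
    simp only [ch, L, AddChar.compAddMonoidHom_apply, AddMonoidHom.coe_mk, ZeroHom.coe_mk] at h2
    simp only [zero_div, mul_zero, sub_zero] at h2
    simp only [ψ, AddChar.compAddMonoidHom_apply, AddMonoidHom.inr_apply]
    rw [show -(c : K)⁻¹ * v = -v / (c : K) by rw [neg_mul, neg_div, inv_mul_eq_div], inv_mul_eq_div]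
    exact h2.symm
  -- an elementary abelian group of order eight
  haveI : Fact (Nat.Prime 2) := ⟨Nat.prime_two⟩
  have ha1 : a ≠ 1 := fun e => by
    have h0 : (-1 : Kˣ) = 1 := parHom_inj hK ((congrArg Subtype.val e).trans (map_one _).symm)
    exact neg_one_not_sq hK ⟨1, by rw [mul_one]; exact congrArg Units.val h0⟩
  have ha2 : a * a = 1 := Subtype.ext (show parHom hK (-1) * parHom hK (-1) = 1 by rw [← map_mul]; simp)
  obtain ⟨-, hsyl⟩ := involution_centralizer hK a ((Torus.range_torusHom mem_data).le ⟨_, rfl⟩) ha1 ha2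
  obtain ⟨S, hS⟩ := IsPGroup.exists_le_sylow (p := 2) (P := Subgroup.zpowers a)
    (IsPGroup.of_card (n := 1) (by rw [Nat.card_zpowers, pow_one]; exact orderOf_eq_prime (by rw [pow_two, ha2]) ha1))
  have haS : a ∈ S := hS (Subgroup.mem_zpowers a)
  obtain ⟨hcent, h168⟩ := sylow_normalizer hK hm S
  haveI : Fact (Nat.Prime 7) := ⟨by norm_num⟩
  obtain ⟨n, hn⟩ := exists_prime_orderOf_dvd_card'
    (G := ↥(Subgroup.normalizer ((S : Subgroup ↥(twistedG2 K (3 ^ m))) : Set ↥(twistedG2 K (3 ^ m))))) 7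
    (by rw [h168]; norm_num)
  have hnS : ∀ (i : ℕ), ∀ s ∈ S, (n : ↥(twistedG2 K (3 ^ m))) ^ i * s * ((n : ↥(twistedG2 K (3 ^ m))) ^ i)⁻¹ ∈ S :=
    fun i s hs => (Subgroup.mem_normalizer_iff.1 (pow_mem n.2 i) s).1 hs
  set N : ↥(twistedG2 K (3 ^ m)) := (n : ↥(twistedG2 K (3 ^ m)))
  have hN7 : orderOf N = 7 := by rw [Subgroup.orderOf_coe]; exact hn
  -- the element of order seven fixes no involution of `S`
  let σ : Equiv.Perm ↥(S : Subgroup ↥(twistedG2 K (3 ^ m))) :=
    Equiv.ofBijective (fun s => ⟨N * s * N⁻¹, by have h := hnS 1 s s.2; rwa [pow_one] at h⟩)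
      (Finite.injective_iff_bijective.1 fun x y h => by
        have := congrArg Subtype.val h
        exact Subtype.ext (mul_left_cancel (mul_right_cancel this)))
  have hσ : ∀ (i : ℕ) s, ((σ ^ i) s : ↥(twistedG2 K (3 ^ m))) = N ^ i * s * (N ^ i)⁻¹ := by
    intro i
    induction i with
    | zero => simp
    | succ i ih =>
      intro s
      rw [pow_succ', Equiv.Perm.mul_apply]
      show N * ((σ ^ i) s : ↥(twistedG2 K (3 ^ m))) * N⁻¹ = _
      rw [ih, pow_succ', mul_inv_rev]
      group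
  have hS8 : Nat.card ↥(S : Subgroup ↥(twistedG2 K (3 ^ m))) = 8 := (hsyl S).1
  have hσ7 : σ ^ 7 = 1 := Equiv.ext fun s => Subtype.ext (by
    rw [hσ, show N ^ 7 = 1 by rw [← hN7]; exact pow_orderOf_eq_one N]; simp)
  have hσfree : ∀ s : ↥(S : Subgroup ↥(twistedG2 K (3 ^ m))), s ≠ 1 → σ s ≠ s := by
    intro s hs hfix
    have h1 : σ 1 = 1 := Subtype.ext (by
      show N * ((1 : ↥(S : Subgroup ↥(twistedG2 K (3 ^ m)))) : ↥(twistedG2 K (3 ^ m))) * N⁻¹ = _
      simp)
    have hfix7 : σ.support.card ≤ 6 := by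
      have hsub : σ.support ⊆ Finset.univ \ {1, s} := fun x hx => by
        rw [Finset.mem_sdiff, Finset.mem_insert, Finset.mem_singleton]
        refine ⟨Finset.mem_univ _, ?_⟩
        rintro (rfl | rfl)
        · exact Equiv.Perm.mem_support.1 hx h1
        · exact Equiv.Perm.mem_support.1 hx hfix
      refine (Finset.card_le_card hsub).trans ?_
      rw [Finset.card_sdiff_of_subset (Finset.subset_univ _), Finset.card_univ, ← Nat.card_eq_fintype_card, hS8,
        Finset.card_pair hs.symm]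
    have hσ1 : σ = 1 := by
      by_contra hne
      have h7 : orderOf σ = 7 := orderOf_eq_prime hσ7 hne
      obtain ⟨d, hd⟩ := Equiv.Perm.cycleType_prime_order (σ := σ) (h7.symm ▸ (by norm_num : Nat.Prime 7))
      have hsum := Equiv.Perm.sum_cycleType σ
      rw [hd, Multiset.sum_replicate, h7] at hsum
      simp only [smul_eq_mul] at hsum
      omega
    have hNC : N ∈ Subgroup.centralizer ((S : Subgroup ↥(twistedG2 K (3 ^ m))) : Set ↥(twistedG2 K (3 ^ m))) := by
      refine Subgroup.mem_centralizer_iff.2 fun x hx => ?_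
      have e := congrArg Subtype.val (Equiv.ext_iff.1 hσ1 ⟨x, hx⟩)
      exact (mul_inv_eq_iff_eq_mul.1 e).symm
    rw [hcent] at hNC
    have h2 := (hsyl S).2 N hNC
    have : orderOf N ∣ 2 := orderOf_dvd_of_pow_eq_one (by rw [pow_two, h2])
    rw [hN7] at this
    norm_num at this
  have horb : ∀ s : ↥(S : Subgroup ↥(twistedG2 K (3 ^ m))), s ≠ 1 → ∃ i : ℕ, (σ ^ i) ⟨a, haS⟩ = s := by
    intro s hs
    have ha' : (⟨a, haS⟩ : ↥(S : Subgroup ↥(twistedG2 K (3 ^ m)))) ≠ 1 := fun e => ha1 (congrArg Subtype.val e)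
    have hsupp : σ.support.card = 7 := by
      have e : σ.support = Finset.univ.erase 1 := by
        ext x
        rw [Equiv.Perm.mem_support, Finset.mem_erase]
        refine ⟨fun h => ⟨fun e => h (Subtype.ext ?_), Finset.mem_univ _⟩, fun h => hσfree x h.1⟩
        subst e
        show N * ((1 : ↥(S : Subgroup ↥(twistedG2 K (3 ^ m)))) : ↥(twistedG2 K (3 ^ m))) * N⁻¹ = _
        simp
      rw [e, Finset.card_erase_of_mem (Finset.mem_univ _), Finset.card_univ, ← Nat.card_eq_fintype_card, hS8]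
    have hne : σ ≠ 1 := fun e => hσfree _ ha' (by rw [e, Equiv.Perm.one_apply])
    have h7 : orderOf σ = 7 := orderOf_eq_prime hσ7 hne
    have hcyc : σ.IsCycle := Equiv.Perm.isCycle_of_prime_order (by rw [h7]; norm_num) (by rw [hsupp, h7]; norm_num)
    exact hcyc.exists_pow_eq (hσfree _ ha') (hσfree s hs)
  have htrS : ∀ s : ↥(S : Subgroup ↥(twistedG2 K (3 ^ m))), s ≠ 1 → LinearMap.trace ℂ _ (ρ s) = 0 := by
    intro s hs
    obtain ⟨i, hi⟩ := horb s hs
    rw [← hi, hσ, map_mul, LinearMap.trace_mul_comm, ← map_mul]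
    simp [htr]
  -- average over the Sylow subgroup
  let F : (Fin k → ℂ) →ₗ[ℂ] (Fin k → ℂ) := (8 : ℂ)⁻¹ • ∑ s : ↥(S : Subgroup ↥(twistedG2 K (3 ^ m))), ρ s
  let I := Representation.invariants (ρ.comp (S : Subgroup ↥(twistedG2 K (3 ^ m))).subtype)
  have hF : LinearMap.IsProj I F := by
    refine ⟨fun x => ?_, fun x hx => ?_⟩
    · rw [Representation.mem_invariants]
      intro g
      simp only [F, LinearMap.smul_apply, LinearMap.sum_apply]
      refine Eq.trans (map_smul ((ρ.comp (S : Subgroup ↥(twistedG2 K (3 ^ m))).subtype) g) _ _) ?_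
      refine congrArg ((8 : ℂ)⁻¹ • ·) ?_
      rw [map_sum]
      refine Fintype.sum_equiv (Equiv.mulLeft g) _ _ fun s => ?_
      rw [Equiv.coe_mulLeft, Subgroup.coe_mul, map_mul, Module.End.mul_apply]
      rfl
    · rw [Representation.mem_invariants] at hx
      simp only [F, LinearMap.smul_apply, LinearMap.sum_apply]
      have hx' : ∀ s : ↥(S : Subgroup ↥(twistedG2 K (3 ^ m))), ρ (s : ↥(twistedG2 K (3 ^ m))) x = x :=
        fun s => hx s
      rw [Finset.sum_congr rfl (fun s _ => hx' s), Finset.sum_const,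
        Finset.card_univ, ← Nat.card_eq_fintype_card, hS8, ← Nat.cast_smul_eq_nsmul ℂ, smul_smul]
      norm_num
  have h8 := hF.trace
  simp only [F, map_smul, map_sum, smul_eq_mul] at h8
  rw [Finset.sum_eq_single (1 : ↥(S : Subgroup ↥(twistedG2 K (3 ^ m)))) (fun s _ hs => htrS s hs)
    (fun h => absurd (Finset.mem_univ _) h), Subgroup.coe_one, map_one, LinearMap.trace_one,
    Module.finrank_fin_fun, inv_mul_eq_iff_eq_mul₀ (by norm_num)] at h8
  have h8' : k = 8 * Module.finrank ℂ I := by exact_mod_cast h8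
  have hq : 3 ^ (2 * m + 1) % 4 = 3 := by rw [pow_succ, pow_mul, Nat.mul_mod, Nat.pow_mod]; norm_num
  obtain ⟨j, hj⟩ : ∃ j, 3 ^ (2 * m + 1) = 4 * j + 3 := ⟨3 ^ (2 * m + 1) / 4, by omega⟩
  have hsq : (3 ^ (2 * m + 1)) ^ 2 = 16 * (j * j) + 24 * j + 9 := by rw [hj]; ring
  omega

end CfsgLib.Chev.Twisted.ReeG2
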