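import Cfsg.Agent.Lib.Chev.Twisted.G2Torus

/-! Classification of the element orders of the small Ree groups. -/

set_option autoImplicit false

open Cfsg Cfsg.Lie
open CfsgLib.Chev CfsgLib.Chev.Checks CfsgLib.Chev.Basic

namespace CfsgLib.Chev.Twisted.ReeG2

variable {K : Type*} [Field K] [Fintype K] {m : ℕ} (hK : Fintype.card K = 3 ^ (2 * m + 1))

include hK

theorem q_sq (hm : 1 ≤ m) :
    Fintype.card K ^ 2 - 1 = (Fintype.card K + 1) * (Fintype.card K - 1) ∧
      Fintype.card K ^ 2 - Fintype.card K + 1 = Fintype.card K * (Fintype.card K - 1) + 1 := by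
  obtain ⟨h27, -, -⟩ := q_facts hK hm
  exact ⟨by simpa using Nat.sq_sub_sq (Fintype.card K) 1, by rw [Nat.mul_sub, mul_one, sq]⟩

/-- a prime above three divides at most one of the three factors -/
theorem prime_excl (hm : 1 ≤ m) {r : ℕ} (hr : r.Prime) (hr3 : 3 < r) :
    ¬ (r ∣ Fintype.card K - 1 ∧ r ∣ Fintype.card K + 1) ∧
    ¬ (r ∣ Fintype.card K - 1 ∧ r ∣ Fintype.card K ^ 2 - Fintype.card K + 1) ∧
    ¬ (r ∣ Fintype.card K + 1 ∧ r ∣ Fintype.card K ^ 2 - Fintype.card K + 1) := by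
  obtain ⟨h27, -, -⟩ := q_facts hK hm
  rw [(q_sq hK hm).2]
  obtain ⟨n, hn⟩ : ∃ n, Fintype.card K = n + 2 := ⟨Fintype.card K - 2, by omega⟩
  rw [hn, show n + 2 - 1 = n + 1 by omega, show n + 2 + 1 = n + 3 by omega]
  refine ⟨fun h => ?_, fun h => ?_, fun h => ?_⟩
  · have h2 := Nat.dvd_sub h.2 h.1
    rw [show n + 3 - (n + 1) = 2 by omega] at h2
    have := Nat.le_of_dvd (by norm_num) h2
    omega
  · exact hr.not_dvd_one ((Nat.dvd_add_right (h.1.mul_left _)).1 h.2)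
  · have h2 := h.2
    rw [show (n + 2) * (n + 1) + 1 = (n + 3) * n + 3 by ring] at h2
    have := Nat.le_of_dvd (by norm_num) ((Nat.dvd_add_right (h.1.mul_right n)).1 h2)
    omega

theorem prime_of_group (hm : 1 ≤ m) {r : ℕ} (hr : r.Prime) (hr3 : 3 < r) (h : r ∣ Nat.card ↥(twistedG2 K (3 ^ m))) :
    r ∣ Fintype.card K - 1 ∨ r ∣ Fintype.card K + 1 ∨ r ∣ Fintype.card K ^ 2 - Fintype.card K + 1 := by
  rw [card_eq' hK, (q_sq hK hm).1] at h
  have hq : ¬ r ∣ Fintype.card K := fun hd => by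
    rw [hK] at hd
    have := (Nat.prime_dvd_prime_iff_eq hr Nat.prime_three).1 (hr.dvd_of_dvd_pow hd)
    omega
  simp only [hr.dvd_mul] at h
  rcases h with (h | h | h) | h | h
  · exact absurd h hq
  · exact Or.inr (Or.inl h)
  · exact Or.inl h
  · exact absurd (hr.dvd_of_dvd_pow h) hq
  · exact Or.inr (Or.inr h)

/-- the torus of an element of prime order dividing `q² - q + 1` -/
theorem hex_torus (hm : 1 ≤ m) {p : ℕ} [hp : Fact p.Prime] (hp3 : 3 < p)
    (hpQ : p ∣ Fintype.card K ^ 2 - Fintype.card K + 1) {x : ↥(twistedG2 K (3 ^ m))} (hx : orderOf x = p) :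
    IsMulCommutative (Subgroup.centralizer ({x} : Set ↥(twistedG2 K (3 ^ m)))) ∧
    IsCyclic (Subgroup.centralizer ({x} : Set ↥(twistedG2 K (3 ^ m)))) ∧
    (∀ l : ℕ, l.Prime → l ∣ Nat.card (Subgroup.centralizer ({x} : Set ↥(twistedG2 K (3 ^ m)))) →
      3 < l ∧ l ∣ Fintype.card K ^ 2 - Fintype.card K + 1) ∧
    ∀ z ∈ Subgroup.centralizer ({x} : Set ↥(twistedG2 K (3 ^ m))), z ≠ 1 →
      Subgroup.centralizer {z} = Subgroup.centralizer ({x} : Set ↥(twistedG2 K (3 ^ m))) := by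
  obtain ⟨h27, h8, h3⟩ := q_facts hK hm
  obtain ⟨hsq, hQ⟩ := q_sq hK hm
  have hcomm := hex_cent hK hm hp3 hpQ hx
  set T := Subgroup.centralizer ({x} : Set ↥(twistedG2 K (3 ^ m)))
  obtain ⟨hex1, hex2, hex3⟩ := prime_excl hK hm hp.out hp3
  have hprimes : ∀ l : ℕ, l.Prime → l ∣ Nat.card T → 3 < l ∧ l ∣ Fintype.card K ^ 2 - Fintype.card K + 1 := by
    intro l hl hlT
    haveI := Fact.mk hl
    obtain ⟨⟨t, htT⟩, hto⟩ := exists_prime_orderOf_dvd_card' (G := T) l hlT
    rw [← Subgroup.orderOf_coe] at hto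
    change orderOf t = l at hto
    have hc : Commute x t := (Subgroup.mem_centralizer_singleton_iff.1 htT).symm
    have hl2 : l ≠ 2 := by
      rintro rfl
      have ht1 : t ≠ 1 := fun e => by rw [e, orderOf_one] at hto; norm_num at hto
      obtain ⟨c, hc'⟩ := invol_conj hK hm ht1 (by rw [← pow_two, ← hto, pow_orderOf_eq_one])
      have hmem : c⁻¹ * x * c ∈ Subgroup.centralizer ({inv0 hK} : Set ↥(twistedG2 K (3 ^ m))) := by
        rw [Subgroup.mem_centralizer_singleton_iff, show inv0 hK = c⁻¹ * t * c by rw [← hc']; group,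
          show c⁻¹ * x * c * (c⁻¹ * t * c) = c⁻¹ * (x * t) * c by group, hc.eq]
        group
      have hd := Subgroup.orderOf_dvd_natCard _ hmem
      rw [card_cent_inv hK, show orderOf (c⁻¹ * x * c) = p by
        rw [← hx]; simpa using orderOf_injective (MulAut.conj c⁻¹).toMonoidHom (MulAut.conj c⁻¹).injective x, hsq] at hd
      rcases hp.out.dvd_mul.1 hd with h | h
      · rw [hK] at h
        have := (Nat.prime_dvd_prime_iff_eq hp.out Nat.prime_three).1 (hp.out.dvd_of_dvd_pow h)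
        omega
      · rcases hp.out.dvd_mul.1 h with h | h
        exacts [hex3 ⟨h, hpQ⟩, hex2 ⟨h, hpQ⟩]
    have hl3 : l ≠ 3 := by
      rintro rfl
      have ho : orderOf (x * t) = p * 3 := by
        rw [hc.orderOf_mul_eq_mul_orderOf_of_coprime (by
          rw [hx, hto]; exact (Nat.coprime_primes hp.out Nat.prime_three).2 (by omega)), hx, hto]
      obtain ⟨c, -, h | h | ⟨h, -⟩⟩ := three_cases hK hm (g := x * t) (by rw [ho]; exact dvd_mul_left 3 p) <;>
        omega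
    have hl3' : 3 < l := by have := hl.two_le; omega
    refine ⟨hl3', ?_⟩
    rcases prime_of_group hK hm hl hl3' (hto ▸ orderOf_dvd_natCard t) with h | h | h
    · have hd := Subgroup.orderOf_dvd_natCard (Subgroup.centralizer ({t} : Set ↥(twistedG2 K (3 ^ m))))
        (Subgroup.mem_centralizer_singleton_iff.2 hc.eq)
      rw [hx, (tor_mk hK hm hl hl3' (Or.inl h) hto).2.1 h] at hd
      exact absurd ⟨hd, hpQ⟩ hex2
    · have hd := Subgroup.orderOf_dvd_natCard (Subgroup.centralizer ({t} : Set ↥(twistedG2 K (3 ^ m))))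
        (Subgroup.mem_centralizer_singleton_iff.2 hc.eq)
      rw [hx, (tor_mk hK hm hl hl3' (Or.inr h) hto).2.2.1 h] at hd
      exact absurd ⟨hd, hpQ⟩ hex3
    · exact h
  refine ⟨hcomm, cyclic_of_primes hK hm T fun l hl h => (hprimes l hl h).1, hprimes, fun z hz hz1 => ?_⟩
  obtain ⟨l, hl, hld⟩ := Nat.exists_prime_and_dvd (mt orderOf_eq_one_iff.1 hz1)
  haveI := Fact.mk hl
  obtain ⟨hl3, hlQ⟩ := hprimes l hl (hld.trans (Subgroup.orderOf_dvd_natCard T hz))
  have hzc := hex_cent hK hm hl3 hlQ (x := z ^ (orderOf z / l)) (orderOf_pow_orderOf_div (orderOf_pos z).ne' hld)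
  have hTle : ∀ w ∈ T, T ≤ Subgroup.centralizer {w} := fun w hw u hu =>
    Subgroup.mem_centralizer_singleton_iff.2 (congrArg Subtype.val (hcomm.is_comm.comm ⟨u, hu⟩ ⟨w, hw⟩))
  refine le_antisymm (fun u hu => ?_) (hTle z hz)
  have hxT : x ∈ T := Subgroup.mem_centralizer_singleton_iff.2 rfl
  have hu' : u ∈ Subgroup.centralizer ({z ^ (orderOf z / l)} : Set ↥(twistedG2 K (3 ^ m))) := by
    rw [Subgroup.mem_centralizer_singleton_iff] at hu ⊢
    exact ((show Commute u z from hu).pow_right _).eq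
  exact Subgroup.mem_centralizer_singleton_iff.2 (congrArg Subtype.val
    (hzc.is_comm.comm ⟨u, hu'⟩ ⟨x, hTle _ (pow_mem hz _) hxT⟩))

/-- elements with a prime divisor of the order of a torus lie in a conjugate of it -/
theorem into_tor (hm : 1 ≤ m) {t : ℕ} (D : TorData K m t) {g : ↥(twistedG2 K (3 ^ m))} {r : ℕ} (hr : r.Prime)
    (hr3 : 3 < r) (hrg : r ∣ orderOf g) (hrt : r ∣ t) :
    ∃ c, c * g * c⁻¹ ∈ D.T := by
  haveI := Fact.mk hr
  obtain ⟨⟨y, hyT⟩, hy⟩ := exists_prime_orderOf_dvd_card' (G := D.T) r (by rw [D.card]; exact hrt)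
  rw [← Subgroup.orderOf_coe] at hy
  change orderOf y = r at hy
  obtain ⟨c, hc⟩ := prime_conj hK hm hr3 (orderOf_pow_orderOf_div (orderOf_pos g).ne' hrg) hy
  refine ⟨c, ?_⟩
  have hmem : c * g ^ (orderOf g / r) * c⁻¹ ∈ D.T := (Subgroup.zpowers_le.2 hyT) hc
  rw [← D.cent _ hmem ?_]
  · rw [Subgroup.mem_centralizer_singleton_iff,
      show c * g * c⁻¹ * (c * g ^ (orderOf g / r) * c⁻¹) = c * (g * g ^ (orderOf g / r)) * c⁻¹ by group,
      (Commute.self_pow g (orderOf g / r)).eq]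
    group
  · intro h
    rw [show orderOf (c * g ^ (orderOf g / r) * c⁻¹) = r from
      (orderOf_injective (MulAut.conj c).toMonoidHom (MulAut.conj c).injective _).trans
        (orderOf_pow_orderOf_div (orderOf_pos g).ne' hrg)] at h
    have := Nat.le_of_dvd (by norm_num) h
    omega

/-- the elements whose order has a given prime divisor in common with a torus -/
def InTor (K : Type*) [Field K] (m t : ℕ) (g : ↥(twistedG2 K (3 ^ m))) : Prop :=
  ∃ r : ℕ, r.Prime ∧ 3 < r ∧ r ∣ orderOf g ∧ r ∣ t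

theorem in_tor_dvd (hm : 1 ≤ m) {t : ℕ} (D : TorData K m t) {g : ↥(twistedG2 K (3 ^ m))} (h : InTor K m t g) :
    orderOf g ∣ t := by
  obtain ⟨r, hr, hr3, h1, h2⟩ := h
  obtain ⟨c, hc⟩ := into_tor hK hm D hr hr3 h1 h2
  have hd := Subgroup.orderOf_dvd_natCard D.T hc
  rw [D.card] at hd
  rwa [show orderOf (c * g * c⁻¹) = orderOf g from
    orderOf_injective (MulAut.conj c).toMonoidHom (MulAut.conj c).injective g] at hd

/-- the elements whose order is prescribed in a torus -/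
theorem count_order (hm : 1 ≤ m) {t : ℕ} (D : TorData K m t) {i : ℕ} (h2 : ¬ i ∣ 2) (hi : ∃ r : ℕ, r.Prime ∧ 3 < r ∧ r ∣ i ∧ r ∣ t) :
    Nat.card {g : ↥(twistedG2 K (3 ^ m)) // orderOf g = i} * Nat.card (Subgroup.normalizer (D.T : Set ↥(twistedG2 K (3 ^ m)))) =
      Nat.card {x : D.T // orderOf x = i} * Nat.card ↥(twistedG2 K (3 ^ m)) := by
  rw [← tor_count D.T (· = i) (fun x hx e => D.cent x hx (e ▸ h2))]
  congr 1
  refine Nat.card_congr (Equiv.subtypeEquivRight fun g => ⟨fun hg => ?_, ?_⟩)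
  · obtain ⟨r, hr, hr3, h1, h2'⟩ := hi
    obtain ⟨c, hc⟩ := into_tor hK hm D hr hr3 (g := g) (hg ▸ h1) h2'
    exact ⟨c⁻¹, _, ⟨hc, (orderOf_injective (MulAut.conj c).toMonoidHom (MulAut.conj c).injective g).trans hg⟩,
      by group⟩
  · rintro ⟨c, x, ⟨-, hx⟩, rfl⟩
    exact (orderOf_injective (MulAut.conj c).toMonoidHom (MulAut.conj c).injective x).trans hx

theorem count_tor (hm : 1 ≤ m) {t : ℕ} (D : TorData K m t)
    (hodd : ∀ x ∈ D.T, ¬ orderOf x ∣ 2 → InTor K m t x) :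
    Nat.card {g : ↥(twistedG2 K (3 ^ m)) // InTor K m t g} *
        Nat.card (Subgroup.normalizer (D.T : Set ↥(twistedG2 K (3 ^ m)))) =
      (t - Nat.card {x : D.T // x * x = 1}) * Nat.card ↥(twistedG2 K (3 ^ m)) := by
  classical
  have h := tor_count D.T (fun d => ¬ d ∣ 2) (fun x hx h2 => D.cent x hx h2)
  rw [show Nat.card {x : D.T // ¬ orderOf x ∣ 2} = t - Nat.card {x : D.T // x * x = 1} by
    haveI := Fintype.ofFinite D.T
    rw [Nat.card_eq_fintype_card, Nat.card_eq_fintype_card, Fintype.card_subtype_compl, ← Nat.card_eq_fintype_card,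
      D.card, Fintype.card_congr (Equiv.subtypeEquivRight fun x : D.T =>
        (orderOf_dvd_iff_pow_eq_one (n := 2)).trans (by rw [pow_two]))]] at h
  rw [← h]
  congr 1
  refine Nat.card_congr (Equiv.subtypeEquivRight fun g => ⟨?_, ?_⟩)
  · rintro ⟨r, hr, hr3, h1, h2⟩
    obtain ⟨c, hc⟩ := into_tor hK hm D hr hr3 h1 h2
    refine ⟨c⁻¹, _, ⟨hc, fun hd => ?_⟩, by group⟩
    rw [show orderOf (c * g * c⁻¹) = orderOf g from
      orderOf_injective (MulAut.conj c).toMonoidHom (MulAut.conj c).injective g] at hd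
    have := Nat.le_of_dvd (by norm_num) (h1.trans hd)
    omega
  · rintro ⟨c, x, ⟨hxT, hx⟩, rfl⟩
    obtain ⟨r, hr, hr3, h1, h2⟩ := hodd x hxT hx
    exact ⟨r, hr, hr3, by
      rwa [show orderOf (c * x * c⁻¹) = orderOf x from
        orderOf_injective (MulAut.conj c).toMonoidHom (MulAut.conj c).injective x], h2⟩

/-- an odd prime divisor above three of the order of an element outside the small cases -/
theorem exists_prime_order (hm : 1 ≤ m) {g : ↥(twistedG2 K (3 ^ m))} (h : ¬ orderOf g ∣ 2) (h3 : ¬ 3 ∣ orderOf g) :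
    ∃ r : ℕ, r.Prime ∧ 3 < r ∧ r ∣ orderOf g := by
  obtain ⟨s, hs, hsd, hs2⟩ : ∃ s, s.Prime ∧ s ∣ orderOf g ∧ s ≠ 2 := by
    by_contra hall
    push Not at hall
    have hj := Nat.eq_prime_pow_of_unique_prime_dvd (orderOf_pos g).ne' (fun {d} hd hdd => hall d hd hdd)
    have hn4 := not_four hK g
    generalize (orderOf g).primeFactorsList.length = j at hj
    rw [hj] at hn4 h
    rcases j with - | - | j
    · exact h (by norm_num)
    · exact h (by norm_num)
    · exact hn4 ⟨2 ^ j, by ring⟩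
  refine ⟨s, hs, ?_, hsd⟩
  have := hs.two_le
  have : s ≠ 3 := by rintro rfl; exact h3 hsd
  omega

omit hK in
theorem cl_small (o : ℕ) (A B : Prop) [Decidable A] [Decidable B] (z : ℕ)
    (hz : z = if o = 1 then 0 else if o = 2 then 1 else if o = 3 then 2 else if o = 6 then 3 else
      if o = 9 then 4 else if A then 5 else if B then 6 else 7) :
    (z = 0 ↔ o = 1) ∧ (z = 1 ↔ o = 2) ∧ (z = 2 ↔ o = 3) ∧ (z = 3 ↔ o = 6) ∧ (z = 4 ↔ o = 9) := by
  subst hz
  split_ifs <;> simp_all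

set_option maxHeartbeats 1600000 in
/-- the split, quarter and hexagonal element counts -/
theorem hex_total (hm : 1 ≤ m) :
    6 * (Nat.card {g : ↥(twistedG2 K (3 ^ m)) // InTor K m (Fintype.card K ^ 2 - Fintype.card K + 1) g} : ℤ) =
      (Fintype.card K : ℤ) ^ 3 * ((Fintype.card K : ℤ) ^ 2 - 1) *
        (2 * ((Fintype.card K : ℤ) ^ 2 - Fintype.card K + 1) - 2 * Fintype.card K - 2) := by
  classical
  haveI : Fintype ↥(twistedG2 K (3 ^ m)) := Fintype.ofFinite _
  obtain ⟨h27, h8, h3⟩ := q_facts hK hm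
  obtain ⟨hsq, hQ⟩ := q_sq hK hm
  have hst := small_tori hK hm
  set q := Fintype.card K with hq
  set Q := q ^ 2 - q + 1 with hQdef
  obtain ⟨⟨D1, hD1c, hN1⟩, D2, hinv2, hN2⟩ := hst
  have hodd : ∀ {t : ℕ} (D : TorData K m t), ¬ 3 ∣ t → ∀ x ∈ D.T, ¬ orderOf x ∣ 2 → InTor K m t x := by
    intro t D h3t x hx hx2
    have hd : orderOf x ∣ t := D.card ▸ Subgroup.orderOf_dvd_natCard D.T hx
    obtain ⟨r, hr, hr3, hrx⟩ := exists_prime_order hK hm hx2 (fun h => h3t (h.trans hd))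
    exact ⟨r, hr, hr3, hrx, hrx.trans hd⟩
  have hA := count_tor hK hm D1 (hodd D1 (by omega))
  have hB := count_tor hK hm D2 (hodd D2 (by omega))
  have hinv1 : Nat.card {x : D1.T // x * x = 1} = 2 := by
    haveI := hD1c
    haveI : Fintype D1.T := Fintype.ofFinite _
    haveI := Fact.mk Nat.prime_two
    obtain ⟨t, ht⟩ := exists_prime_orderOf_dvd_card' (G := D1.T) 2 (by rw [D1.card]; omega)
    rw [Nat.card_congr (Equiv.subtypeEquivRight fun x : D1.T => (by rw [pow_two] : x * x = 1 ↔ x ^ 2 = 1)),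
      Nat.card_eq_fintype_card, Fintype.card_subtype]
    refine le_antisymm (IsCyclic.card_pow_eq_one_le (by norm_num)) ?_
    have hsub : ({1, t} : Finset D1.T) ⊆ Finset.univ.filter fun u : D1.T => u ^ 2 = 1 := by
      intro u hu
      simp only [Finset.mem_insert, Finset.mem_singleton] at hu
      rcases hu with rfl | rfl
      · simp
      · simp [← ht, pow_orderOf_eq_one]
    refine le_of_eq_of_le ?_ (Finset.card_le_card hsub)
    rw [Finset.card_pair (fun e1 => by rw [← e1, orderOf_one] at ht; norm_num at ht)]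
  rw [hN1, hinv1, card_eq' hK, ← hq, ← hQdef] at hA
  rw [hN2, hinv2, card_eq' hK, ← hq, ← hQdef] at hB
  -- classification
  have hdA : ∀ g, InTor K m (q - 1) g → orderOf g ∣ q - 1 := fun g h => in_tor_dvd hK hm D1 h
  have hdB : ∀ g, InTor K m (q + 1) g → orderOf g ∣ q + 1 := fun g h => in_tor_dvd hK hm D2 h
  let cl : ↥(twistedG2 K (3 ^ m)) → ℕ := fun g =>
    if orderOf g = 1 then 0 else if orderOf g = 2 then 1 else if orderOf g = 3 then 2 else
    if orderOf g = 6 then 3 else if orderOf g = 9 then 4 else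
    if InTor K m (q - 1) g then 5 else if InTor K m (q + 1) g then 6 else 7
  have hbig : ∀ {t} g, InTor K m t g → orderOf g ≠ 1 ∧ orderOf g ≠ 2 ∧ orderOf g ≠ 3 ∧ orderOf g ≠ 6 ∧ orderOf g ≠ 9 := by
    rintro t g ⟨r, hr, hr3, hrg, -⟩
    refine ⟨?_, ?_, ?_, ?_, ?_⟩ <;> intro e <;> rw [e] at hrg <;> have hle := Nat.le_of_dvd (by norm_num) hrg
    · omega
    · omega
    · omega
    · interval_cases r <;> first | omega | norm_num at hr
    · interval_cases r <;> first | omega | norm_num at hr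
  have hAB : ∀ g, InTor K m (q + 1) g → ¬ InTor K m (q - 1) g := by
    rintro g hB' ⟨r, hr, hr3, hrg, hrt⟩
    exact (prime_excl hK hm hr hr3).1 ⟨hrt, hrg.trans (hdB g hB')⟩
  have hAH : ∀ g, InTor K m Q g → ¬ InTor K m (q - 1) g ∧ ¬ InTor K m (q + 1) g := by
    rintro g ⟨r, hr, hr3, hrg, hrt⟩
    exact ⟨fun h => (prime_excl hK hm hr hr3).2.1 ⟨hrg.trans (hdA g h), hrt⟩,
      fun h => (prime_excl hK hm hr hr3).2.2 ⟨hrg.trans (hdB g h), hrt⟩⟩
  have hH : ∀ g, cl g = 7 ↔ InTor K m Q g := by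
    intro g
    simp only [cl]
    constructor
    · intro h
      split_ifs at h with h1 h2 h3 h6 h9 hA' hB' <;> try omega
      have h3' : ¬ 3 ∣ orderOf g := fun h3' => by
        obtain ⟨c, -, e | e | ⟨e, -⟩⟩ := three_cases hK hm h3' <;> omega
      obtain ⟨r, hr, hr3, hrg⟩ := exists_prime_order hK hm (g := g) (fun h2' => by
        have := (Nat.dvd_prime Nat.prime_two).1 h2'; omega) h3'
      rcases prime_of_group hK hm hr hr3 (hrg.trans (orderOf_dvd_natCard g)) with h | h | h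
      · exact absurd ⟨r, hr, hr3, hrg, h⟩ hA'
      · exact absurd ⟨r, hr, hr3, hrg, h⟩ hB'
      · exact ⟨r, hr, hr3, hrg, h⟩
    · intro h
      obtain ⟨a1, a2, a3, a6, a9⟩ := hbig g h
      obtain ⟨b1, b2⟩ := hAH g h
      simp [a1, a2, a3, a6, a9, b1, b2]
  have hsum := Finset.card_eq_sum_card_fiberwise (f := cl) (s := (Finset.univ : Finset ↥(twistedG2 K (3 ^ m))))
    (t := Finset.range 8) (fun g _ => Finset.mem_coe.2 (Finset.mem_range.2 (by simp only [cl]; split_ifs <;> omega)))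
  simp only [Finset.sum_range_succ, Finset.sum_range_zero, zero_add] at hsum
  have fib : ∀ (k : ℕ) (P : ↥(twistedG2 K (3 ^ m)) → Prop), (∀ g, cl g = k ↔ P g) →
      (Finset.univ.filter fun g => cl g = k).card = Nat.card {g // P g} := by
    intro k P hP
    rw [Nat.card_congr (Equiv.subtypeEquivRight fun g => (hP g).symm), Nat.card_eq_fintype_card, Fintype.card_subtype]
  rw [fib 0 (fun g => orderOf g = 1) (fun g => (cl_small (orderOf g) _ _ (cl g) rfl).1),
    fib 1 (fun g => orderOf g = 2) (fun g => (cl_small (orderOf g) _ _ (cl g) rfl).2.1),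
    fib 2 (fun g => orderOf g = 3) (fun g => (cl_small (orderOf g) _ _ (cl g) rfl).2.2.1),
    fib 3 (fun g => orderOf g = 6) (fun g => (cl_small (orderOf g) _ _ (cl g) rfl).2.2.2.1),
    fib 4 (fun g => orderOf g = 9) (fun g => (cl_small (orderOf g) _ _ (cl g) rfl).2.2.2.2),
    fib 5 (InTor K m (q - 1)) (fun g => by
      simp only [cl]
      constructor
      · intro h; split_ifs at h with h1 h2 h3 h6 h9 hA' <;> first | exact hA' | omega
      · intro h; obtain ⟨a1, a2, a3, a6, a9⟩ := hbig g h; simp [a1, a2, a3, a6, a9, h]),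
    fib 6 (InTor K m (q + 1)) (fun g => by
      simp only [cl]
      constructor
      · intro h; split_ifs at h with h1 h2 h3 h6 h9 hA' hB' <;> first | exact hB' | omega
      · intro h; obtain ⟨a1, a2, a3, a6, a9⟩ := hbig g h; simp [a1, a2, a3, a6, a9, h, hAB g h]),
    fib 7 (InTor K m Q) hH, Finset.card_univ, ← Nat.card_eq_fintype_card, count_two hK hm, count_three hK hm,
    count_six hK hm, count_nine hK hm, card_eq' hK, ← hq, ← hQdef] at hsum
  have h1 : Nat.card {g : ↥(twistedG2 K (3 ^ m)) // orderOf g = 1} = 1 := by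
    rw [Nat.card_congr (Equiv.subtypeEquivRight fun g => orderOf_eq_one_iff)]
    simp
  rw [h1] at hsum
  generalize Nat.card {g : ↥(twistedG2 K (3 ^ m)) // InTor K m (q - 1) g} = a at hA hsum
  generalize Nat.card {g : ↥(twistedG2 K (3 ^ m)) // InTor K m (q + 1) g} = b at hB hsum
  generalize Nat.card {g : ↥(twistedG2 K (3 ^ m)) // InTor K m Q g} = c at hsum ⊢
  have e1 : ((q - 1 : ℕ) : ℤ) = (q : ℤ) - 1 := by rw [Nat.cast_sub (by omega)]; simp
  have e2 : ((q ^ 2 - 1 : ℕ) : ℤ) = (q : ℤ) ^ 2 - 1 := by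
    rw [Nat.cast_sub (Nat.one_le_pow _ _ (by omega))]; simp
  have e3 : (Q : ℤ) = (q : ℤ) ^ 2 - q + 1 := by
    rw [hQdef, Nat.cast_add, Nat.cast_sub (Nat.le_self_pow (by norm_num) q)]; simp
  have e5 : ((q + 1 - 4 : ℕ) : ℤ) = (q : ℤ) - 3 := by rw [Nat.cast_sub (by omega)]; push_cast; ring
  have e6 : ((q - 1 - 2 : ℕ) : ℤ) = (q : ℤ) - 3 := by
    rw [show q - 1 - 2 = q - 3 by omega, Nat.cast_sub (by omega)]; simp
  zify at hA hB hsum
  rw [e1, e2, e3, e6] at hA
  rw [e2, e3, e5] at hB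
  rw [e1, e2, e3] at hsum
  have ha : 2 * (a : ℤ) = ((q : ℤ) - 3) * q ^ 3 * (q + 1) * ((q : ℤ) ^ 2 - q + 1) := by
    refine mul_right_cancel₀ (show ((q : ℤ) - 1) ≠ 0 by omega) ?_
    linear_combination hA
  have hb : 6 * (b : ℤ) = ((q : ℤ) - 3) * q ^ 3 * (q - 1) * ((q : ℤ) ^ 2 - q + 1) := by
    refine mul_right_cancel₀ (show ((q : ℤ) + 1) ≠ 0 by omega) ?_
    linear_combination hB
  linear_combination (-6) * hsum - 3 * ha - hb

/-- one hexagonal torus with its normaliser and count -/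
theorem hex_one (hm : 1 ≤ m) {p : ℕ} (hp : p.Prime) (hp3 : 3 < p)
    (hpQ : p ∣ Fintype.card K ^ 2 - Fintype.card K + 1) :
    ∃ (t n : ℕ) (D : TorData K m t), IsCyclic D.T ∧ p ∣ t ∧ t ∣ Fintype.card K ^ 2 - Fintype.card K + 1 ∧
      (∀ l k : ℕ, l.Prime → l ∣ t → l ^ k ∣ Fintype.card K ^ 2 - Fintype.card K + 1 → l ^ k ∣ t) ∧
      n ∣ 6 ∧ Nat.card (Subgroup.normalizer (D.T : Set ↥(twistedG2 K (3 ^ m)))) = n * t ∧
      Nat.card {g : ↥(twistedG2 K (3 ^ m)) // InTor K m t g} * (n * t) = (t - 1) * Nat.card ↥(twistedG2 K (3 ^ m)) := by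
  classical
  haveI := Fact.mk hp
  obtain ⟨h27, h8, h3⟩ := q_facts hK hm
  obtain ⟨hsq, hQ⟩ := q_sq hK hm
  set Q := Fintype.card K ^ 2 - Fintype.card K + 1
  obtain ⟨x, hx⟩ := exists_prime_orderOf_dvd_card' (G := ↥(twistedG2 K (3 ^ m))) p (by
    rw [card_eq' hK]; exact (hpQ.mul_left _).mul_left _)
  obtain ⟨hcomm, hcyc, hpr, hcent⟩ := hex_torus hK hm hp3 hpQ hx
  set T := Subgroup.centralizer ({x} : Set ↥(twistedG2 K (3 ^ m))) with hTdef
  have hxT : x ∈ T := Subgroup.mem_centralizer_singleton_iff.2 rfl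
  let D : TorData K m (Nat.card T) :=
    ⟨T, hcomm, rfl, fun z hz h2 => hcent z hz fun e => h2 (by rw [e, orderOf_one]; norm_num)⟩
  have htQ : Nat.card T ∣ Q := by
    have hG : Nat.card T ∣ Fintype.card K * (Fintype.card K ^ 2 - 1) * (Fintype.card K ^ 2 * Q) :=
      card_eq' hK ▸ Subgroup.card_subgroup_dvd_card T
    rw [← mul_assoc] at hG
    refine Nat.Coprime.dvd_of_dvd_mul_left (Nat.coprime_of_dvd fun l hl h1 h2 => ?_) hG
    obtain ⟨hl3, hlQ⟩ := hpr l hl h1
    have hq : ¬ l ∣ Fintype.card K := fun h => by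
      rw [hK] at h
      have := (Nat.prime_dvd_prime_iff_eq hl Nat.prime_three).1 (hl.dvd_of_dvd_pow h)
      omega
    rw [hsq] at h2
    simp only [hl.dvd_mul] at h2
    rcases h2 with (h | h | h) | h
    · exact hq h
    · exact (prime_excl hK hm hl hl3).2.2 ⟨h, hlQ⟩
    · exact (prime_excl hK hm hl hl3).2.1 ⟨h, hlQ⟩
    · exact hq (hl.dvd_of_dvd_pow h)
  have hfull : ∀ l k : ℕ, l.Prime → l ∣ Nat.card T → l ^ k ∣ Q → l ^ k ∣ Nat.card T := by
    intro l k hl hlT hlk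
    haveI := Fact.mk hl
    obtain ⟨⟨z, hzT⟩, hz⟩ := exists_prime_orderOf_dvd_card' (G := T) l hlT
    rw [← Subgroup.orderOf_coe] at hz
    change orderOf z = l at hz
    obtain ⟨P, hP⟩ := IsPGroup.exists_le_sylow (p := l) (P := Subgroup.zpowers z)
      (IsPGroup.of_card (n := 1) (by rw [Nat.card_zpowers, pow_one, hz]))
    haveI := sylow_cyclic hK hm (hpr l hl hlT).1 P
    have hPT : (P : Subgroup ↥(twistedG2 K (3 ^ m))) ≤ T := by
      rw [← hcent z hzT (fun e => hl.one_lt.ne' (by rw [← hz, e, orderOf_one]))]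
      intro w hw
      rw [Subgroup.mem_centralizer_singleton_iff]
      exact congrArg Subtype.val ((IsCyclic.commGroup (α := (P : Subgroup ↥(twistedG2 K (3 ^ m))))).mul_comm
        ⟨w, hw⟩ ⟨z, hP (Subgroup.mem_zpowers z)⟩)
    refine dvd_trans ?_ (Subgroup.card_dvd_of_le hPT)
    rw [P.card_eq_multiplicity]
    refine pow_dvd_pow l ((hl.pow_dvd_iff_le_factorization Nat.card_pos.ne').1 ?_)
    rw [card_eq' hK]
    exact (hlk.mul_left _).mul_left _
  -- the normaliser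
  obtain ⟨f, hf, hp1⟩ := hex_data hK hm hp3 hpQ
  have hpq : ¬ p ∣ Fintype.card K := fun h => by
    rw [hK] at h
    have := (Nat.prime_dvd_prime_iff_eq hp Nat.prime_three).1 (hp.dvd_of_dvd_pow h)
    omega
  set N := Subgroup.normalizer (T : Set ↥(twistedG2 K (3 ^ m))) with hNdef
  haveI := hcyc
  have hxy : ∀ n ∈ N, n * x * n⁻¹ ∈ Subgroup.zpowers x := by
    intro n hn
    have hmem := (Subgroup.mem_normalizer_iff.1 hn x).1 hxT
    have h := cyc_eq (A := T) (H := Subgroup.zpowers ⟨_, hmem⟩) (K := Subgroup.zpowers ⟨x, hxT⟩) (by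
      rw [Nat.card_zpowers, Nat.card_zpowers]
      refine (orderOf_injective T.subtype T.subtype_injective _).symm.trans
        (Eq.trans ?_ (orderOf_injective T.subtype T.subtype_injective _))
      exact orderOf_injective (MulAut.conj n).toMonoidHom (MulAut.conj n).injective x)
    obtain ⟨i, hi⟩ := Subgroup.mem_zpowers_iff.1 (h.le (Subgroup.mem_zpowers _))
    exact Subgroup.mem_zpowers_iff.2 ⟨i, by simpa using congrArg Subtype.val hi⟩
  set Z := Subgroup.zpowers x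
  have hNZ : ∀ n ∈ N, n ∈ Subgroup.normalizer (Z : Set ↥(twistedG2 K (3 ^ m))) := by
    intro n hn
    rw [Subgroup.mem_normalizer_iff]
    intro z
    constructor
    · intro hz
      obtain ⟨i, rfl⟩ := Subgroup.mem_zpowers_iff.1 hz
      rw [← conj_zpow]; exact zpow_mem (hxy n hn) i
    · intro hz
      obtain ⟨i, hi⟩ := Subgroup.mem_zpowers_iff.1 hz
      have h' := zpow_mem (hxy n⁻¹ (inv_mem hn)) i
      rw [conj_zpow, hi, inv_inv, show n⁻¹ * (n * z * n⁻¹) * n = z by group] at h'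
      exact h'
  let φ : N →* MulAut Z := Z.normalizerMonoidHom.comp (Subgroup.inclusion hNZ)
  have hker : φ.ker = T.subgroupOf N := by
    ext n
    rw [MonoidHom.mem_ker, Subgroup.mem_subgroupOf]
    constructor
    · intro h
      have h1 : (n : ↥(twistedG2 K (3 ^ m))) * x * (n : ↥(twistedG2 K (3 ^ m)))⁻¹ = x :=
        congrArg Subtype.val (MulEquiv.ext_iff.1 h ⟨x, Subgroup.mem_zpowers x⟩)
      exact Subgroup.mem_centralizer_singleton_iff.2 (mul_inv_eq_iff_eq_mul.1 h1)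
    · intro h
      refine MulEquiv.ext fun ⟨z, hz⟩ => Subtype.ext ?_
      show (n : ↥(twistedG2 K (3 ^ m))) * z * (n : ↥(twistedG2 K (3 ^ m)))⁻¹ = z
      obtain ⟨i, rfl⟩ := Subgroup.mem_zpowers_iff.1 hz
      rw [← conj_zpow, mul_inv_eq_iff_eq_mul.2 (Subgroup.mem_centralizer_singleton_iff.1 h)]
  have hn6 : Nat.card φ.range ∣ 6 := by
    haveI : IsCyclic Z := Subgroup.isCyclic_zpowers x
    let e := IsCyclic.mulAutMulEquiv Z
    haveI : Fact (Nat.card Z).Prime := ⟨by rw [Nat.card_zpowers, hx]; exact hp⟩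
    haveI : IsCyclic (MulAut Z) := isCyclic_of_surjective e.symm.toMonoidHom e.symm.surjective
    haveI : IsCyclic φ.range := isCyclic_of_injective φ.range.subtype φ.range.subtype_injective
    obtain ⟨γ, hγ⟩ := IsCyclic.exists_ofOrder_eq_natCard (α := φ.range)
    rw [← hγ]
    refine orderOf_dvd_of_pow_eq_one ?_
    obtain ⟨⟨n, hn⟩, hn'⟩ := γ.2
    refine Subtype.ext ?_
    rw [Subgroup.coe_pow, ← hn', ← map_pow, Subgroup.coe_one]
    refine (MonoidHom.mem_ker).1 ?_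
    rw [hker, Subgroup.mem_subgroupOf, Subgroup.coe_pow]
    obtain ⟨k, hk⟩ := mem_powers_iff_mem_zpowers.2 (hxy n hn)
    simp only at hk
    obtain ⟨i, hi⟩ := gl_seven_power hp1 hpq (y := f x) (g := f n) (k := k)
      (by rw [orderOf_injective f hf, hx]) (by rw [← map_inv, ← map_mul, ← map_mul, ← map_pow, hk])
    have hxk : n * x * n⁻¹ = x ^ Fintype.card K ^ i := by
      refine hf ?_
      rw [← hk, map_pow, hi, map_pow]
    have hpw : ∀ j : ℕ, n ^ j * x * (n ^ j)⁻¹ = x ^ (Fintype.card K ^ i) ^ j := by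
      intro j
      induction j with
      | zero => simp
      | succ j ih =>
        rw [pow_succ' n, show n * n ^ j * x * (n * n ^ j)⁻¹ = n * (n ^ j * x * (n ^ j)⁻¹) * n⁻¹ by group, ih,
          ← conj_pow, hxk, ← pow_mul, pow_succ']
    have h6 : x ^ (Fintype.card K ^ i) ^ 6 = x := by
      have hq6 : p ∣ Fintype.card K ^ 6 - 1 := by
        have h := hpQ.mul_left ((Fintype.card K + 1) * (Fintype.card K ^ 3 - 1))
        have e : (Fintype.card K + 1) * (Fintype.card K ^ 3 - 1) * Q = Fintype.card K ^ 6 - 1 := by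
          have h1 : (Fintype.card K + 1) * Q = Fintype.card K ^ 3 + 1 := by
            rw [hQ]
            obtain ⟨j, hj⟩ : ∃ j, Fintype.card K = j + 1 := ⟨Fintype.card K - 1, by omega⟩
            rw [hj, Nat.add_sub_cancel]; ring
          rw [mul_right_comm, h1, show Fintype.card K ^ 6 = (Fintype.card K ^ 3) ^ 2 by ring]
          simpa using (Nat.sq_sub_sq (Fintype.card K ^ 3) 1).symm
        rwa [e] at h
      have : p ∣ (Fintype.card K ^ i) ^ 6 - 1 := by
        rw [← pow_mul, mul_comm, pow_mul]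
        exact hq6.trans (by simpa using Nat.sub_one_dvd_pow_sub_one (Fintype.card K ^ 6) i)
      obtain ⟨j, hj⟩ := this
      have hpos : 1 ≤ (Fintype.card K ^ i) ^ 6 := Nat.one_le_pow _ _ (pow_pos (by omega) i)
      rw [show (Fintype.card K ^ i) ^ 6 = p * j + 1 by omega, pow_succ, pow_mul, ← hx, pow_orderOf_eq_one, one_pow,
        one_mul]
    rw [Subgroup.mem_centralizer_singleton_iff, ← mul_inv_eq_iff_eq_mul, hpw, h6]
  have hNc : Nat.card N = Nat.card φ.range * Nat.card T := by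
    rw [← Subgroup.card_mul_index φ.ker, Subgroup.index_ker, hker,
      Nat.card_congr (Subgroup.subgroupOfEquivOfLe (Subgroup.le_normalizer (H := T))).toEquiv, mul_comm]
  refine ⟨Nat.card T, Nat.card φ.range, D, hcyc, hx ▸ Subgroup.orderOf_dvd_natCard T hxT, htQ, hfull, hn6, hNc, ?_⟩
  have h := count_tor hK hm D (fun z hz h2 => by
    have hd := Subgroup.orderOf_dvd_natCard T hz
    obtain ⟨r, hr, hrd⟩ := Nat.exists_prime_and_dvd (fun e => h2 (by rw [e]; norm_num) : orderOf z ≠ 1)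
    exact ⟨r, hr, (hpr r hr (hrd.trans hd)).1, hrd, hrd.trans hd⟩)
  rw [show Nat.card {z : D.T // z * z = 1} = 1 by
    refine Nat.card_eq_one_iff_unique.2 ⟨⟨fun a b => ?_⟩, ⟨⟨1, one_mul 1⟩⟩⟩
    have key : ∀ a : {z : D.T // z * z = 1}, a.1 = 1 := fun a => by
      have h1 : orderOf a.1 ∣ 2 := orderOf_dvd_of_pow_eq_one (by rw [pow_two]; exact a.2)
      have h2 : orderOf a.1 ∣ Nat.card T := orderOf_dvd_natCard a.1
      refine orderOf_eq_one_iff.1 (Nat.eq_one_of_dvd_coprimes ?_ h1 h2)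
      exact Nat.prime_two.coprime_iff_not_dvd.2 fun h => by have := (hpr 2 Nat.prime_two h).1; omega
    exact Subtype.ext ((key a).trans (key b).symm), hNc] at h
  exact h

set_option maxHeartbeats 1600000 in
/-- the two classes of hexagonal tori -/
theorem hex_tori (hm : 1 ≤ m) : ∀ t, (t = Fintype.card K - 3 ^ (m + 1) + 1 ∨ t = Fintype.card K + 3 ^ (m + 1) + 1) →
    1 < t ∧ t ∣ Fintype.card K ^ 2 - Fintype.card K + 1 ∧ ∃ D : TorData K m t, IsCyclic D.T ∧
      Nat.card (Subgroup.normalizer (D.T : Set ↥(twistedG2 K (3 ^ m)))) = 6 * t := by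
  classical
  obtain ⟨h27, h8, h3⟩ := q_facts hK hm
  obtain ⟨hsq, hQ⟩ := q_sq hK hm
  have htotal := hex_total hK hm
  set q := Fintype.card K with hq
  set Q := q ^ 2 - q + 1 with hQdef
  have hQ26 : 26 * q < Q := by
    rw [hQ]
    have : 26 * q ≤ q * (q - 1) := by
      rw [mul_comm 26]; exact Nat.mul_le_mul_left q (by omega)
    omega
  have hQpr : ∀ p, p.Prime → p ∣ Q → 3 < p := by
    intro p hp hpd
    rw [hQ] at hpd
    have h2 : (q * (q - 1) + 1) % 2 = 1 := by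
      rw [Nat.add_mod, Nat.mul_mod, show q % 2 = 1 by omega, show (q - 1) % 2 = 0 by omega]
    have h3' : (q * (q - 1) + 1) % 3 = 1 := by rw [Nat.add_mod, Nat.mul_mod, h3]; simp
    have := hp.two_le
    by_contra hle
    interval_cases p <;> omega
  -- seven is at most any prime divisor
  have hseven : ∀ p, p.Prime → p ∣ Q → 7 ≤ p := by
    intro p hp hpd
    have h3p := hQpr p hp hpd
    by_contra hlt
    have h5 : p = 5 := by interval_cases p <;> norm_num at *
    subst h5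
    rw [hQ] at hpd
    have : ∀ a, a < 5 → (a * ((a + 4) % 5) + 1) % 5 ≠ 0 := by decide
    refine this (q % 5) (Nat.mod_lt _ (by norm_num)) ?_
    have e : (q - 1) % 5 = (q % 5 + 4) % 5 := by omega
    rw [Nat.dvd_iff_mod_eq_zero, Nat.add_mod, Nat.mul_mod, e] at hpd
    simpa [Nat.add_mod] using hpd
  set G' : ℤ := (q : ℤ) ^ 3 * ((q : ℤ) ^ 2 - 1) with hG'
  have hG'0 : (0 : ℤ) < G' := by
    have : (27 : ℤ) ≤ q := by exact_mod_cast h27
    rw [hG']; exact mul_pos (by positivity) (by nlinarith)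
  have eQ : (Q : ℤ) = (q : ℤ) ^ 2 - q + 1 := by
    rw [hQdef, Nat.cast_add, Nat.cast_sub (Nat.le_self_pow (by norm_num) q)]; simp
  -- one class
  have one : ∀ p, p.Prime → p ∣ Q → ∃ (t n u : ℕ) (D : TorData K m t), IsCyclic D.T ∧ p ∣ t ∧ t * u = Q ∧
      (∀ l k : ℕ, l.Prime → l ∣ t → l ^ k ∣ Q → l ^ k ∣ t) ∧ n ∣ 6 ∧
      Nat.card (Subgroup.normalizer (D.T : Set ↥(twistedG2 K (3 ^ m)))) = n * t ∧
      6 * (Nat.card {g : ↥(twistedG2 K (3 ^ m)) // InTor K m t g} : ℤ) = ((6 / n : ℕ) : ℤ) * ((Q : ℤ) - u) * G' := by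
    intro p hp hpd
    obtain ⟨t, n, D, hc, hpt, ⟨u, hu⟩, hfull, hn, hN, hcount⟩ := hex_one hK hm hp (hQpr p hp hpd) hpd
    refine ⟨t, n, u, D, hc, hpt, hu.symm, hfull, hn, hN, ?_⟩
    rw [card_eq' hK, ← hq, ← hQdef] at hcount
    obtain ⟨k, hk⟩ := hn
    have hn0 : n ≠ 0 := by rintro rfl; simp at hk
    rw [show 6 / n = k by rw [hk]; exact Nat.mul_div_cancel_left k (Nat.pos_of_ne_zero hn0)]
    have ht : 1 ≤ t := D.card ▸ Nat.card_pos
    zify [ht, Nat.one_le_pow 2 q (by omega)] at hcount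
    have hu' : (Q : ℤ) = t * u := by exact_mod_cast hu
    have hk' : (6 : ℤ) = n * k := by exact_mod_cast hk
    refine mul_right_cancel₀ (show ((n : ℤ) * t) ≠ 0 by
      have : (0 : ℤ) < n := by exact_mod_cast Nat.pos_of_ne_zero hn0
      have : (0 : ℤ) < t := by exact_mod_cast ht
      positivity) ?_
    rw [hG', hu']
    linear_combination 6 * hcount + ((t - 1) * (q ^ 3 * ((q : ℤ) ^ 2 - 1)) * Q) * hk' +
      ((n : ℤ) * k * ((t : ℤ) - 1) * (q ^ 3 * ((q : ℤ) ^ 2 - 1))) * hu'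
  have hdis : ∀ {t t' : ℕ} (D : TorData K m t) (D' : TorData K m t') (r : ℕ), r.Prime → r ∣ t → r ∣ t' → r ∣ Q →
      t = t' := by
    intro t t' D D' r hr h h' hrQ
    haveI := Fact.mk hr
    obtain ⟨⟨y, hyT⟩, hy⟩ := exists_prime_orderOf_dvd_card' (G := D.T) r (by rw [D.card]; exact h)
    rw [← Subgroup.orderOf_coe] at hy
    change orderOf y = r at hy
    have h3r := hQpr r hr hrQ
    obtain ⟨c, hc⟩ := into_tor hK hm D' hr h3r (g := y) (hy ▸ dvd_rfl) h'
    have ho : ∀ z : ↥(twistedG2 K (3 ^ m)), orderOf z = r → ¬ orderOf z ∣ 2 := fun z hz h2 => by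
      rw [hz] at h2
      have := Nat.le_of_dvd (by norm_num) h2
      omega
    have hyo : orderOf (c * y * c⁻¹) = r :=
      (orderOf_injective (MulAut.conj c).toMonoidHom (MulAut.conj c).injective y).trans hy
    have e := D'.cent _ hc (ho _ hyo)
    rw [cent_conj, D.cent y hyT (ho _ hy)] at e
    rw [← D.card, ← D'.card, ← e, Subgroup.card_map_of_injective (MulAut.conj c).injective]
  have hcoprime : ∀ {t t' : ℕ} (D : TorData K m t) (D' : TorData K m t'), t ∣ Q → t ≠ t' → t.Coprime t' :=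
    fun D D' htQ hne => Nat.coprime_of_dvd fun r hr h h' => hne (hdis D D' r hr h h' (h.trans htQ))
  have hsub : ∀ {t : ℕ}, t ∣ Q → ∀ g, InTor K m t g → InTor K m Q g := fun ht g ⟨r, hr, hr3, h1, h2⟩ =>
    ⟨r, hr, hr3, h1, h2.trans ht⟩
  have hexcl : ∀ {t t' : ℕ} (D : TorData K m t), t.Coprime t' → ∀ g, InTor K m t g → ¬ InTor K m t' g :=
    fun D hco g h ⟨r, hr, _, hrg, hrt⟩ => hr.not_dvd_one (hco ▸ Nat.dvd_gcd (hrg.trans (in_tor_dvd hK hm D h)) hrt)
  haveI : Fintype ↥(twistedG2 K (3 ^ m)) := Fintype.ofFinite _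
  let F : ℕ → Finset ↥(twistedG2 K (3 ^ m)) := fun t => Finset.univ.filter (InTor K m t)
  have hF : ∀ t, Nat.card {g : ↥(twistedG2 K (3 ^ m)) // InTor K m t g} = (F t).card := fun t => by
    rw [Nat.card_eq_fintype_card, Fintype.card_subtype]
  -- the first class
  obtain ⟨p, hp, hpQ⟩ := Nat.exists_prime_and_dvd (show Q ≠ 1 by omega)
  obtain ⟨ta, na, ua, Da, hca, hpa, hua, hfa, hna, hNa, hka⟩ := one p hp hpQ
  have hcover1 : ¬ ∀ r, r.Prime → r ∣ Q → r ∣ ta := by
    intro hall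
    have hta : ta = Q := by
      refine Nat.dvd_antisymm ⟨ua, hua.symm⟩ ((Nat.dvd_iff_prime_pow_dvd_dvd _ _).2 fun l k hl hlk => ?_)
      rcases Nat.eq_zero_or_pos k with rfl | hk
      · simp
      · exact hfa l k hl (hall l hl ((dvd_pow_self l hk.ne').trans hlk)) hlk
    subst hta
    have hu1 : ua = 1 := by
      rcases Nat.eq_zero_or_pos ua with h | h
      · rw [h, mul_zero] at hua; omega
      · exact Nat.eq_of_mul_eq_mul_left (show 0 < Q by omega) (hua.trans (mul_one Q).symm)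
    rw [hu1, htotal, eQ, Nat.cast_one] at hka
    have hm6 : (6 / na : ℕ) ≤ 6 := Nat.div_le_self _ _
    have hd := mul_right_cancel₀ hG'0.ne' (show (2 * ((q : ℤ) ^ 2 - q + 1) - 2 * q - 2) * G' =
      (((6 / na : ℕ) : ℤ) * ((q : ℤ) ^ 2 - q + 1 - 1)) * G' by rw [← hka, hG']; ring)
    have h27' : (27 : ℤ) ≤ q := by exact_mod_cast h27
    generalize (6 / na : ℕ) = k at hd hm6
    have hk0 : (k : ℤ) ≤ 1 ∨ (2 : ℤ) ≤ k := by omega
    rcases hk0 with hk0 | hk0 <;> nlinarith [mul_le_mul_of_nonneg_right hk0 (show (0:ℤ) ≤ (q:ℤ) ^ 2 - q by nlinarith)]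
  push Not at hcover1
  obtain ⟨p', hp', hp'Q, hp'a⟩ := hcover1
  obtain ⟨tb, nb, ub, Db, hcb, hpb, hub, hfb, hnb, hNb, hkb⟩ := one p' hp' hp'Q
  have hab : ta ≠ tb := fun e => hp'a (e ▸ hpb)
  have hco : ta.Coprime tb := hcoprime Da Db ⟨ua, hua.symm⟩ hab
  have h7 : ∀ {t u : ℕ} {r : ℕ}, r.Prime → r ∣ t → t * u = Q → 7 * (u : ℤ) ≤ Q := by
    intro t u r hr hrt htu
    have h7' := hseven r hr (hrt.trans ⟨u, htu.symm⟩)
    have ht0 : t ≠ 0 := by rintro rfl; omega
    have : r ≤ t := Nat.le_of_dvd (Nat.pos_of_ne_zero ht0) hrt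
    have : 7 * u ≤ Q := htu ▸ Nat.mul_le_mul_right u (by omega)
    exact_mod_cast this
  have hm1 : ∀ {n : ℕ}, n ∣ 6 → 1 ≤ 6 / n := fun hn =>
    Nat.div_pos (Nat.le_of_dvd (by norm_num) hn) (Nat.pos_of_dvd_of_pos hn (by norm_num))
  have hlow : ∀ {t u n : ℕ} {r : ℕ}, r.Prime → r ∣ t → t * u = Q → n ∣ 6 →
      6 * ((F t).card : ℤ) = ((6 / n : ℕ) : ℤ) * ((Q : ℤ) - u) * G' →
      (6 * (Q : ℤ)) * G' * ((6 / n : ℕ) : ℤ) ≤ 42 * ((F t).card : ℤ) := by
    intro t u n r hr hrt htu hn he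
    have h1 := h7 hr hrt htu
    have h2 : (0 : ℤ) ≤ ((6 / n : ℕ) : ℤ) := Int.natCast_nonneg _
    nlinarith [mul_le_mul_of_nonneg_left h1 (mul_nonneg h2 hG'0.le)]
  rw [hF] at hka hkb htotal
  have hla := hlow hp hpa hua hna hka
  have hlb := hlow hp' hpb hub hnb hkb
  have hcover2 : ∀ r, r.Prime → r ∣ Q → r ∣ ta ∨ r ∣ tb := by
    intro r hr hrQ
    by_contra hno
    push Not at hno
    obtain ⟨tc, nc, uc, Dc, -, hpc, huc, -, hnc, -, hkc⟩ := one r hr hrQ
    rw [hF] at hkc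
    have hlc := hlow hr hpc huc hnc hkc
    have hac := hcoprime Da Dc ⟨ua, hua.symm⟩ fun e => hno.1 (e ▸ hpc)
    have hbc := hcoprime Db Dc ⟨ub, hub.symm⟩ fun e => hno.2 (e ▸ hpc)
    have hle : (F ta).card + (F tb).card + (F tc).card ≤ (F Q).card := by
      rw [← Finset.card_union_of_disjoint (Finset.disjoint_filter.2 fun g _ => hexcl Da hco g),
        ← Finset.card_union_of_disjoint]
      · refine Finset.card_le_card fun g hg => ?_
        simp only [F, Finset.mem_union, Finset.mem_filter, Finset.mem_univ, true_and] at hg ⊢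
        rcases hg with (h | h) | h
        exacts [hsub ⟨ua, hua.symm⟩ g h, hsub ⟨ub, hub.symm⟩ g h, hsub ⟨uc, huc.symm⟩ g h]
      · rw [Finset.disjoint_left]
        intro g hg hg'
        simp only [F, Finset.mem_union, Finset.mem_filter, Finset.mem_univ, true_and] at hg hg'
        rcases hg with h | h
        exacts [hexcl Da hac g h hg', hexcl Db hbc g h hg']
    have hle' : ((F ta).card : ℤ) + (F tb).card + (F tc).card ≤ (F Q).card := by exact_mod_cast hle
    have ha1 : (1 : ℤ) ≤ ((6 / na : ℕ) : ℤ) := by exact_mod_cast hm1 hna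
    have hb1 : (1 : ℤ) ≤ ((6 / nb : ℕ) : ℤ) := by exact_mod_cast hm1 hnb
    have hc1 : (1 : ℤ) ≤ ((6 / nc : ℕ) : ℤ) := by exact_mod_cast hm1 hnc
    have hX : (0 : ℤ) ≤ 6 * (Q : ℤ) * G' := by positivity
    have : 18 * (Q : ℤ) * G' ≤ 7 * (G' * (2 * (Q : ℤ) - 2 * q - 2)) := by
      nlinarith [mul_le_mul_of_nonneg_left ha1 hX, mul_le_mul_of_nonneg_left hb1 hX, mul_le_mul_of_nonneg_left hc1 hX]
    nlinarith
  have hprod : ta * tb = Q := by
    refine Nat.dvd_antisymm (hco.mul_dvd_of_dvd_of_dvd ⟨ua, hua.symm⟩ ⟨ub, hub.symm⟩)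
      ((Nat.dvd_iff_prime_pow_dvd_dvd _ _).2 fun l k hl hlk => ?_)
    rcases Nat.eq_zero_or_pos k with rfl | hk
    · simp
    rcases hcover2 l hl ((dvd_pow_self l hk.ne').trans hlk) with h | h
    · exact (hfa l k hl h hlk).mul_right _
    · exact (hfb l k hl h hlk).mul_left _
  have hFQ : (F Q).card = (F ta).card + (F tb).card := by
    rw [← Finset.card_union_of_disjoint (Finset.disjoint_filter.2 fun g _ => hexcl Da hco g)]
    congr 1
    ext g
    simp only [F, Finset.mem_union, Finset.mem_filter, Finset.mem_univ, true_and]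
    constructor
    · rintro ⟨r, hr, hr3, h1, h2⟩
      rcases hcover2 r hr h2 with h | h
      exacts [Or.inl ⟨r, hr, hr3, h1, h⟩, Or.inr ⟨r, hr, hr3, h1, h⟩]
    · rintro (h | h)
      exacts [hsub ⟨ua, hua.symm⟩ g h, hsub ⟨ub, hub.symm⟩ g h]
  have hta0 : 0 < ta := Da.card ▸ Nat.card_pos
  have htb0 : 0 < tb := Db.card ▸ Nat.card_pos
  obtain rfl : ua = tb := Nat.eq_of_mul_eq_mul_left hta0 (hua.trans hprod.symm)
  obtain rfl : ub = ta := Nat.eq_of_mul_eq_mul_left htb0 (hub.trans (hprod.symm.trans (mul_comm _ _)))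
  rw [hFQ, Nat.cast_add] at htotal
  have heq : ((6 / na : ℕ) : ℤ) * ((Q : ℤ) - ua) + ((6 / nb : ℕ) : ℤ) * ((Q : ℤ) - ub) = 2 * (Q : ℤ) - 2 * q - 2 := by
    refine mul_right_cancel₀ hG'0.ne' ?_
    linear_combination htotal - hka - hkb - (2 * G') * eQ
  have h7a := h7 hp hpa hua
  have h7b := h7 hp' hpb hub
  have hsmall : ∀ {a b x y : ℤ}, 1 ≤ a → 1 ≤ b → a * x + b * y = 2 * (Q : ℤ) - 2 * q - 2 → 6 * (Q : ℤ) ≤ 7 * x →
      6 * (Q : ℤ) ≤ 7 * y → a = 1 := by
    intro a b x y ha hb h hx hy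
    by_contra hne
    have ha2 : 2 ≤ a := by omega
    have hQ0 : (0 : ℤ) ≤ 6 * Q := by positivity
    nlinarith [mul_le_mul_of_nonneg_left hx (show (0 : ℤ) ≤ a by omega),
      mul_le_mul_of_nonneg_left hy (show (0 : ℤ) ≤ b by omega), mul_le_mul_of_nonneg_right ha2 hQ0,
      mul_le_mul_of_nonneg_right hb hQ0]
  have hxa : 6 * (Q : ℤ) ≤ 7 * ((Q : ℤ) - ua) := by linarith
  have hxb : 6 * (Q : ℤ) ≤ 7 * ((Q : ℤ) - ub) := by linarith
  have ha1 : (1 : ℤ) ≤ ((6 / na : ℕ) : ℤ) := by exact_mod_cast hm1 hna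
  have hb1 : (1 : ℤ) ≤ ((6 / nb : ℕ) : ℤ) := by exact_mod_cast hm1 hnb
  have e1 := hsmall ha1 hb1 heq hxa hxb
  have e2 := hsmall hb1 ha1 (by linarith) hxb hxa
  rw [e1, e2] at heq
  have hsix : ∀ {n : ℕ}, n ∣ 6 → ((6 / n : ℕ) : ℤ) = 1 → n = 6 := fun {n} hn h => by
    have h' : 6 / n = 1 := by exact_mod_cast h
    have := Nat.div_mul_cancel hn
    rw [h', one_mul] at this
    exact this
  obtain rfl := hsix hna e1
  obtain rfl := hsix hnb e2
  have hsum : (ub : ℤ) + ua = 2 * q + 2 := by linarith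
  set r := 3 ^ (m + 1) with hr
  have hr2 : (r : ℤ) ^ 2 = 3 * q := by rw [hr, hK]; push_cast; ring
  have hprod' : (ub : ℤ) * ua = Q := by exact_mod_cast hprod
  have hroot : ((ub : ℤ) - (q + 1) - r) * ((ub : ℤ) - (q + 1) + r) = 0 := by
    linear_combination (ub : ℤ) * hsum - hprod' - hr2 - eQ
  have hrq : r ≤ q := by rw [hr, hK]; exact Nat.pow_le_pow_right (by norm_num) (by omega)
  have hb0 : 1 < ub := by
    have := hseven p hp hpQ
    have := Nat.le_of_dvd hta0 hpa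
    omega
  have ha0 : 1 < ua := by
    have := hseven p' hp' hp'Q
    have := Nat.le_of_dvd htb0 hpb
    omega
  intro t ht
  have key : t = ub ∨ t = ua := by
    rcases mul_eq_zero.1 hroot with h | h <;> rcases ht with rfl | rfl <;> omega
  rcases key with rfl | rfl
  · exact ⟨hb0, ⟨ua, hua.symm⟩, Da, hca, hNa⟩
  · exact ⟨ha0, ⟨ub, hub.symm⟩, Db, hcb, hNb⟩

end CfsgLib.Chev.Twisted.ReeG2
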