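import Cfsg.Agent.Lib.Chev.Twisted.G2Seven
import Cfsg.Agent.Lib.Chev.Twisted.G2Char
import Mathlib.LinearAlgebra.Matrix.Charpoly.Coeff

/-! Numbers of elements of given order in the small Ree groups. -/

set_option autoImplicit false

open Cfsg Cfsg.Lie
open CfsgLib.Chev CfsgLib.Chev.Checks CfsgLib.Chev.Basic

namespace CfsgLib.Chev.Twisted.ReeG2

/-- counting the conjugates of a set whose elements determine a subgroup containing their
conjugating elements -/
theorem ti_count {G : Type*} [Group G] [Finite G] (N : Subgroup G) (S : Set G)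
    (h1 : ∀ n ∈ N, ∀ x ∈ S, n * x * n⁻¹ ∈ S) (h2 : ∀ x ∈ S, ∀ g : G, g * x * g⁻¹ ∈ S → g ∈ N) :
    Nat.card {y : G // ∃ g, ∃ x ∈ S, g * x * g⁻¹ = y} * Nat.card N = Nat.card S * Nat.card G := by
  classical
  haveI := Fintype.ofFinite G
  set Y := {y : G // ∃ g, ∃ x ∈ S, g * x * g⁻¹ = y}
  let Φ : G × S → Y := fun p => ⟨p.1 * p.2 * p.1⁻¹, p.1, p.2, p.2.2, rfl⟩
  have hfib : ∀ y : Y, Nat.card {p // Φ p = y} = Nat.card N := by
    rintro ⟨_, g, x, hx, rfl⟩
    refine (Nat.card_congr (Equiv.ofBijective (fun n : N => (⟨(g * n,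
      ⟨(n : G)⁻¹ * x * n, by simpa using h1 _ (inv_mem n.2) x hx⟩), Subtype.ext (by simp [Φ, mul_assoc])⟩ :
      {p // Φ p = _})) ⟨fun a b h => ?_, fun p => ?_⟩)).symm
    · have := congrArg (fun p => p.1.1) h
      exact Subtype.ext (mul_left_cancel this)
    · obtain ⟨⟨c, z, hz⟩, hp⟩ := p
      have e : c * z * c⁻¹ = g * x * g⁻¹ := congrArg Subtype.val hp
      have e2 : z = (g⁻¹ * c)⁻¹ * x * (g⁻¹ * c) := by
        calc z = c⁻¹ * (c * z * c⁻¹) * c := by group
          _ = c⁻¹ * (g * x * g⁻¹) * c := by rw [e]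
          _ = _ := by group
      have hn : g⁻¹ * c ∈ N := by
        have := h2 x hx (g⁻¹ * c)⁻¹ (by rw [inv_inv]; exact e2 ▸ hz)
        simpa using inv_mem this
      refine ⟨⟨_, hn⟩, Subtype.ext (Prod.ext ?_ (Subtype.ext e2.symm))⟩
      show g * (g⁻¹ * c) = c
      group
  rw [mul_comm (Nat.card S), ← Nat.card_prod G S, ← Nat.card_congr (Equiv.sigmaFiberEquiv Φ), Nat.card_sigma,
    Finset.sum_congr rfl (fun y _ => hfib y), Finset.sum_const, smul_eq_mul, Finset.card_univ,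
    ← Nat.card_eq_fintype_card]

set_option maxRecDepth 4000 in
/-- unipotent elements of `GL₇` in characteristic three have exponent nine -/
theorem gl_seven_nine {F : Type*} [Field F] [CharP F 3] (x : GL (Fin 7) F) {k : ℕ} (hx : x ^ 3 ^ k = 1) :
    x ^ 9 = 1 := by
  haveI := Fact.mk Nat.prime_three
  set M : Matrix (Fin 7) (Fin 7) F := (x : Matrix (Fin 7) (Fin 7) F)
  have hM : M ^ 3 ^ k = 1 := by rw [← Units.val_pow_eq_pow_val, hx, Units.val_one]
  set N := M - 1
  have hnil : IsNilpotent N := ⟨3 ^ k, by rw [sub_pow_char_pow_of_commute 3 k (Commute.one_right M), hM, one_pow, sub_self]⟩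
  have hc : N.charpoly = Polynomial.X ^ 7 := by
    have h := (Matrix.isNilpotent_charpoly_sub_pow_of_isNilpotent hnil).eq_zero
    rw [Fintype.card_fin, sub_eq_zero] at h
    exact h
  have h7 := Matrix.aeval_self_charpoly N
  rw [hc, map_pow, Polynomial.aeval_X] at h7
  have h9 : M ^ 3 ^ 2 - 1 ^ 3 ^ 2 = 0 := by
    rw [← sub_pow_char_pow_of_commute 3 2 (Commute.one_right M)]
    exact pow_eq_zero_of_le (by norm_num) h7
  rw [one_pow, sub_eq_zero] at h9
  exact Units.ext (by rw [Units.val_pow_eq_pow_val, Units.val_one]; exact h9)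

/-- the Borel subgroup -/
def Bor (K : Type*) [Field K] (m : ℕ) : Subgroup ↥(twistedG2 K (3 ^ m)) :=
  (chevG2.borelSubgroup K).subgroupOf (twistedG2 K (3 ^ m))

/-- the unipotent radical -/
def Uni (K : Type*) [Field K] (m : ℕ) : Subgroup ↥(twistedG2 K (3 ^ m)) :=
  (chevG2.posUnipotent K).subgroupOf (twistedG2 K (3 ^ m))

variable {K : Type*} [Field K] [Fintype K] {m : ℕ} (hK : Fintype.card K = 3 ^ (2 * m + 1))

include hK

/-- an element of the Borel subgroup in coordinates -/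
noncomputable def bor (x : K × K × K × Kˣ) : ↥(twistedG2 K (3 ^ m)) :=
  ⟨W hK Ps x.1 x.2.1 x.2.2.1 * parHom hK x.2.2.2, mul_mem (W_mem hK (Or.inl rfl) _ _ _) (parHom_mem hK _)⟩

theorem bor_inj : Function.Injective (bor hK) := by
  rintro ⟨t, u, v, c⟩ ⟨t', u', v', c'⟩ h
  have h' := congrArg Subtype.val h
  have h7 := Subgroup.mul_injective_of_disjoint
    (disjoint_iff.2 (BH.pos_inf_diagonal (D := chevG2) (F := K) mem_data))
    (a₁ := (⟨_, W_pos hK t u v⟩, ⟨parHom hK c, (Torus.range_torusHom mem_data).le ⟨_, rfl⟩⟩))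
    (a₂ := (⟨_, W_pos hK t' u' v'⟩, ⟨parHom hK c', (Torus.range_torusHom mem_data).le ⟨_, rfl⟩⟩)) h'
  obtain ⟨rfl, rfl, rfl⟩ := W_inj hK (congrArg (fun x => (x.1 : GL chevG2.Idx K)) h7)
  rw [parHom_inj hK (congrArg (fun x => (x.2 : GL chevG2.Idx K)) h7)]

theorem mem_bor {g : ↥(twistedG2 K (3 ^ m))} : g ∈ (Bor K m) ↔ ∃ x, bor hK x = g := by
  constructor
  · intro hg
    obtain ⟨v, hv, hvf, k, hk, hkf, e⟩ := (tw hK).borel_form (Subgroup.mem_subgroupOf.1 hg) (le_fix hK g.2)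
    obtain ⟨c, rfl⟩ := fixed_torus hK hk hkf
    rw [← eq_fix hK] at hvf
    obtain ⟨t, u, w, rfl⟩ := (mem_unip_iff hK v).1 ⟨hv, hvf⟩
    exact ⟨(t, u, w, c), Subtype.ext e.symm⟩
  · rintro ⟨x, rfl⟩
    exact Subgroup.mem_subgroupOf.2
      (mul_mem (Subgroup.mem_sup_left (W_pos hK _ _ _))
        (Subgroup.mem_sup_right ((Torus.range_torusHom mem_data).le ⟨_, rfl⟩)))

theorem card_bor : Nat.card ((Bor K m)) = Fintype.card K ^ 3 * (Fintype.card K - 1) := by
  rw [← Nat.card_congr (Equiv.ofBijective (fun x => (⟨bor hK x, (mem_bor hK).2 ⟨x, rfl⟩⟩ : (Bor K m)))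
    ⟨fun a b h => bor_inj hK (congrArg Subtype.val h), fun g => by
      obtain ⟨x, hx⟩ := (mem_bor hK).1 g.2
      exact ⟨x, Subtype.ext hx⟩⟩)]
  simp only [Nat.card_prod, Nat.card_units, Nat.card_eq_fintype_card]
  ring

theorem uni_le : (Uni K m) ≤ (Bor K m) := fun _ hg =>
  Subgroup.mem_subgroupOf.2 (Subgroup.mem_sup_left (Subgroup.mem_subgroupOf.1 hg))

theorem uni_norm {b u : ↥(twistedG2 K (3 ^ m))} (hb : b ∈ (Bor K m)) (hu : u ∈ (Uni K m)) : b * u * b⁻¹ ∈ (Uni K m) :=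
  Subgroup.mem_subgroupOf.2 (borel_norm_pos (Subgroup.mem_subgroupOf.1 hb) (Subgroup.mem_subgroupOf.1 hu))

theorem uni_ti {g u : ↥(twistedG2 K (3 ^ m))} (hu : u ∈ (Uni K m)) (hu1 : u ≠ 1) (h : g * u * g⁻¹ ∈ (Uni K m)) :
    g ∈ (Bor K m) := by
  by_contra hg
  exact hu1 (Subtype.ext (ti hK (le_fix hK g.2) (fun h' => hg (Subgroup.mem_subgroupOf.2 h'))
    (Subgroup.mem_subgroupOf.1 hu) h))

theorem card_uni : Nat.card ((Uni K m)) = Fintype.card K ^ 3 := by
  rw [Uni, ← Subgroup.inf_subgroupOf_right, Nat.card_congr (Subgroup.subgroupOfEquivOfLe inf_le_right).toEquiv,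
    card_unip hK, hK]

theorem uni_nine (hm : 1 ≤ m) {u : ↥(twistedG2 K (3 ^ m))} (hu : u ∈ (Uni K m)) : u ^ 9 = 1 := by
  haveI := char_three hK
  haveI := Fact.mk Nat.prime_three
  obtain ⟨f, hf⟩ := rep_inj hK hm
  have h3 : u ^ (3 : ℕ) ^ (3 * (2 * m + 1)) = 1 := by
    have h := pow_card_eq_one' (x := (⟨u, hu⟩ : (Uni K m)))
    rw [card_uni hK, hK, ← pow_mul, mul_comm (2 * m + 1) 3] at h
    exact congrArg Subtype.val h
  have h9 := gl_seven_nine (f u) (by rw [← map_pow, h3, map_one])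
  rw [← map_pow] at h9
  exact hf (h9.trans (map_one f).symm)

theorem inv_conj_iff (hm : 1 ≤ m) (g : ↥(twistedG2 K (3 ^ m))) :
    orderOf g = 2 ↔ ∃ c, ∃ x ∈ ({inv0 hK} : Set ↥(twistedG2 K (3 ^ m))), c * x * c⁻¹ = g := by
  obtain ⟨ha1, ha2⟩ := inv0_spec hK
  constructor
  · intro hg
    obtain ⟨c, hc⟩ := invol_conj hK hm (v := g) (fun e => by rw [e, orderOf_one] at hg; norm_num at hg)
      (by rw [← pow_two, ← hg, pow_orderOf_eq_one])
    exact ⟨c, _, rfl, hc⟩
  · rintro ⟨c, x, rfl, rfl⟩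
    haveI := Fact.mk Nat.prime_two
    refine orderOf_eq_prime (by rw [conj_pow, pow_two, ha2, mul_one, mul_inv_cancel]) (by simp [conj_eq_one_iff, ha1])

theorem card_cent_inv : Nat.card (Subgroup.centralizer ({inv0 hK} : Set ↥(twistedG2 K (3 ^ m)))) =
    Fintype.card K * (Fintype.card K ^ 2 - 1) := by
  obtain ⟨ha1, ha2⟩ := inv0_spec hK
  obtain ⟨⟨e⟩, -⟩ := involution_centralizer hK (inv0 hK) ((Torus.range_torusHom mem_data).le ⟨_, rfl⟩) ha1 ha2
  rw [Nat.card_congr e.toEquiv, Nat.card_prod, Nat.card_eq_fintype_card (α := Multiplicative (ZMod 2)),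
    show Fintype.card (Multiplicative (ZMod 2)) = 2 from rfl,
    CfsgLib.PSL2Two.two_mul_card_PSL (F := K) (by have := card_mod hK; omega)]

theorem count_two (hm : 1 ≤ m) : Nat.card {g : ↥(twistedG2 K (3 ^ m)) // orderOf g = 2} =
    Fintype.card K ^ 2 * (Fintype.card K ^ 2 - Fintype.card K + 1) := by
  have h := ti_count (Subgroup.centralizer {inv0 hK}) {inv0 hK}
    (fun n hn x hx => by
      rw [Set.mem_singleton_iff.1 hx, Set.mem_singleton_iff, mul_inv_eq_iff_eq_mul]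
      exact Subgroup.mem_centralizer_singleton_iff.1 hn)
    (fun x hx g hg => by
      rw [Set.mem_singleton_iff.1 hx, Set.mem_singleton_iff, mul_inv_eq_iff_eq_mul] at hg
      exact Subgroup.mem_centralizer_singleton_iff.2 hg)
  rw [Nat.card_congr (Equiv.subtypeEquivRight (inv_conj_iff hK hm))]
  have h2 := card_eq' hK
  rw [card_cent_inv, Nat.card_coe_set_eq, Set.ncard_singleton, one_mul, h2, mul_comm] at h
  exact Nat.eq_of_mul_eq_mul_left ((card_cent_inv hK).symm ▸ Nat.card_pos) h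

/-- the elements of `C(a)` in the unipotent radical -/
theorem cent_uni {u : ↥(twistedG2 K (3 ^ m))} (hu : u ∈ (Uni K m)) :
    u ∈ Subgroup.centralizer ({inv0 hK} : Set ↥(twistedG2 K (3 ^ m))) ↔ ∃ b, (u : GL chevG2.Idx K) = W hK Ps 0 b 0 := by
  haveI := char_three hK
  obtain ⟨t, b, v, e⟩ := (mem_unip_iff hK _).1 ⟨Subgroup.mem_subgroupOf.1 hu, u.2⟩
  have hW := W_conj hK (-1) t b v
  have hth : th hK (-1 : K) = -1 := by rw [map_neg, map_one]
  have h0 : ch0 hK ((-1 : Kˣ) : K) = -1 ∧ ch1 hK ((-1 : Kˣ) : K) = 1 := by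
    rw [Units.val_neg, Units.val_one]
    constructor <;> simp [ch0, ch1, hth, Odd.neg_one_pow (show Odd 3 by decide)]
  rw [h0.1, h0.2, Units.val_neg, Units.val_one, neg_one_mul, one_mul, neg_one_mul] at hW
  rw [Subgroup.mem_centralizer_singleton_iff, ← Subtype.coe_inj]
  simp only [Subgroup.coe_mul]
  show (u : GL chevG2.Idx K) * parHom hK (-1) = parHom hK (-1) * (u : GL chevG2.Idx K) ↔ _
  rw [e, eq_comm, ← mul_inv_eq_iff_eq_mul, hW]
  have hz : ∀ x : K, -x = x → x = 0 := fun x hx => by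
    have h3 : ((3 : ℕ) : K) = 0 := CharP.cast_eq_zero K 3
    push_cast at h3
    linear_combination x * h3 + hx
  constructor
  · intro h
    obtain ⟨h1, -, h2⟩ := W_inj hK h
    exact ⟨b, by rw [hz t h1, hz v h2]⟩
  · rintro ⟨b', hb'⟩
    obtain ⟨rfl, rfl, rfl⟩ := W_inj hK hb'
    simp

/-- elements of order divisible by three -/
theorem three_cases (hm : 1 ≤ m) {g : ↥(twistedG2 K (3 ^ m))} (hg : 3 ∣ orderOf g) :
    ∃ c, c * g * c⁻¹ ∈ (Bor K m) ∧ (orderOf g = 3 ∨ orderOf g = 9 ∨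
      (orderOf g = 6 ∧ ∃ c' b, b ≠ 0 ∧ ((c' * g * c'⁻¹ : ↥(twistedG2 K (3 ^ m))) : GL chevG2.Idx K) =
        parHom hK (-1) * W hK Ps 0 b 0)) := by
  classical
  haveI := Fact.mk Nat.prime_three
  obtain ⟨S, hS⟩ := exists_sylow hK
  set y := g ^ (orderOf g / 3) with hy
  have hyo : orderOf y = 3 := orderOf_pow_orderOf_div (orderOf_pos g).ne' hg
  obtain ⟨Q, hQ⟩ := IsPGroup.exists_le_sylow (p := 3) (P := Subgroup.zpowers y)
    (IsPGroup.of_card (n := 1) (by rw [Nat.card_zpowers, pow_one, hyo]))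
  obtain ⟨c, hc⟩ := MulAction.exists_smul_eq ↥(twistedG2 K (3 ^ m)) Q S
  have hcU : c * y * c⁻¹ ∈ (Uni K m) := by
    have h : c * y * c⁻¹ ∈ (S : Subgroup ↥(twistedG2 K (3 ^ m))) := by
      rw [← hc, Sylow.coe_subgroup_smul]
      exact Subgroup.smul_mem_pointwise_smul _ (MulAut.conj c) _ (hQ (Subgroup.mem_zpowers _))
    rw [hS] at h
    exact h
  have hy1 : y ≠ 1 := fun e => by rw [e, orderOf_one] at hyo; norm_num at hyo
  set z := c * g * c⁻¹ with hz
  have hzy : z * (c * y * c⁻¹) * z⁻¹ = c * y * c⁻¹ := by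
    rw [hz, show c * g * c⁻¹ * (c * y * c⁻¹) * (c * g * c⁻¹)⁻¹ = c * (g * y * g⁻¹) * c⁻¹ by group, hy,
      (Commute.self_pow g (orderOf g / 3)).eq, mul_inv_cancel_right]
  have hzB : z ∈ (Bor K m) := uni_ti hK hcU (fun e => hy1 (conj_eq_one_iff.1 e)) (hzy.symm ▸ hcU)
  refine ⟨c, hzB, ?_⟩
  have hzo : orderOf z = orderOf g := orderOf_injective (MulAut.conj c).toMonoidHom (MulAut.conj c).injective g
  -- the part of order prime to three
  obtain ⟨⟨t, u, v, k⟩, hx⟩ := (mem_bor hK).1 hzB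
  have hk : z ^ 9 ∈ Subgroup.centralizer ({c * y * c⁻¹} : Set ↥(twistedG2 K (3 ^ m))) :=
    pow_mem (Subgroup.mem_centralizer_singleton_iff.2 (mul_inv_eq_iff_eq_mul.1 hzy)) 9
  have hzq : (z ^ 9) ^ (Fintype.card K - 1) = 1 := by
    have hpow : ∀ i : ℕ, z ^ i * (⟨parHom hK (k ^ i), parHom_mem hK _⟩ : ↥(twistedG2 K (3 ^ m)))⁻¹ ∈ (Uni K m) := by
      intro i
      induction i with
      | zero => rw [pow_zero, one_mul]; exact inv_mem (Subgroup.mem_subgroupOf.2 (by simp [one_mem]))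
      | succ i ih =>
        have hkB : (⟨parHom hK k, parHom_mem hK _⟩ : ↥(twistedG2 K (3 ^ m))) ∈ (Bor K m) :=
          Subgroup.mem_subgroupOf.2 (Subgroup.mem_sup_right ((Torus.range_torusHom mem_data).le ⟨_, rfl⟩))
        have hW : (⟨W hK Ps t u v, W_mem hK (Or.inl rfl) _ _ _⟩ : ↥(twistedG2 K (3 ^ m))) ∈ (Uni K m) :=
          Subgroup.mem_subgroupOf.2 (W_pos hK _ _ _)
        have e : z ^ (i + 1) * (⟨parHom hK (k ^ (i + 1)), parHom_mem hK _⟩ : ↥(twistedG2 K (3 ^ m)))⁻¹ =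
            ⟨W hK Ps t u v, W_mem hK (Or.inl rfl) _ _ _⟩ * ((⟨parHom hK k, parHom_mem hK _⟩ : ↥(twistedG2 K (3 ^ m))) *
              (z ^ i * (⟨parHom hK (k ^ i), parHom_mem hK _⟩ : ↥(twistedG2 K (3 ^ m)))⁻¹) *
                (⟨parHom hK k, parHom_mem hK _⟩ : ↥(twistedG2 K (3 ^ m)))⁻¹) := by
          rw [pow_succ' z]
          refine Subtype.ext ?_
          simp only [Subgroup.coe_mul, Subgroup.coe_inv, ← hx, bor, pow_succ', map_mul]
          group
        rw [e]
        exact mul_mem hW (uni_norm hK hkB ih)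
    have h := hpow (Fintype.card K - 1)
    rw [show k ^ (Fintype.card K - 1) = 1 by rw [← Fintype.card_units, pow_card_eq_one]] at h
    rw [← pow_mul, mul_comm, pow_mul]
    refine uni_nine hK hm ?_
    convert h using 1
    rw [show (⟨parHom hK 1, parHom_mem hK _⟩ : ↥(twistedG2 K (3 ^ m))) = 1 from Subtype.ext (map_one _), inv_one,
      mul_one]
  set w := z ^ 9
  have hwo : orderOf w ∣ Fintype.card K - 1 := orderOf_dvd_of_pow_eq_one hzq
  have hw2 : w * w = 1 := by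
    by_contra hne
    have hne2 : ¬ orderOf w ∣ 2 := fun h => hne (by
      rw [← pow_two]; exact orderOf_dvd_iff_pow_eq_one.1 h)
    have h4 : Fintype.card K % 4 = 3 := by rw [hK, pow_succ, pow_mul, Nat.mul_mod, Nat.pow_mod]; norm_num
    obtain ⟨r, hr, hrd, hr2⟩ : ∃ r, r.Prime ∧ r ∣ orderOf w ∧ r ≠ 2 := by
      by_contra hall
      push Not at hall
      obtain ⟨j, -, hj⟩ : ∃ j, j ≤ orderOf w ∧ orderOf w = 2 ^ j := by
        refine ⟨(orderOf w).factorization 2, ?_, ?_⟩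
        · exact (Nat.lt_pow_self (by norm_num) |>.le).trans (Nat.le_of_dvd (orderOf_pos w) (Nat.ordProj_dvd _ _))
        · exact Nat.eq_prime_pow_of_unique_prime_dvd (orderOf_pos w).ne' (fun {d} hd hdd => hall d hd hdd) ▸ by
            rw [Nat.eq_prime_pow_of_unique_prime_dvd (orderOf_pos w).ne' (fun {d} hd hdd => hall d hd hdd)]
            simp [Nat.Prime.factorization_pow Nat.prime_two]
      rw [hj] at hne2 hwo
      have h2j : ¬ 4 ∣ 2 ^ j := fun h => by have := h.trans hwo; omega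
      rcases j with - | - | j
      · simp at hne2
      · simp at hne2
      · exact h2j ⟨2 ^ j, by ring⟩
    have hr3 : r ≠ 3 := by
      rintro rfl
      have := hrd.trans hwo
      have h3 : 3 ∣ Fintype.card K := hK ▸ dvd_pow_self 3 (by omega)
      have := Fintype.card_pos (α := K)
      omega
    set w' := w ^ (orderOf w / r)
    have hw'o : orderOf w' = r := orderOf_pow_orderOf_div (orderOf_pos w).ne' hrd
    obtain ⟨-, hcard⟩ := split_cent hK hr hr2 hr3 (hrd.trans hwo) hw'o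
    have hy' : c * y * c⁻¹ ∈ Subgroup.centralizer ({w'} : Set ↥(twistedG2 K (3 ^ m))) := by
      rw [Subgroup.mem_centralizer_singleton_iff]
      exact ((show Commute (c * y * c⁻¹) w from (Subgroup.mem_centralizer_singleton_iff.1 hk).symm).pow_right _).eq
    have h3 := Subgroup.orderOf_dvd_natCard _ hy'
    rw [hcard, show orderOf (c * y * c⁻¹) = 3 from
      (orderOf_injective (MulAut.conj c).toMonoidHom (MulAut.conj c).injective y).trans hyo] at h3
    have h3' : 3 ∣ Fintype.card K := hK ▸ dvd_pow_self 3 (by omega)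
    have := Fintype.card_pos (α := K)
    omega
  have hg18 : orderOf g ∣ 18 := by
    rw [← hzo]
    refine orderOf_dvd_of_pow_eq_one ?_
    rw [show 18 = 9 * 2 from rfl, pow_mul, pow_two, hw2]
  by_cases hw1 : w = 1
  · have h9 : orderOf g ∣ 3 ^ 2 := hzo ▸ orderOf_dvd_of_pow_eq_one hw1
    obtain ⟨i, hi, e⟩ := (Nat.dvd_prime_pow Nat.prime_three).1 h9
    interval_cases i
    · rw [e] at hg; norm_num at hg
    · exact Or.inl e
    · exact Or.inr (Or.inl e)
  -- the commuting involution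
  obtain ⟨d, hd⟩ := invol_conj hK hm hw1 hw2
  set z' := d⁻¹ * z * d
  have hz'a : z' ^ 9 = inv0 hK := by
    have : (MulAut.conj d⁻¹) z ^ 9 = inv0 hK := by
      rw [← map_pow, show z ^ 9 = d * inv0 hK * d⁻¹ from hd.symm]; simp [mul_assoc]
    simpa [z'] using this
  set s := z' ^ 10 with hs
  have hz'o : orderOf z' = orderOf g := by
    rw [← hzo]; simpa [z'] using orderOf_injective (MulAut.conj d⁻¹).toMonoidHom (MulAut.conj d⁻¹).injective z
  have h18 : z' ^ 18 = 1 := orderOf_dvd_iff_pow_eq_one.1 (hz'o ▸ hg18)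
  have hs9 : s ^ 9 = 1 := by rw [hs, ← pow_mul, show 10 * 9 = 18 * 5 from rfl, pow_mul, h18, one_pow]
  have hsa : s ∈ Subgroup.centralizer ({inv0 hK} : Set ↥(twistedG2 K (3 ^ m))) := by
    rw [Subgroup.mem_centralizer_singleton_iff, ← hz'a, ← pow_add, ← pow_add, add_comm]
  have hz's : z' = inv0 hK * s := by
    rw [← hz'a, hs, ← pow_add, show 9 + 10 = 18 + 1 from rfl, pow_add, h18, one_mul, pow_one]
  obtain ⟨ha1, ha2⟩ := inv0_spec hK
  -- move the three part into the unipotent radical inside the centraliser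
  set C := Subgroup.centralizer ({inv0 hK} : Set ↥(twistedG2 K (3 ^ m)))
  set UC := ((Uni K m) ⊓ C).subgroupOf C
  have hUCc : Nat.card UC = Fintype.card K := by
    rw [Nat.card_congr (Subgroup.subgroupOfEquivOfLe (inf_le_right : (Uni K m) ⊓ C ≤ C)).toEquiv]
    rw [← Nat.card_congr (Equiv.ofBijective (fun b => (⟨⟨W hK Ps 0 b 0, W_mem hK (Or.inl rfl) _ _ _⟩,
      Subgroup.mem_subgroupOf.2 (W_pos hK _ _ _),
      (cent_uni hK (Subgroup.mem_subgroupOf.2 (W_pos hK _ _ _))).2 ⟨b, rfl⟩⟩ : ↥((Uni K m) ⊓ C)))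
      ⟨fun a b h => (W_inj hK (congrArg (fun x => x.1.1) h)).2.1, fun x => by
        obtain ⟨b, hb⟩ := (cent_uni hK x.2.1).1 x.2.2
        exact ⟨b, Subtype.ext (Subtype.ext hb.symm)⟩⟩), Nat.card_eq_fintype_card]
  have hUCs : Nat.card UC = 3 ^ (Nat.card C).factorization 3 := by
    rw [hUCc, card_cent_inv, Nat.factorization_mul Fintype.card_ne_zero (by
        have : 3 ≤ Fintype.card K := hK ▸ Nat.le_self_pow (by omega) 3
        have := Nat.pow_le_pow_left this 2
        omega), Finsupp.add_apply, Nat.factorization_eq_zero_of_not_dvd (n := Fintype.card K ^ 2 - 1) (by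
        intro h
        have h3 : 3 ∣ Fintype.card K ^ 2 := dvd_pow (hK ▸ dvd_pow_self 3 (by omega)) (by norm_num)
        have : 1 ≤ Fintype.card K ^ 2 := Nat.one_le_pow _ _ Fintype.card_pos
        omega), add_zero, hK, Nat.Prime.factorization_pow Nat.prime_three, Finsupp.single_eq_same]
  let SC : Sylow 3 C := Sylow.ofCard UC hUCs
  have hspg : IsPGroup 3 (Subgroup.zpowers (⟨s, hsa⟩ : C)) := by
    obtain ⟨i, -, hi⟩ := (Nat.dvd_prime_pow Nat.prime_three).1 (orderOf_dvd_of_pow_eq_one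
      (show (⟨s, hsa⟩ : C) ^ 3 ^ 2 = 1 from Subtype.ext hs9))
    exact IsPGroup.of_card (n := i) (by rw [Nat.card_zpowers, hi])
  obtain ⟨Q', hQ'⟩ := hspg.exists_le_sylow
  obtain ⟨e, he⟩ := MulAction.exists_smul_eq C Q' SC
  have hes : (e : ↥(twistedG2 K (3 ^ m))) * s * (e : ↥(twistedG2 K (3 ^ m)))⁻¹ ∈ (Uni K m) ⊓ C := by
    have h : MulAut.conj e (⟨s, hsa⟩ : C) ∈ (SC : Subgroup C) := by
      rw [← he, Sylow.coe_subgroup_smul]
      exact Subgroup.smul_mem_pointwise_smul _ (MulAut.conj e) _ (hQ' (Subgroup.mem_zpowers _))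
    exact Subgroup.mem_subgroupOf.1 h
  obtain ⟨b, hb⟩ := (cent_uni hK hes.1).1 hes.2
  have heq : (e : ↥(twistedG2 K (3 ^ m))) * d⁻¹ * c * g * ((e : ↥(twistedG2 K (3 ^ m))) * d⁻¹ * c)⁻¹ =
      inv0 hK * ((e : ↥(twistedG2 K (3 ^ m))) * s * (e : ↥(twistedG2 K (3 ^ m)))⁻¹) := by
    calc _ = (e : ↥(twistedG2 K (3 ^ m))) * z' * (e : ↥(twistedG2 K (3 ^ m)))⁻¹ := by simp only [z', hz]; group
      _ = (e : ↥(twistedG2 K (3 ^ m))) * inv0 hK * s * (e : ↥(twistedG2 K (3 ^ m)))⁻¹ := by rw [hz's]; group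
      _ = inv0 hK * (e : ↥(twistedG2 K (3 ^ m))) * s * (e : ↥(twistedG2 K (3 ^ m)))⁻¹ := by
          rw [Subgroup.mem_centralizer_singleton_iff.1 e.2]
      _ = _ := by group
  have hs3 : s ^ 3 = 1 := by
    have h3 : W hK Ps 0 b 0 ^ 3 = 1 := by
      rw [W_eq hK Ps_ok, show A hK Ps (0 : K) = 1 by simp [A, xx, xGL_zero],
        show B2 hK Ps (0 : K) = 1 by simp [B2, xx, xGL_zero], one_mul, mul_one, pow_three, B1_add hK, B1_add hK]
      haveI := char_three hK
      have h3 : ((3 : ℕ) : K) = 0 := CharP.cast_eq_zero K 3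
      push_cast at h3
      rw [show b + (b + b) = 0 by linear_combination b * h3]
      simp [B1, xx, xGL_zero]
    rw [← hb, ← Subgroup.coe_pow, conj_pow, ← Subgroup.coe_one, Subtype.coe_inj] at h3
    exact conj_eq_one_iff.1 h3
  refine Or.inr (Or.inr ⟨?_, _, b, ?_, by rw [heq, Subgroup.coe_mul, hb]; rfl⟩)
  · have h6 : orderOf g ∣ 6 := by
      rw [← hz'o, hz's]
      refine orderOf_dvd_of_pow_eq_one ?_
      rw [(show Commute (inv0 hK) s from (Subgroup.mem_centralizer_singleton_iff.1 hsa).symm).mul_pow,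
        show 6 = 3 * 2 from rfl, pow_mul s, hs3, one_pow, mul_one, mul_comm 3, pow_mul, pow_two, ha2, one_pow]
    have := Nat.le_of_dvd (by norm_num) h6
    interval_cases h : orderOf g <;> try omega
    exfalso
    refine hw1 (orderOf_dvd_iff_pow_eq_one.1 ?_)
    rw [hzo]; norm_num [h]
  · rintro rfl
    have hs1 : s = 1 := by
      have e1 : (e : ↥(twistedG2 K (3 ^ m))) * s * (e : ↥(twistedG2 K (3 ^ m)))⁻¹ = 1 :=
        Subtype.ext (hb.trans (by simp [W, xx, xGL_zero]))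
      exact conj_eq_one_iff.1 e1
    rw [hs1, mul_one] at hz's
    rw [← hz'o, hz's] at hg
    rw [orderOf_eq_prime (p := 2) (by rw [pow_two, ha2]) ha1] at hg
    norm_num at hg

theorem order_of_uni {g : ↥(twistedG2 K (3 ^ m))} (hg : g ∈ (Bor K m)) {k : ℕ} (h : g ^ 3 ^ k = 1) : g ∈ (Uni K m) := by
  haveI := Fact.mk Nat.prime_three
  obtain ⟨S, hS⟩ := exists_sylow hK
  have hn : (((Uni K m)).subgroupOf ((Bor K m))).Normal := ⟨fun u hu b => Subgroup.mem_subgroupOf.2
    (uni_norm hK b.2 (Subgroup.mem_subgroupOf.1 hu))⟩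
  have hq : g ^ (Nat.card ((Bor K m)) / Fintype.card K ^ 3) ∈ (Uni K m) := by
    have hidx : (((Uni K m)).subgroupOf ((Bor K m))).index = Nat.card ((Bor K m)) / Fintype.card K ^ 3 := by
      rw [← card_uni hK, ← Nat.card_congr (Subgroup.subgroupOfEquivOfLe (uni_le hK)).toEquiv,
        ← (((Uni K m)).subgroupOf ((Bor K m))).index_mul_card, Nat.mul_div_cancel _ Nat.card_pos]
    rw [← hidx]
    exact Subgroup.mem_subgroupOf.1 (Subgroup.pow_index_mem (((Uni K m)).subgroupOf ((Bor K m))) (⟨g, hg⟩ : (Bor K m)))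
  rw [card_bor hK, Nat.mul_div_cancel_left _ (pow_pos Fintype.card_pos 3)] at hq
  have hco : (3 ^ k).Coprime (Fintype.card K - 1) := by
    refine Nat.Coprime.pow_left k ((Nat.prime_three.coprime_iff_not_dvd).2 fun h3 => ?_)
    have h3' : 3 ∣ Fintype.card K := hK ▸ dvd_pow_self 3 (by omega)
    have := Fintype.card_pos (α := K)
    omega
  obtain ⟨a, b, hab⟩ : ∃ a b : ℤ, a * (3 ^ k : ℕ) + b * ((Fintype.card K - 1 : ℕ) : ℤ) = 1 := by
    have := Nat.gcd_eq_gcd_ab (3 ^ k) (Fintype.card K - 1)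
    rw [hco.gcd_eq_one] at this
    exact ⟨_, _, by rw [mul_comm, mul_comm (Nat.gcdB _ _)]; exact_mod_cast this.symm⟩
  rw [← zpow_one g, ← hab, zpow_add, mul_comm a, mul_comm b, zpow_mul, zpow_mul, zpow_natCast, zpow_natCast, h,
    one_zpow, one_mul]
  exact zpow_mem hq b

/-- counting elements of the unipotent radical -/
theorem count_uni (hm : 1 ≤ m) (n : ℕ) (hn : n = 3 ∨ n = 9) :
    Nat.card {g : ↥(twistedG2 K (3 ^ m)) // orderOf g = n} * (Fintype.card K ^ 3 * (Fintype.card K - 1)) =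
      Nat.card {u : ↥((Uni K m)) // orderOf u = n} * Nat.card ↥(twistedG2 K (3 ^ m)) := by
  set S : Set ↥(twistedG2 K (3 ^ m)) := {u | u ∈ (Uni K m) ∧ orderOf u = n}
  have h := ti_count ((Bor K m)) S
    (fun b hb u hu => ⟨uni_norm hK hb hu.1,
      (orderOf_injective (MulAut.conj b).toMonoidHom (MulAut.conj b).injective u).trans hu.2⟩)
    (fun u hu g hg => uni_ti hK hu.1 (fun e => by
      have := hu.2; rw [e, orderOf_one] at this; omega) hg.1)
  rw [card_bor hK] at h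
  let e : S ≃ {u : ↥(Uni K m) // orderOf u = n} :=
    { toFun := fun u => ⟨⟨u.1, u.2.1⟩, by rw [← Subgroup.orderOf_coe]; exact u.2.2⟩
      invFun := fun u => ⟨u.1.1, u.1.2, by rw [Subgroup.orderOf_coe]; exact u.2⟩
      left_inv := fun _ => rfl
      right_inv := fun _ => rfl }
  rw [Nat.card_congr e] at h
  rw [← h]
  congr 1
  refine Nat.card_congr (Equiv.subtypeEquivRight fun g => ?_)
  haveI := Fact.mk Nat.prime_three
  obtain ⟨T, hT⟩ := exists_sylow hK
  constructor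
  · intro hg
    obtain ⟨c, hc, -⟩ := three_cases hK hm (g := g) (by rw [hg]; rcases hn with rfl | rfl <;> norm_num)
    have ho : orderOf (c * g * c⁻¹) = n :=
      (orderOf_injective (MulAut.conj c).toMonoidHom (MulAut.conj c).injective g).trans hg
    refine ⟨c⁻¹, c * g * c⁻¹, ⟨order_of_uni hK hc (k := 2) (orderOf_dvd_iff_pow_eq_one.1 ?_), ho⟩, by group⟩
    rw [ho]; rcases hn with rfl | rfl <;> norm_num
  · rintro ⟨c, x, hx, rfl⟩
    exact (orderOf_injective (MulAut.conj c).toMonoidHom (MulAut.conj c).injective x).trans hx.2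

theorem card_uni_three : Nat.card {u : ↥(Uni K m) // orderOf u = 3} = Fintype.card K ^ 2 - 1 := by
  rw [hK, ← card_order_three hK]
  refine Nat.card_congr (Equiv.subtypeEquiv ((MulEquiv.subgroupCongr
    (Subgroup.inf_subgroupOf_right (chevG2.posUnipotent K) (twistedG2 K (3 ^ m))).symm).trans
    (Subgroup.subgroupOfEquivOfLe inf_le_right)).toEquiv fun u => ?_)
  exact Eq.congr_left (MulEquiv.orderOf_eq _ u).symm

theorem card_uni_nine (hm : 1 ≤ m) :
    Nat.card {u : ↥(Uni K m) // orderOf u = 9} = Fintype.card K ^ 3 - Fintype.card K ^ 2 := by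
  classical
  haveI := Fintype.ofFinite ↥(Uni K m)
  have h3 := card_uni_three hK
  have hall : ∀ u : ↥(Uni K m), orderOf u = 1 ∨ orderOf u = 3 ∨ orderOf u = 9 := by
    intro u
    obtain ⟨i, hi, e⟩ := (Nat.dvd_prime_pow Nat.prime_three).1 (orderOf_dvd_of_pow_eq_one
      (show u ^ 3 ^ 2 = 1 from Subtype.ext (uni_nine hK hm u.2)))
    interval_cases i <;> simp [e]
  have hsum : (Finset.univ.filter fun u : ↥(Uni K m) => orderOf u = 9).card +
      ((Finset.univ.filter fun u : ↥(Uni K m) => orderOf u = 3).card +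
        (Finset.univ.filter fun u : ↥(Uni K m) => orderOf u = 1).card) = Fintype.card ↥(Uni K m) := by
    rw [← Finset.card_union_of_disjoint (Finset.disjoint_filter.2 fun u _ h h' => by omega),
      ← Finset.card_union_of_disjoint, ← Finset.card_univ]
    · congr 1
      refine Finset.eq_univ_of_forall fun u => ?_
      rcases hall u with h | h | h <;>
        simp only [Finset.mem_union, Finset.mem_filter, Finset.mem_univ, true_and] <;> omega
    · rw [Finset.disjoint_left]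
      intro u h h'
      simp only [Finset.mem_filter, Finset.mem_univ, true_and, Finset.mem_union] at h h'
      omega
  rw [Nat.card_eq_fintype_card, Fintype.card_subtype] at h3 ⊢
  have h1 : (Finset.univ.filter fun u : ↥(Uni K m) => orderOf u = 1).card = 1 := by
    simp [orderOf_eq_one_iff, Finset.filter_eq']
  rw [h3, h1] at hsum
  have hu := card_uni (K := K) hK
  rw [Nat.card_eq_fintype_card] at hu
  have : 1 ≤ Fintype.card K ^ 2 := Nat.one_le_pow _ _ Fintype.card_pos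
  omega

theorem count_three (hm : 1 ≤ m) : Nat.card {g : ↥(twistedG2 K (3 ^ m)) // orderOf g = 3} =
    (Fintype.card K ^ 2 - 1) * (Fintype.card K ^ 3 + 1) := by
  have h := count_uni hK hm 3 (Or.inl rfl)
  rw [card_uni_three hK, card_group hK, ← hK] at h
  have hq : 3 ≤ Fintype.card K := hK ▸ Nat.le_self_pow (by omega) 3
  refine Nat.eq_of_mul_eq_mul_right (m := Fintype.card K ^ 3 * (Fintype.card K - 1))
    (Nat.mul_pos (pow_pos (by omega) 3) (by omega)) (h.trans ?_)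
  ring

theorem count_nine (hm : 1 ≤ m) : Nat.card {g : ↥(twistedG2 K (3 ^ m)) // orderOf g = 9} =
    Fintype.card K ^ 2 * (Fintype.card K - 1) * (Fintype.card K ^ 3 + 1) := by
  have h := count_uni hK hm 9 (Or.inr rfl)
  rw [card_uni_nine hK hm, card_group hK, ← hK, show Fintype.card K ^ 3 - Fintype.card K ^ 2 =
    Fintype.card K ^ 2 * (Fintype.card K - 1) by rw [Nat.mul_sub, mul_one, ← pow_succ]] at h
  have hq : 3 ≤ Fintype.card K := hK ▸ Nat.le_self_pow (by omega) 3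
  refine Nat.eq_of_mul_eq_mul_right (m := Fintype.card K ^ 3 * (Fintype.card K - 1))
    (Nat.mul_pos (pow_pos (by omega) 3) (by omega)) (h.trans ?_)
  ring

set_option maxHeartbeats 1000000 in
theorem count_six (hm : 1 ≤ m) : Nat.card {g : ↥(twistedG2 K (3 ^ m)) // orderOf g = 6} =
    Fintype.card K ^ 2 * (Fintype.card K - 1) * (Fintype.card K ^ 3 + 1) := by
  classical
  haveI := char_three hK
  obtain ⟨ha1, ha2⟩ := inv0_spec hK
  set C := Subgroup.centralizer ({inv0 hK} : Set ↥(twistedG2 K (3 ^ m)))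
  let w : K → ↥(twistedG2 K (3 ^ m)) := fun b => ⟨W hK Ps 0 b 0, W_mem hK (Or.inl rfl) _ _ _⟩
  have hwU : ∀ b, w b ∈ Uni K m := fun b => Subgroup.mem_subgroupOf.2 (W_pos hK _ _ _)
  have hwC : ∀ b, w b ∈ C := fun b => (cent_uni hK (hwU b)).2 ⟨b, rfl⟩
  have hwh : ∀ (k : Kˣ) b, (⟨parHom hK k, parHom_mem hK _⟩ : ↥(twistedG2 K (3 ^ m))) * w b *
      (⟨parHom hK k, parHom_mem hK _⟩ : ↥(twistedG2 K (3 ^ m)))⁻¹ = w (ch1 hK (k : K) * b) := fun k b =>
    Subtype.ext (by simpa [w] using W_conj hK k 0 b 0)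
  set S : Set ↥(twistedG2 K (3 ^ m)) := {g | ∃ b, b ≠ 0 ∧ inv0 hK * w b = g}
  set N := Bor K m ⊓ C
  have hw0 : ∀ b, b ≠ 0 → w b ≠ 1 := fun b hb e => hb (by
    have h' : W hK Ps 0 b 0 = W hK Ps (0 : K) 0 0 := (congrArg Subtype.val e).trans (by simp [W, xx, xGL_zero])
    exact (W_inj hK h').2.1)
  have hw3 : ∀ b, w b ^ 3 = 1 := fun b => Subtype.ext (by
    have h3 : ((3 : ℕ) : K) = 0 := CharP.cast_eq_zero K 3
    push_cast at h3
    show W hK Ps 0 b 0 ^ 3 = 1
    rw [W_eq hK Ps_ok, show A hK Ps (0 : K) = 1 by simp [A, xx, xGL_zero],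
      show B2 hK Ps (0 : K) = 1 by simp [B2, xx, xGL_zero], one_mul, mul_one, pow_three, B1_add hK, B1_add hK,
      show b + (b + b) = 0 by linear_combination b * h3]
    simp [B1, xx, xGL_zero])
  have hSsq : ∀ b, (inv0 hK * w b) ^ 2 = w b ^ 2 ∧ (inv0 hK * w b) ^ 3 = inv0 hK := by
    intro b
    have hc : Commute (inv0 hK) (w b) := (Subgroup.mem_centralizer_singleton_iff.1 (hwC b)).symm
    rw [hc.mul_pow, hc.mul_pow, hw3, mul_one, pow_two, pow_three, ha2, one_mul, mul_one]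
    exact ⟨rfl, rfl⟩
  have hNelt : ∀ n ∈ N, ∀ b, ∃ b', n * w b * n⁻¹ = w b' := by
    rintro n ⟨hn1, hn2⟩ b
    obtain ⟨b', hb'⟩ := (cent_uni hK (uni_norm hK hn1 (hwU b))).1
      (mul_mem (mul_mem hn2 (hwC b)) (inv_mem hn2))
    exact ⟨b', Subtype.ext hb'⟩
  have h := ti_count N S
    (fun n hn x ⟨b, hb, e⟩ => by
      obtain ⟨b', hb'⟩ := hNelt n hn b
      refine ⟨b', fun e0 => hb ?_, ?_⟩
      · by_contra hb0
        refine hw0 b hb0 (conj_eq_one_iff.1 (hb'.trans ?_))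
        subst e0
        exact Subtype.ext (by simp [w, W, xx, xGL_zero])
      · rw [← e, show n * (inv0 hK * w b) * n⁻¹ = n * inv0 hK * n⁻¹ * (n * w b * n⁻¹) by group, hb',
          Subgroup.mem_centralizer_singleton_iff.1 hn.2, mul_inv_cancel_right])
    (fun x ⟨b, hb, e⟩ g ⟨b', _, e'⟩ => by
      subst e
      have hC : g ∈ C := by
        rw [Subgroup.mem_centralizer_singleton_iff]
        have h3 := congrArg (· ^ 3) e'
        simp only [conj_pow, (hSsq _).2] at h3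
        exact mul_inv_eq_iff_eq_mul.1 h3.symm
      refine ⟨?_, hC⟩
      have h2 := congrArg (· ^ 2) e'
      simp only [conj_pow, (hSsq _).1] at h2
      refine uni_ti hK (pow_mem (hwU b) 2) ?_ (h2 ▸ pow_mem (hwU b') 2)
      intro e2
      refine hw0 b hb ?_
      have h3 := hw3 b
      rwa [pow_succ, e2, one_mul] at h3)
  have hN : Nat.card N = Fintype.card K * (Fintype.card K - 1) := by
    let Φ : K × Kˣ → N := fun x => ⟨w x.1 * ⟨parHom hK x.2, parHom_mem hK _⟩,
      mul_mem (uni_le (K := K) hK (hwU _)) (Subgroup.mem_subgroupOf.2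
        (Subgroup.mem_sup_right ((Torus.range_torusHom mem_data).le ⟨_, rfl⟩))),
      mul_mem (hwC _) (Subgroup.mem_centralizer_singleton_iff.2 (Subtype.ext
        (show parHom hK x.2 * parHom hK (-1) = parHom hK (-1) * parHom hK x.2 by rw [← map_mul, ← map_mul, mul_comm])))⟩
    have hΦ : Function.Bijective Φ := by
      constructor
      · rintro ⟨b, k⟩ ⟨b', k'⟩ h
        have h' := bor_inj hK (a₁ := (0, b, 0, k)) (a₂ := (0, b', 0, k'))
          (Subtype.ext (congrArg (fun z : N => ((z : ↥(twistedG2 K (3 ^ m))) : GL chevG2.Idx K)) h))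
        simp only [Prod.mk.injEq] at h'
        exact Prod.ext h'.2.1 h'.2.2.2
      · rintro ⟨g, hg1, hg2⟩
        obtain ⟨⟨t, u, v, k⟩, rfl⟩ := (mem_bor hK).1 hg1
        have hW : (⟨W hK Ps t u v, W_mem hK (Or.inl rfl) _ _ _⟩ : ↥(twistedG2 K (3 ^ m))) ∈ C := by
          have e : (⟨W hK Ps t u v, W_mem hK (Or.inl rfl) _ _ _⟩ : ↥(twistedG2 K (3 ^ m))) =
              bor hK (t, u, v, k) * (⟨parHom hK k, parHom_mem hK _⟩ : ↥(twistedG2 K (3 ^ m)))⁻¹ :=
            Subtype.ext (by simp [bor])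
          rw [e]
          refine mul_mem hg2 (inv_mem ?_)
          exact Subgroup.mem_centralizer_singleton_iff.2 (Subtype.ext
            (show parHom hK k * parHom hK (-1) = parHom hK (-1) * parHom hK k by rw [← map_mul, ← map_mul, mul_comm]))
        obtain ⟨b, hb⟩ := (cent_uni hK (Subgroup.mem_subgroupOf.2 (W_pos hK _ _ _))).1 hW
        obtain ⟨rfl, rfl, rfl⟩ := W_inj hK hb
        exact ⟨(u, k), Subtype.ext (Subtype.ext rfl)⟩
    rw [← Nat.card_congr (Equiv.ofBijective Φ hΦ), Nat.card_prod, Nat.card_units, Nat.card_eq_fintype_card]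
  have hS : Nat.card S = Fintype.card K - 1 := by
    rw [← Nat.card_eq_fintype_card, ← Nat.card_units, Nat.card_congr (unitsEquivNeZero (G₀ := K))]
    refine (Nat.card_congr (Equiv.ofBijective (fun b : {b : K // b ≠ 0} => (⟨_, b.1, b.2, rfl⟩ : S))
      ⟨fun a b h => ?_, fun ⟨g, b, hb, e⟩ => ⟨⟨b, hb⟩, Subtype.ext e⟩⟩)).symm
    exact Subtype.ext (W_inj hK (congrArg Subtype.val (mul_left_cancel (congrArg Subtype.val h)))).2.1
  rw [hN, hS, card_group hK, ← hK] at h
  have e : Nat.card {g : ↥(twistedG2 K (3 ^ m)) // orderOf g = 6} =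
      Nat.card {y : ↥(twistedG2 K (3 ^ m)) // ∃ g, ∃ x ∈ S, g * x * g⁻¹ = y} := by
    refine Nat.card_congr (Equiv.subtypeEquivRight fun g => ⟨fun hg => ?_, ?_⟩)
    · obtain ⟨c, -, h | h | ⟨-, c', b, hb, e⟩⟩ := three_cases hK hm (g := g) (by rw [hg]; norm_num)
      · omega
      · omega
      · exact ⟨c'⁻¹, c' * g * c'⁻¹, ⟨b, hb, Subtype.ext e.symm⟩, by group⟩
    · rintro ⟨c, x, ⟨b, hb, rfl⟩, rfl⟩
      refine (orderOf_injective (MulAut.conj c).toMonoidHom (MulAut.conj c).injective _).trans ?_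
      have hc : Commute (inv0 hK) (w b) := (Subgroup.mem_centralizer_singleton_iff.1 (hwC b)).symm
      haveI := Fact.mk Nat.prime_two
      haveI := Fact.mk Nat.prime_three
      rw [hc.orderOf_mul_eq_mul_orderOf_of_coprime (by
          rw [orderOf_eq_prime (p := 2) (by rw [pow_two, ha2]) ha1, orderOf_eq_prime (p := 3) (hw3 b) (hw0 b hb)]
          norm_num),
        orderOf_eq_prime (p := 2) (by rw [pow_two, ha2]) ha1, orderOf_eq_prime (p := 3) (hw3 b) (hw0 b hb)]
  rw [e]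
  have hq : 3 ≤ Fintype.card K := hK ▸ Nat.le_self_pow (by omega) 3
  refine Nat.eq_of_mul_eq_mul_right (m := Fintype.card K * (Fintype.card K - 1))
    (Nat.mul_pos (by omega) (by omega)) (h.trans ?_)
  ring

end CfsgLib.Chev.Twisted.ReeG2
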