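import Cfsg.Agent.Lib.Chev.Twisted.G2

/-! Consequences of the rank one structure of the small Ree groups: trivial intersection
of Sylow 3-subgroups, three point stabilisers, elements of order three. -/

set_option autoImplicit false

open Cfsg Cfsg.Lie
open CfsgLib.Chev CfsgLib.Chev.Checks CfsgLib.Chev.Basic
open scoped Pointwise

namespace CfsgLib.Chev.Twisted.ReeG2

variable {K : Type*} [Field K] [Fintype K] {m : ℕ} (hK : Fintype.card K = 3 ^ (2 * m + 1))

theorem pos_neg_bot {x : GL chevG2.Idx K} (hp : x ∈ chevG2.posUnipotent K) (hn : x ∈ chevG2.negUnipotent K) :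
    x = 1 :=
  Subgroup.mem_bot.1 ((BH.pos_inf_diagonal mem_data).le <| Subgroup.mem_inf.2 ⟨hp,
    (BH.borel_inf_negBorel mem_data).le <| Subgroup.mem_inf.2 ⟨Subgroup.mem_sup_left hp, Subgroup.mem_sup_left hn⟩⟩)

include hK

/-- the opposite element and the two kinds of elements -/
theorem rank_one : ∃ n ∈ (tw hK).fix, n ∈ chevG2.monomialSubgroup K ∧ n * n ∈ chevG2.diagonalSubgroup K ∧
    (∀ x ∈ chevG2.posUnipotent K, n * x * n⁻¹ ∈ chevG2.negUnipotent K) ∧
    ∀ g ∈ (tw hK).fix, g ∈ chevG2.borelSubgroup K ∨ ∃ b ∈ chevG2.borelSubgroup K, b ∈ (tw hK).fix ∧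
      ∃ u ∈ chevG2.posUnipotent K, u ∈ (tw hK).fix ∧ g = b * n * u := by
  set E := setup hK
  set j : Fin E.C.k := ⟨0, by show 0 < 1; norm_num⟩
  have hj : ∀ i : Fin E.C.k, i = j := fun i => Fin.ext (Nat.lt_one_iff.1 i.2)
  have hopp := E.opp_of_ok (w := cw) rfl (L0 := ([j] : List (Fin E.C.k))) opp_ok
  have hflat : E.C.flat [j] = E.C.w j := by simp [Classes.flat]
  refine ⟨E.n j, E.n_fix j, E.n_monomial j, E.n_sq j, fun x hx => ?_, fun g hg => ?_⟩
  · exact Canonical.conj_gen mem_data (E.C.w_lt j) (E.n_diag j) (fun r hr => hr.1)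
      (fun r hr t => xGL_mem_neg mem_data (hflat ▸ hopp r hr) t) hx
  · obtain ⟨v, hv, hvf, L, h, hh, hhf, u, hu, huf, e⟩ := E.form hg
    have huP : u ∈ chevG2.posUnipotent K :=
      RootGen.gen_le mem_data (fun r hr t => xGL_mem_pos mem_data hr.1 t) hu
    have hpar : ∀ L : List (Fin E.C.k), (L.map E.n).prod ∈ chevG2.diagonalSubgroup K ∧ (L.map E.n).prod ∈ (tw hK).fix ∨
        ∃ d ∈ chevG2.diagonalSubgroup K, d ∈ (tw hK).fix ∧ (L.map E.n).prod = E.n j * d := by
      intro L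
      induction L with
      | nil => exact Or.inl ⟨by simp [one_mem], by simp [one_mem]⟩
      | cons i L ih =>
        rw [hj i, List.map_cons, List.prod_cons]
        rcases ih with ⟨hd, hdf⟩ | ⟨d, hd, hdf, e⟩
        · exact Or.inr ⟨_, hd, hdf, rfl⟩
        · refine Or.inl ⟨?_, ?_⟩
          · rw [e, ← mul_assoc]; exact mul_mem (E.n_sq j) hd
          · rw [e]; exact mul_mem (E.n_fix j) (mul_mem (E.n_fix j) hdf)
    rcases hpar L with ⟨hd, hdf⟩ | ⟨d, hd, hdf, ed⟩
    · left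
      rw [e]
      exact mul_mem (mul_mem (Subgroup.mem_sup_left hv) (Subgroup.mem_sup_right (mul_mem hd hh)))
        (Subgroup.mem_sup_left huP)
    · refine Or.inr ⟨v * (E.n j * (d * h) * (E.n j)⁻¹), ?_, ?_, u, huP, huf, by rw [e, ed]; group⟩
      · exact mul_mem (Subgroup.mem_sup_left hv)
          (Subgroup.mem_sup_right (N.diagonal_normal mem_data (E.n_monomial j) (mul_mem hd hh)))
      · exact mul_mem hvf (mul_mem (mul_mem (E.n_fix j) (mul_mem hdf hhf)) (inv_mem (E.n_fix j)))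

omit [Fintype K] hK in
theorem borel_norm_pos {b x : GL chevG2.Idx K} (hb : b ∈ chevG2.borelSubgroup K) (hx : x ∈ chevG2.posUnipotent K) :
    b * x * b⁻¹ ∈ chevG2.posUnipotent K := by
  have h : chevG2.borelSubgroup K ≤ Subgroup.normalizer (chevG2.posUnipotent K : Set (GL chevG2.Idx K)) :=
    sup_le Subgroup.le_normalizer (BH.diagonal_normalizes_pos mem_data)
  exact (Subgroup.mem_normalizer_iff.1 (h hb) x).1 hx

/-- conjugates of `U¹` outside the Borel subgroup meet it trivially -/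
theorem ti {x y : GL chevG2.Idx K} (hx : x ∈ (tw hK).fix) (hxB : x ∉ chevG2.borelSubgroup K)
    (hy : y ∈ chevG2.posUnipotent K) (h : x * y * x⁻¹ ∈ chevG2.posUnipotent K) : y = 1 := by
  obtain ⟨n, -, -, -, hn, hg⟩ := rank_one hK
  obtain ⟨b, hb, -, u, hu, -, rfl⟩ := (hg x hx).resolve_left hxB
  have h1 : u * y * u⁻¹ ∈ chevG2.posUnipotent K := mul_mem (mul_mem hu hy) (inv_mem hu)
  have h2 := borel_norm_pos (inv_mem hb) h
  rw [inv_inv, show b⁻¹ * (b * n * u * y * (b * n * u)⁻¹) * b = n * (u * y * u⁻¹) * n⁻¹ by group] at h2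
  have h3 := pos_neg_bot h2 (hn _ h1)
  rw [show n * (u * y * u⁻¹) * n⁻¹ = (n * u) * y * (n * u)⁻¹ by group, conj_eq_one_iff] at h3
  exact h3

theorem not_three_dvd : ¬ 3 ∣ (3 ^ (2 * m + 1) - 1) * ((3 ^ (2 * m + 1)) ^ 3 + 1) := by
  intro h
  have h1 : 3 ∣ 3 ^ (2 * m + 1) := dvd_pow_self 3 (by omega)
  have h2 : 3 ∣ (3 ^ (2 * m + 1)) ^ 3 := dvd_pow h1 (by norm_num)
  have h3 : 1 ≤ 3 ^ (2 * m + 1) := Nat.one_le_pow _ _ (by norm_num)
  rcases (Nat.Prime.dvd_mul (by norm_num)).1 h with h | h <;> omega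

/-- `U¹` as a Sylow subgroup -/
theorem exists_sylow : ∃ S : Sylow 3 ↥(twistedG2 K (3 ^ m)),
    (S : Subgroup ↥(twistedG2 K (3 ^ m))) = (chevG2.posUnipotent K).subgroupOf (twistedG2 K (3 ^ m)) := by
  haveI := Fact.mk (show Nat.Prime 3 by norm_num)
  have hc : Nat.card ↥((chevG2.posUnipotent K).subgroupOf (twistedG2 K (3 ^ m))) = (3 ^ (2 * m + 1)) ^ 3 := by
    rw [← Subgroup.inf_subgroupOf_right, Nat.card_congr (Subgroup.subgroupOfEquivOfLe inf_le_right).toEquiv,
      card_unip hK]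
  have hf : Nat.card ↥((chevG2.posUnipotent K).subgroupOf (twistedG2 K (3 ^ m))) =
      3 ^ (Nat.card ↥(twistedG2 K (3 ^ m))).factorization 3 := ?_
  · exact ⟨Sylow.ofCard _ hf, rfl⟩
  rw [hc, card_group hK, mul_assoc, Nat.factorization_mul (by positivity) (fun e => not_three_dvd (m := m) hK (by simp [e])),
    Finsupp.add_apply, Nat.factorization_eq_zero_of_not_dvd (not_three_dvd hK), add_zero, ← pow_mul,
    Nat.Prime.factorization_pow (by norm_num), Finsupp.single_eq_same]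

theorem sylow_ti (P Q : Sylow 3 ↥(twistedG2 K (3 ^ m))) (hPQ : P ≠ Q) :
    (P : Subgroup ↥(twistedG2 K (3 ^ m))) ⊓ (Q : Subgroup ↥(twistedG2 K (3 ^ m))) = ⊥ := by
  haveI := Fact.mk (show Nat.Prime 3 by norm_num)
  obtain ⟨S, hS⟩ := exists_sylow hK
  obtain ⟨g, rfl⟩ := MulAction.exists_smul_eq ↥(twistedG2 K (3 ^ m)) S P
  obtain ⟨g', rfl⟩ := MulAction.exists_smul_eq ↥(twistedG2 K (3 ^ m)) S Q
  refine eq_bot_iff.2 fun y hy => ?_
  rw [Subgroup.mem_inf, Sylow.coe_subgroup_smul, Sylow.coe_subgroup_smul,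
    Subgroup.mem_pointwise_smul_iff_inv_smul_mem, Subgroup.mem_pointwise_smul_iff_inv_smul_mem, hS,
    Subgroup.mem_subgroupOf, Subgroup.mem_subgroupOf] at hy
  simp only [← map_inv, MulAut.smul_def, MulAut.conj_apply, inv_inv, Subgroup.coe_mul, Subgroup.coe_inv] at hy
  rw [Subgroup.mem_bot]
  by_contra hne
  have hne' : (g : GL chevG2.Idx K)⁻¹ * y * g ≠ 1 := by
    intro e
    refine hne (Subtype.ext ?_)
    have e2 := congrArg (fun z => (g : GL chevG2.Idx K) * z * (g : GL chevG2.Idx K)⁻¹) e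
    simpa [mul_assoc] using e2
  have hf : ((g'⁻¹ * g : ↥(twistedG2 K (3 ^ m))) : GL chevG2.Idx K) ∈ (tw hK).fix := le_fix hK (g'⁻¹ * g).2
  by_cases hB : ((g'⁻¹ * g : ↥(twistedG2 K (3 ^ m))) : GL chevG2.Idx K) ∈ chevG2.borelSubgroup K
  · refine hPQ (Sylow.ext ?_)
    rw [Sylow.coe_subgroup_smul, Sylow.coe_subgroup_smul, hS]
    ext z
    rw [Subgroup.mem_pointwise_smul_iff_inv_smul_mem, Subgroup.mem_pointwise_smul_iff_inv_smul_mem,
      Subgroup.mem_subgroupOf, Subgroup.mem_subgroupOf]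
    simp only [← map_inv, MulAut.smul_def, MulAut.conj_apply, inv_inv, Subgroup.coe_mul, Subgroup.coe_inv]
    simp only [Subgroup.coe_mul, Subgroup.coe_inv] at hB
    constructor <;> intro h
    · have := borel_norm_pos hB h
      simpa [mul_assoc] using this
    · have := borel_norm_pos (inv_mem hB) h
      simpa [mul_assoc] using this
  · refine hne' (ti hK hf hB hy.1 ?_)
    simp only [Subgroup.coe_mul, Subgroup.coe_inv]
    rw [show (g' : GL chevG2.Idx K)⁻¹ * g * ((g : GL chevG2.Idx K)⁻¹ * y * g) *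
      ((g' : GL chevG2.Idx K)⁻¹ * g)⁻¹ = (g' : GL chevG2.Idx K)⁻¹ * y * g' by group]
    exact hy.2

/-- three point stabilisers in the coset action -/
theorem three_point :
    let B := (chevG2.borelSubgroup K ⊓ twistedG2 K (3 ^ m)).subgroupOf (twistedG2 K (3 ^ m))
    (∀ x y z : ↥(twistedG2 K (3 ^ m)) ⧸ B, x ≠ y → x ≠ z → y ≠ z →
      Nat.card ↥(MulAction.stabilizer ↥(twistedG2 K (3 ^ m)) x ⊓ MulAction.stabilizer ↥(twistedG2 K (3 ^ m)) y ⊓
        MulAction.stabilizer ↥(twistedG2 K (3 ^ m)) z) ≤ 2) ∧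
    ∃ x y z : ↥(twistedG2 K (3 ^ m)) ⧸ B, x ≠ y ∧ x ≠ z ∧ y ≠ z ∧
      Nat.card ↥(MulAction.stabilizer ↥(twistedG2 K (3 ^ m)) x ⊓ MulAction.stabilizer ↥(twistedG2 K (3 ^ m)) y ⊓
        MulAction.stabilizer ↥(twistedG2 K (3 ^ m)) z) = 2 := by
  classical
  intro B
  obtain ⟨n0, hn0f, hn0m, hn0sq, hn, hg⟩ := rank_one hK
  rw [← eq_fix hK] at hn0f
  set n : ↥(twistedG2 K (3 ^ m)) := ⟨n0, hn0f⟩
  have hB : ∀ g : ↥(twistedG2 K (3 ^ m)), g ∈ B ↔ (g : GL chevG2.Idx K) ∈ chevG2.borelSubgroup K := fun g =>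
    ⟨fun h => (Subgroup.mem_subgroupOf.1 h).1, fun h => Subgroup.mem_subgroupOf.2 ⟨h, g.2⟩⟩
  have hstab : ∀ (w g : ↥(twistedG2 K (3 ^ m))),
      g ∈ MulAction.stabilizer ↥(twistedG2 K (3 ^ m)) (w : ↥(twistedG2 K (3 ^ m)) ⧸ B) ↔ w⁻¹ * g * w ∈ B := by
    intro w g
    rw [MulAction.mem_stabilizer_iff, MulAction.Quotient.smul_coe, smul_eq_mul, eq_comm, QuotientGroup.eq,
      mul_assoc]
  set H : Subgroup (GL chevG2.Idx K) := chevG2.diagonalSubgroup K ⊓ twistedG2 K (3 ^ m)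
  -- the stabiliser of two opposite points is the torus
  have htwo : ∀ g : ↥(twistedG2 K (3 ^ m)), g ∈ B → n⁻¹ * g * n ∈ B → (g : GL chevG2.Idx K) ∈ H := by
    intro g h1 h2
    rw [hB] at h1 h2
    obtain ⟨u, hu, k, hk, e⟩ := (BH.mem_borel_iff mem_data).1 h2
    refine ⟨(BH.borel_inf_negBorel mem_data).le <| Subgroup.mem_inf.2 ⟨h1, ?_⟩, g.2⟩
    have hn' := hn u hu
    have e' : (g : GL chevG2.Idx K) = n0 * u * n0⁻¹ * (n0 * k * n0⁻¹) := by
      have : n0 * ((n⁻¹ * g * n : ↥(twistedG2 K (3 ^ m))) : GL chevG2.Idx K) * n0⁻¹ = g := by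
        simp [n, mul_assoc]
      rw [← this, ← e]; group
    rw [e']
    exact mul_mem (Subgroup.mem_sup_left hn') (Subgroup.mem_sup_right (N.diagonal_normal mem_data hn0m hk))
  have hHn : ∀ g : ↥(twistedG2 K (3 ^ m)), (g : GL chevG2.Idx K) ∈ chevG2.diagonalSubgroup K → n⁻¹ * g * n ∈ B := by
    intro g h
    rw [hB]
    simp only [Subgroup.coe_mul, Subgroup.coe_inv]
    have := N.diagonal_normal mem_data (inv_mem hn0m) h
    rw [inv_inv] at this
    exact Subgroup.mem_sup_right this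
  -- a coset different from the base point
  have hcos : ∀ w : ↥(twistedG2 K (3 ^ m)), w ∉ B → ∃ v : ↥(twistedG2 K (3 ^ m)),
      (v : GL chevG2.Idx K) ∈ chevG2.posUnipotent K ∧
      (w : ↥(twistedG2 K (3 ^ m)) ⧸ B) = ((v * n : ↥(twistedG2 K (3 ^ m))) : ↥(twistedG2 K (3 ^ m)) ⧸ B) := by
    intro w hw
    rw [hB] at hw
    obtain ⟨b, hb, hbf, u, hu, -, e⟩ := (hg w (le_fix hK w.2)).resolve_left hw
    obtain ⟨v, hv, hvf, k, hk, hkf, eb⟩ := (tw hK).borel_form hb hbf
    rw [← eq_fix hK] at hvf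
    refine ⟨⟨v, hvf⟩, hv, (QuotientGroup.eq).2 ((hB _).2 ?_)⟩
    simp only [Subgroup.coe_mul, Subgroup.coe_inv, n]
    rw [e, eb, show (v * k * n0 * u)⁻¹ * (v * n0) = u⁻¹ * (n0⁻¹ * k⁻¹ * n0) by group]
    refine mul_mem (Subgroup.mem_sup_left (inv_mem hu)) (Subgroup.mem_sup_right ?_)
    have := N.diagonal_normal mem_data (inv_mem hn0m) (inv_mem hk)
    rwa [inv_inv] at this
  -- centralisers in the torus
  have hcard : ∀ v : GL chevG2.Idx K, v ∈ chevG2.posUnipotent K → v ∈ twistedG2 K (3 ^ m) → v ≠ 1 →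
      ∀ g ∈ H, g * v = v * g → g = 1 ∨ g = parHom hK (-1) := by
    intro v hv hvT hv1 g hgH hgv
    obtain ⟨c, rfl⟩ : g ∈ (parHom hK).range := by rw [range_diag hK]; exact hgH
    by_cases h2 : c ^ 2 = 1
    · have : (c : K) * c = 1 := by rw [← pow_two, ← Units.val_pow_eq_pow_val, h2, Units.val_one]
      rcases mul_self_eq_one_iff.1 this with e | e
      · exact Or.inl (by rw [Units.ext (e.trans Units.val_one.symm), map_one])
      · exact Or.inr (congrArg _ (Units.ext (by simpa using e)))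
    · exfalso
      have hodd : Odd (orderOf (parHom hK (c ^ 2))) := by
        have hd : orderOf (c ^ 2) ∣ (Fintype.card K - 1) / 2 := orderOf_dvd_of_pow_eq_one (by
          have := card_mod hK
          rw [← pow_mul, Nat.mul_div_cancel' (Nat.dvd_of_mod_eq_zero (by omega)), ← Fintype.card_units,
            pow_card_eq_one])
        rw [orderOf_injective _ (parHom_inj hK)]
        exact Odd.of_dvd_nat (Nat.odd_iff.2 (by have := card_mod hK; omega)) hd
      have h := (odd_fpf hK).2 (parHom hK (c ^ 2)) (by rw [← range_diag hK]; exact ⟨_, rfl⟩)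
        (fun e => h2 (parHom_inj hK (e.trans (map_one _).symm))) hodd
      refine hv1 (Subgroup.mem_bot.1 (h.le ⟨⟨hv, hvT⟩, Subgroup.mem_centralizer_iff.2 ?_⟩))
      rintro _ rfl
      rw [map_pow]
      exact (Commute.pow_left hgv 2).eq
  -- the stabiliser in standard position
  have hstd : ∀ v : ↥(twistedG2 K (3 ^ m)), (v : GL chevG2.Idx K) ∈ chevG2.posUnipotent K →
      ∀ g : ↥(twistedG2 K (3 ^ m)), g ∈ B → n⁻¹ * g * n ∈ B → (v * n)⁻¹ * g * (v * n) ∈ B →
        (g : GL chevG2.Idx K) * v = v * g := by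
    intro v hv g h1 h2 h3
    have hvB : v ∈ B := (hB v).2 (Subgroup.mem_sup_left hv)
    have hd := (htwo g h1 h2).1
    have hd' := (htwo (v⁻¹ * g * v) (mul_mem (mul_mem (inv_mem hvB) h1) hvB)
      (by rwa [show n⁻¹ * (v⁻¹ * g * v) * n = (v * n)⁻¹ * g * (v * n) by group])).1
    simp only [Subgroup.coe_mul, Subgroup.coe_inv] at hd'
    have e := Subgroup.mem_bot.1 ((BH.pos_inf_diagonal mem_data).le <| Subgroup.mem_inf.2 ⟨mul_mem (inv_mem hv) (borel_norm_pos
      (Subgroup.mem_sup_right hd) hv), (show (v : GL chevG2.Idx K)⁻¹ * ((g : GL chevG2.Idx K) * v * (g : GL chevG2.Idx K)⁻¹)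
        ∈ chevG2.diagonalSubgroup K by
        rw [show (v : GL chevG2.Idx K)⁻¹ * ((g : GL chevG2.Idx K) * v * (g : GL chevG2.Idx K)⁻¹) =
          (v : GL chevG2.Idx K)⁻¹ * g * v * (g : GL chevG2.Idx K)⁻¹ by group]
        exact mul_mem hd' (inv_mem hd))⟩)
    rw [inv_mul_eq_one, eq_mul_inv_iff_mul_eq] at e
    exact e.symm
  refine ⟨?_, ?_⟩
  · intro x y z hxy hxz hyz
    obtain ⟨a, rfl⟩ := QuotientGroup.mk_surjective x
    obtain ⟨b, rfl⟩ := QuotientGroup.mk_surjective y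
    obtain ⟨c, rfl⟩ := QuotientGroup.mk_surjective z
    have hb' : a⁻¹ * b ∉ B := fun h => hxy ((QuotientGroup.eq).2 h)
    have hc' : a⁻¹ * c ∉ B := fun h => hxz ((QuotientGroup.eq).2 h)
    obtain ⟨v, hv, ev⟩ := hcos _ hb'
    obtain ⟨w, hw, ew⟩ := hcos _ hc'
    have hne : ((v⁻¹ * w : ↥(twistedG2 K (3 ^ m))) : GL chevG2.Idx K) ≠ 1 := by
      intro e
      have hvw : v = w := inv_mul_eq_one.1 (Subtype.ext e)
      rw [← hvw, ← ev] at ew
      refine hyz ((QuotientGroup.eq).2 ?_)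
      have := (QuotientGroup.eq).1 ew
      rw [show (a⁻¹ * c)⁻¹ * (a⁻¹ * b) = c⁻¹ * b by group] at this
      simpa using inv_mem this
    have hvB : v ∈ B := (hB v).2 (Subgroup.mem_sup_left hv)
    classical
    let φ : ↥(MulAction.stabilizer ↥(twistedG2 K (3 ^ m)) (a : ↥(twistedG2 K (3 ^ m)) ⧸ B) ⊓
        MulAction.stabilizer ↥(twistedG2 K (3 ^ m)) (b : ↥(twistedG2 K (3 ^ m)) ⧸ B) ⊓
        MulAction.stabilizer ↥(twistedG2 K (3 ^ m)) (c : ↥(twistedG2 K (3 ^ m)) ⧸ B)) →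
        ({1, parHom hK (-1)} : Finset (GL chevG2.Idx K)) := fun g =>
      ⟨(((a * v)⁻¹ * g.1 * (a * v) : ↥(twistedG2 K (3 ^ m))) : GL chevG2.Idx K), by
        obtain ⟨⟨g1, g2⟩, g3⟩ := g.2
        set g' : ↥(twistedG2 K (3 ^ m)) := (a * v)⁻¹ * g.1 * (a * v) with hg'
        have k1 : g' ∈ B := by
          rw [hg', show (a * v)⁻¹ * g.1 * (a * v) = v⁻¹ * (a⁻¹ * g.1 * a) * v by group]
          exact mul_mem (mul_mem (inv_mem hvB) ((hstab _ _).1 g1)) hvB
        have key : ∀ (p : ↥(twistedG2 K (3 ^ m))) (r : ↥(twistedG2 K (3 ^ m))), r ∈ MulAction.stabilizer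
            ↥(twistedG2 K (3 ^ m)) (p : ↥(twistedG2 K (3 ^ m)) ⧸ B) → ∀ u : ↥(twistedG2 K (3 ^ m)),
            ((a⁻¹ * p : ↥(twistedG2 K (3 ^ m))) : ↥(twistedG2 K (3 ^ m)) ⧸ B) = (u : ↥(twistedG2 K (3 ^ m)) ⧸ B) →
            (a * u)⁻¹ * r * (a * u) ∈ B := by
          intro p r hr u hu
          have h1 := (QuotientGroup.eq).1 hu
          rw [show (a * u)⁻¹ * r * (a * u) = ((a⁻¹ * p)⁻¹ * u)⁻¹ * (p⁻¹ * r * p) * ((a⁻¹ * p)⁻¹ * u) by group]
          exact mul_mem (mul_mem (inv_mem h1) ((hstab _ _).1 hr)) h1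
        have k2 : n⁻¹ * g' * n ∈ B := by
          rw [hg', show n⁻¹ * ((a * v)⁻¹ * g.1 * (a * v)) * n = (a * (v * n))⁻¹ * g.1 * (a * (v * n)) by group]
          exact key b _ g2 _ ev
        have k3 : (v⁻¹ * w * n)⁻¹ * g' * (v⁻¹ * w * n) ∈ B := by
          rw [hg', show (v⁻¹ * w * n)⁻¹ * ((a * v)⁻¹ * g.1 * (a * v)) * (v⁻¹ * w * n) =
            (a * (w * n))⁻¹ * g.1 * (a * (w * n)) by group]
          exact key c _ g3 _ ew
        have hvw : ((v⁻¹ * w : ↥(twistedG2 K (3 ^ m))) : GL chevG2.Idx K) ∈ chevG2.posUnipotent K := by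
          simp only [Subgroup.coe_mul, Subgroup.coe_inv]
          exact mul_mem (inv_mem hv) hw
        rw [Finset.mem_insert, Finset.mem_singleton]
        exact hcard _ hvw (v⁻¹ * w).2 hne _ (htwo _ k1 k2) (hstd _ hvw _ k1 k2 k3)⟩
    refine (Nat.card_le_card_of_injective φ fun g g' e => ?_).trans ?_
    · have e' : (a * v)⁻¹ * g.1 * (a * v) = (a * v)⁻¹ * g'.1 * (a * v) := by
        have h := Subtype.ext_iff.1 e
        exact Subtype.ext h
      exact Subtype.ext (mul_left_cancel (mul_right_cancel e'))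
    · rw [Nat.card_eq_fintype_card, Fintype.card_coe]
      exact Finset.card_le_two
  · have hP : parHom hK (-1) ∈ H := by rw [show H = (parHom hK).range from (range_diag hK).symm]; exact ⟨_, rfl⟩
    set g0 : ↥(twistedG2 K (3 ^ m)) := ⟨parHom hK (-1), parHom_mem hK _⟩
    set v : ↥(twistedG2 K (3 ^ m)) := ⟨W hK Ps 0 1 0, W_mem hK (Or.inl rfl) _ _ _⟩
    have hvB : v ∈ B := (hB v).2 (Subgroup.mem_sup_left (W_pos hK _ _ _))
    have hW0 : W hK Ps (0 : K) 0 0 = 1 := by simp [W, xx, xGL_zero]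
    have hv1 : (v : GL chevG2.Idx K) ≠ 1 := fun e => one_ne_zero (W_inj hK (e.trans hW0.symm)).2.1
    have hnB : n ∉ B := fun h => by
      have h1 := (BN.inf_monomial mem_data).le <| Subgroup.mem_inf.2 ⟨(hB n).1 h, hn0m⟩
      have h2 := hn _ (W_pos hK 0 1 0)
      exact hv1 (conj_eq_one_iff.1 (pos_neg_bot (borel_norm_pos (Subgroup.mem_sup_right h1) (W_pos hK 0 1 0)) h2))
    have hcomm : (g0 : GL chevG2.Idx K) * v = v * g0 := by
      have h := W_conj hK (-1) 0 1 0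
      have e : ch1 hK ((-1 : Kˣ) : K) = 1 := by simp [ch1, Odd.neg_one_pow (show Odd 3 by decide)]
      rw [e, mul_zero, mul_one, mul_zero] at h
      exact mul_inv_eq_iff_eq_mul.1 h
    have hc : Commute g0 v := Subtype.ext hcomm
    refine ⟨((1 : ↥(twistedG2 K (3 ^ m))) : ↥(twistedG2 K (3 ^ m)) ⧸ B), (n : ↥(twistedG2 K (3 ^ m)) ⧸ B),
      ((v * n : ↥(twistedG2 K (3 ^ m))) : ↥(twistedG2 K (3 ^ m)) ⧸ B), ?_, ?_, ?_, ?_⟩
    · intro h
      exact hnB (by simpa using (QuotientGroup.eq).1 h)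
    · intro h
      have h1 : v * n ∈ B := by simpa using (QuotientGroup.eq).1 h
      exact hnB (by simpa using mul_mem (inv_mem hvB) h1)
    · intro h
      have h1 := (hB _).1 ((QuotientGroup.eq).1 h)
      simp only [Subgroup.coe_mul, Subgroup.coe_inv, n] at h1
      obtain ⟨u, hu, k, hk, e⟩ := (BH.mem_borel_iff mem_data).1 h1
      refine hv1 (Subgroup.mem_bot.1 ((BH.pos_inf_diagonal mem_data).le <| Subgroup.mem_inf.2 ⟨W_pos hK _ _ _,
        (BH.borel_inf_negBorel mem_data).le <| Subgroup.mem_inf.2 ⟨Subgroup.mem_sup_left (W_pos hK _ _ _), ?_⟩⟩))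
      have e' : (v : GL chevG2.Idx K) = n0 * u * n0⁻¹ * (n0 * k * n0⁻¹) := by
        have : n0 * (n0⁻¹ * ((v : GL chevG2.Idx K) * n0)) * n0⁻¹ = (v : GL chevG2.Idx K) := by group
        rw [← this, ← e]; group
      rw [e']
      exact mul_mem (Subgroup.mem_sup_left (hn u hu)) (Subgroup.mem_sup_right (N.diagonal_normal mem_data hn0m hk))
    · set M := MulAction.stabilizer ↥(twistedG2 K (3 ^ m)) ((1 : ↥(twistedG2 K (3 ^ m))) : ↥(twistedG2 K (3 ^ m)) ⧸ B) ⊓
        MulAction.stabilizer ↥(twistedG2 K (3 ^ m)) (n : ↥(twistedG2 K (3 ^ m)) ⧸ B) ⊓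
        MulAction.stabilizer ↥(twistedG2 K (3 ^ m)) ((v * n : ↥(twistedG2 K (3 ^ m))) : ↥(twistedG2 K (3 ^ m)) ⧸ B)
      have hmem : ∀ g, g ∈ M ↔ g = 1 ∨ g = g0 := by
        intro g
        refine ⟨fun hg' => ?_, ?_⟩
        · obtain ⟨⟨g1, g2⟩, g3⟩ := hg'
          have k1 : g ∈ B := by simpa using (hstab _ _).1 g1
          have k2 := (hstab _ _).1 g2
          rcases hcard _ (W_pos hK 0 1 0) v.2 hv1 _ (htwo _ k1 k2)
            (hstd v (W_pos hK 0 1 0) _ k1 k2 ((hstab _ _).1 g3)) with e | e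
          exacts [Or.inl (Subtype.ext e), Or.inr (Subtype.ext e)]
        · rintro (rfl | rfl)
          · exact one_mem _
          · refine ⟨⟨(hstab _ _).2 ?_, (hstab _ _).2 (hHn _ hP.1)⟩, (hstab _ _).2 ?_⟩
            · simpa using (hB g0).2 (Subgroup.mem_sup_right hP.1)
            · rw [show (v * n)⁻¹ * g0 * (v * n) = n⁻¹ * (v⁻¹ * (g0 * v)) * n by group, hc.eq,
                inv_mul_cancel_left]
              exact hHn _ hP.1
      have hne : g0 ≠ 1 := by
        intro e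
        have h1 : (-1 : Kˣ) = 1 := parHom_inj hK ((congrArg Subtype.val e).trans (map_one _).symm)
        exact neg_one_not_sq hK ⟨1, by rw [mul_one]; exact congrArg Units.val h1⟩
      have hset : (M : Set ↥(twistedG2 K (3 ^ m))) = {1, g0} := Set.ext fun g => by simp [hmem]
      rw [← SetLike.coe_sort_coe, hset, Nat.card_coe_set_eq, Set.ncard_pair hne.symm]

/-- the centre of `U¹` in root coordinates -/
def centerRoots : List ℕ := [9, 11]

omit [Field K] [Fintype K] hK in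
theorem cube_cert : IntEval.sameW chevG2 3 (iw Ps 1 0 0 ++ iw Ps 1 0 0 ++ iw Ps 1 0 0) (iw Ps 0 0 1) = true ∨
    IntEval.sameW chevG2 3 (iw Ps 1 0 0 ++ iw Ps 1 0 0 ++ iw Ps 1 0 0) (iw Ps 0 0 (-1)) = true := by decide +kernel

omit [Fintype K] hK in
theorem comm_table : (∀ r ∈ [9, 11], ∀ s ∈ [7, 6, 8, 9, 10, 11], s ≠ chevG2.neg r ∧
      ∀ c ∈ chevG2.commTerms r s, c.2.1 % 3 = 0) ∧
    (∀ r ∈ [7, 6, 8, 9], ∀ s ∈ [8, 10], r ≠ s → s ≠ chevG2.neg r ∧
      ∀ c ∈ chevG2.commTerms r s, c.2.1 % 3 = 0 ∨ c.1 ∈ [9, 11]) := by decide +kernel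

theorem cube_W (t u v : K) (ht : t ≠ 0) : W hK Ps t u v ^ 3 ≠ 1 := by
  set C : Subgroup (GL chevG2.Idx K) :=
    Subgroup.closure {g | ∃ r ∈ [9, 11], ∃ x : K, g = xx r x}
  have hlt : ∀ r ∈ [7, 6, 8, 9, 10, 11], r < 12 := by decide
  have hsub : ∀ r ∈ [9, 11], r ∈ [7, 6, 8, 9, 10, 11] := by decide
  have hcc : ∀ r ∈ [9, 11], ∀ s ∈ [7, 6, 8, 9, 10, 11], ∀ x y : K, Commute (xx r x) (xx s y) := by
    intro r hr s hs x y
    exact commute_x mem_data (hlt r (hsub r hr)) (hlt s hs) (comm_table.1 r hr s hs).1 (fun c hc => by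
      rw [← Aut.cast_mod (m := 3) (three_zero hK), (comm_table.1 r hr s hs).2 c hc, Int.cast_zero]) x y
  have hCc : ∀ z ∈ C, ∀ s ∈ [7, 6, 8, 9, 10, 11], ∀ y : K, Commute z (xx s y) := by
    intro z hz s hs y
    induction hz using Subgroup.closure_induction with
    | mem g hg => obtain ⟨r, hr, x, rfl⟩ := hg; exact hcc r hr s hs x y
    | one => exact Commute.one_left _
    | mul a b _ _ ha hb => exact ha.mul_left hb
    | inv a _ ha => exact ha.inv_left
  have hC3 : ∀ z ∈ C, z ^ 3 = 1 := by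
    intro z hz
    induction hz using Subgroup.closure_induction with
    | mem g hg =>
      obtain ⟨r, hr, x, rfl⟩ := hg
      have h0 : x + (x + x) = 0 := by
        linear_combination x * (by simpa using three_zero hK : (3 : K) = 0)
      rw [pow_three]
      simp only [xx]
      rw [Rel.xGL_add mem_data (hlt r (hsub r hr)), Rel.xGL_add mem_data (hlt r (hsub r hr)), h0, xGL_zero]
    | one => exact one_pow _
    | mul a b ha hb iha ihb =>
      have hab : Commute a b := by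
        clear iha ihb
        induction hb using Subgroup.closure_induction with
        | mem g hg => obtain ⟨r, hr, x, rfl⟩ := hg; exact hCc a ha r (hsub r hr) x
        | one => exact Commute.one_right _
        | mul c d _ _ hc hd => exact hc.mul_right hd
        | inv c _ hc => exact hc.inv_right
      rw [hab.mul_pow, iha, ihb, one_mul]
    | inv a _ ha => rw [inv_pow, ha, inv_one]
  have hW : ∀ t u v : K, ∀ z ∈ C, Commute z (W hK Ps t u v) := by
    intro t u v z hz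
    simp only [W, show Ps.a = 7 from rfl, show Ps.b = 6 from rfl, show Ps.c = 8 from rfl, show Ps.d = 9 from rfl,
      show Ps.e = 10 from rfl, show Ps.f = 11 from rfl]
    exact (hCc z hz 7 (by simp) _).mul_right ((hCc z hz 6 (by simp) _).mul_right ((hCc z hz 8 (by simp) _).mul_right
      ((hCc z hz 9 (by simp) _).mul_right ((hCc z hz 10 (by simp) _).mul_right (hCc z hz 11 (by simp) _)))))
  -- commutators between the two families are central
  let N : Set (GL chevG2.Idx K) := {g | (∀ z ∈ C, Commute z g) ∧ ∀ s ∈ [8, 10], ∀ y : K,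
    g * xx s y * g⁻¹ * (xx s y)⁻¹ ∈ C}
  have hN : ∀ r ∈ [7, 6, 8, 9], ∀ x : K, xx r x ∈ N := by
    intro r hr x
    have hr' : r ∈ [7, 6, 8, 9, 10, 11] := by revert r; decide
    refine ⟨fun z hz => hCc z hz r hr' x, fun s hs y => ?_⟩
    have hs' : s ∈ [7, 6, 8, 9, 10, 11] := by revert s; decide
    by_cases hrs : r = s
    · subst hrs
      have : Commute (xx r x) (xx r y) := by
        show xGL mem_data K r x * xGL mem_data K r y = xGL mem_data K r y * xGL mem_data K r x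
        rw [Rel.xGL_add mem_data (hlt r hr'), Rel.xGL_add mem_data (hlt r hr'), add_comm]
      rw [this.eq, mul_inv_cancel_right, mul_inv_cancel]
      exact one_mem _
    obtain ⟨h1, h2⟩ := comm_table.2 r hr s hs hrs
    set w := Rel.wordGL (F := K) (D := chevG2) mem_data (chevG2.commWord K r s x y)
    have hw : w ∈ C := by
      refine Subgroup.list_prod_mem _ fun g hg => ?_
      simp only [ChevalleyDatum.commWord, List.map_map, List.mem_map, Function.comp_apply] at hg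
      obtain ⟨c, hc, rfl⟩ := hg
      rcases h2 c hc with h | h
      · rw [← Aut.cast_mod (m := 3) (three_zero hK) c.2.1, h]
        simp [xGL_zero, one_mem]
      · exact Subgroup.subset_closure ⟨c.1, h, _, rfl⟩
    have e : xx s y * xx r x = xx r x * xx s y * w :=
      Rel.comm_GL mem_data (hlt r hr') (hlt s hs') (Ne.symm hrs) h1 x y
    have e2 : xx r x * xx s y = xx s y * xx r x * w⁻¹ := by rw [e]; group
    rw [e2, show xx s y * xx r x * w⁻¹ * (xx r x)⁻¹ = xx s y * (xx r x * w⁻¹ * (xx r x)⁻¹) by group,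
      ((hCc _ (inv_mem hw) r hr' x).symm).eq, mul_inv_cancel_right,
      ((hCc _ (inv_mem hw) s hs' y).symm).eq, mul_inv_cancel_right]
    exact inv_mem hw
  have hNmul : ∀ g ∈ N, ∀ h ∈ N, g * h ∈ N := by
    rintro g ⟨g1, g2⟩ h ⟨h1, h2⟩
    refine ⟨fun z hz => (g1 z hz).mul_right (h1 z hz), fun s hs y => ?_⟩
    set d := h * xx s y * h⁻¹ * (xx s y)⁻¹ with hd
    rw [show g * h * xx s y * (g * h)⁻¹ * (xx s y)⁻¹ = g * d * (g⁻¹ * g) * (xx s y * g⁻¹ * (xx s y)⁻¹) by
      rw [hd]; group]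
    rw [← (g1 d (h2 s hs y)).eq, inv_mul_cancel, mul_one, mul_assoc, ← mul_assoc g, ← mul_assoc g]
    exact mul_mem (h2 s hs y) (g2 s hs y)
  have hA : ∀ t, A hK Ps t ∈ N := fun t =>
    hNmul _ (hN 7 (by simp) _) _ (hNmul _ (hN 6 (by simp) _) _ (hNmul _ (hN 8 (by simp) _) _ (hN 9 (by simp) _)))
  have hB2 : ∀ v, B2 hK Ps v ∈ C := fun v =>
    mul_mem (Subgroup.subset_closure ⟨9, by simp, _, rfl⟩) (Subgroup.subset_closure ⟨11, by simp, _, rfl⟩)
  have hB3 : ∀ u : K, B1 hK Ps u ^ 3 = 1 := by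
    intro u
    have h0 : ∀ x : K, x + (x + x) = 0 := fun x => by
      linear_combination x * (by simpa using three_zero hK : (3 : K) = 0)
    rw [B1, (sext_comm hK Ps_ok (Ps.c, Ps.e) (by simp) _ _).mul_pow, pow_three, pow_three]
    simp only [xx]
    rw [Rel.xGL_add mem_data (by decide), Rel.xGL_add mem_data (by decide), Rel.xGL_add mem_data (by decide),
      Rel.xGL_add mem_data (by decide), h0, h0, xGL_zero, xGL_zero, one_mul]
  have hz : ∀ t u, A hK Ps t * B1 hK Ps u * (A hK Ps t)⁻¹ * (B1 hK Ps u)⁻¹ ∈ C := by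
    intro t u
    obtain ⟨g1, g2⟩ := hA t
    set g := A hK Ps t
    simp only [B1, show Ps.c = 8 from rfl, show Ps.e = 10 from rfl]
    generalize ((Ps.eps : K) * th hK u) = a
    generalize ((Ps.eps : K) * u) = b
    set d := g * xx 10 b * g⁻¹ * (xx 10 b)⁻¹ with hd
    have hdC : d ∈ C := g2 10 (by simp) b
    rw [show g * (xx 8 a * xx 10 b) * g⁻¹ * (xx 8 a * xx 10 b)⁻¹ =
      (g * xx 8 a * g⁻¹) * d * (xx 8 a)⁻¹ by rw [hd]; group,
      mul_assoc, ((hCc d hdC 8 (by simp) a).inv_right).eq, ← mul_assoc]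
    exact mul_mem (g2 8 (by simp) a) hdC
  -- reduce to `t = 1`
  have hch : Function.Surjective (fun c : Kˣ => Units.mk0 (ch0 hK (c : K))
      (div_ne_zero (pow_ne_zero _ c.ne_zero) (pow_ne_zero _ (by simp)))) := by
    refine Finite.injective_iff_surjective.1 fun c d h => ?_
    have hx : ch0 hK (((c * d⁻¹ : Kˣ)) : K) = 1 := by
      have h' : ch0 hK (c : K) = ch0 hK (d : K) := congrArg Units.val h
      have hm : ∀ a b : K, ch0 hK (a * b) = ch0 hK a * ch0 hK b := fun a b => by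
        simp [ch0, map_mul, mul_pow, mul_div_mul_comm]
      have hd : ch0 hK (d : K) ≠ 0 := div_ne_zero (pow_ne_zero _ d.ne_zero) (pow_ne_zero _ (by simp))
      rw [← mul_left_inj' hd, one_mul, ← hm, ← Units.val_mul, inv_mul_cancel_right, h']
    set x : Kˣ := c * d⁻¹
    have hne : th hK (x : K) ≠ 0 := by simp
    rw [ch0, div_eq_one_iff_eq (pow_ne_zero _ hne)] at hx
    have h2 := congrArg (th hK) hx
    rw [th_cube, map_pow] at h2
    have h3 : th hK (x : K) ^ 3 = th hK (x : K) ^ 4 := by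
      calc th hK (x : K) ^ 3 = (x : K) ^ 2 := hx.symm
        _ = (th hK (x : K) ^ 2) ^ 2 := by rw [h2]
        _ = th hK (x : K) ^ 4 := by ring
    have h4 : th hK (x : K) = 1 := by
      have := mul_left_cancel₀ (pow_ne_zero 3 hne) (b := 1) (c := th hK (x : K)) (by rw [mul_one]; linear_combination h3)
      exact this.symm
    have h5 : (x : K) = 1 := (th hK).injective (by rw [h4, map_one])
    exact mul_inv_eq_one.1 (Units.ext (h5.trans Units.val_one.symm))
  obtain ⟨c, hc⟩ := hch (Units.mk0 t ht)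
  have hc' : ch0 hK (c : K) = t := congrArg Units.val hc
  have hc1 : ch1 hK (c : K) ≠ 0 := div_ne_zero (pow_ne_zero _ (by simp)) c.ne_zero
  have e := W_conj hK c 1 (u / ch1 hK c) (v / c)
  rw [hc', mul_one, mul_div_cancel₀ _ hc1, mul_div_cancel₀ _ c.ne_zero] at e
  rw [← e, conj_pow]
  intro hcube
  rw [conj_eq_one_iff, W_eq hK Ps_ok] at hcube
  set a := A hK Ps (1 : K)
  set b := B1 hK Ps (u / ch1 hK c)
  set d := B2 hK Ps (v / c)
  have hd : Commute d (a * b) := by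
    have h1 := (hA 1).1 d (hB2 _)
    refine h1.mul_right ?_
    exact (hCc d (hB2 _) 8 (by simp) _).mul_right (hCc d (hB2 _) 10 (by simp) _)
  set z := a * b * a⁻¹ * b⁻¹ with hzdef
  have hzC : z ∈ C := hz 1 _
  have za : Commute z a := (hA 1).1 z hzC
  have zb : Commute z b := (hCc z hzC 8 (by simp) _).mul_right (hCc z hzC 10 (by simp) _)
  have eab : b * a = a * b * z⁻¹ := by
    have e1 : a * b = z * (b * a) := by rw [hzdef]; group
    rw [eq_mul_inv_iff_mul_eq, e1]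
    exact ((zb.mul_right za).eq).symm
  have hab : (a * b) ^ 3 = a ^ 3 * b ^ 3 := by
    have z' : Commute z⁻¹ a ∧ Commute z⁻¹ b := ⟨za.inv_left, zb.inv_left⟩
    calc (a * b) ^ 3 = a * (b * a) * (b * a) * b := by rw [pow_three]; group
      _ = a * (a * b * z⁻¹) * (a * b * z⁻¹) * b := by rw [eab]
      _ = a * a * b * (z⁻¹ * (a * b)) * (z⁻¹ * b) := by group
      _ = a * a * b * (a * b * z⁻¹) * (b * z⁻¹) := by rw [(z'.1.mul_right z'.2).eq, z'.2.eq]
      _ = a * a * (b * a) * b * (z⁻¹ * b) * z⁻¹ := by group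
      _ = a * a * (a * b * z⁻¹) * b * (b * z⁻¹) * z⁻¹ := by rw [eab, z'.2.eq]
      _ = a * a * a * b * (z⁻¹ * (b * b)) * z⁻¹ * z⁻¹ := by group
      _ = a * a * a * b * (b * b * z⁻¹) * z⁻¹ * z⁻¹ := by rw [(z'.2.mul_right z'.2).eq]
      _ = a ^ 3 * b ^ 3 * (z⁻¹) ^ 3 := by rw [pow_three a, pow_three b, pow_three z⁻¹]; group
      _ = a ^ 3 * b ^ 3 := by rw [hC3 _ (inv_mem hzC), mul_one]
  rw [(hd.symm).mul_pow, hC3 d (hB2 _), mul_one, hab, hB3, mul_one] at hcube
  have ha : a = W hK Ps ((1 : ℤ) : K) ((0 : ℤ) : K) ((0 : ℤ) : K) := by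
    simp [a, A, W, xx, xGL_zero]
  have happ : ∀ w w' : List (ℕ × K), wordG (D := chevG2) mem_data (w ++ w') =
      wordG mem_data w * wordG mem_data w' := fun w w' => by simp [wordG]
  have key : ∀ k : ℤ, (k = 1 ∨ k = -1) →
      IntEval.sameW chevG2 3 (iw Ps 1 0 0 ++ iw Ps 1 0 0 ++ iw Ps 1 0 0) (iw Ps 0 0 k) = true → False := by
    intro k hk hok
    have h := IntEval.wordMat_eq (F := K) (three_zero hK) nd_ok hok
    rw [← wordG_val mem_data, ← wordG_val mem_data, ← Units.ext_iff, List.map_append, List.map_append, happ, happ,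
      iw_val hK, iw_val hK, ← ha, ← pow_three', hcube] at h
    have hW0 : W hK Ps (0 : K) 0 0 = 1 := by simp [W, xx, xGL_zero]
    rw [← hW0] at h
    obtain ⟨-, -, h3⟩ := W_inj hK h
    rcases hk with rfl | rfl <;> simp at h3
  rcases cube_cert with h | h
  exacts [key 1 (Or.inl rfl) h, key (-1) (Or.inr rfl) h]

theorem card_order_three :
    Nat.card {u : ↥(chevG2.posUnipotent K ⊓ twistedG2 K (3 ^ m)) // orderOf u = 3} = (3 ^ (2 * m + 1)) ^ 2 - 1 := by
  classical
  haveI := Fact.mk (show Nat.Prime 3 by norm_num)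
  have hW0 : W hK Ps (0 : K) 0 0 = 1 := by simp [W, xx, xGL_zero]
  have h0 : ∀ x : K, x + (x + x) = 0 := fun x => by
    linear_combination x * (by simpa using three_zero hK : (3 : K) = 0)
  have hcube0 : ∀ u v : K, W hK Ps 0 u v ^ 3 = 1 := by
    intro u v
    simp only [W, map_zero, mul_zero, zero_mul, zero_add, zero_pow (show 2 ≠ 0 by norm_num),
      show Ps.a = 7 from rfl, show Ps.b = 6 from rfl, show Ps.c = 8 from rfl, show Ps.d = 9 from rfl,
      show Ps.e = 10 from rfl, show Ps.f = 11 from rfl, xx, xGL_zero, one_mul]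
    have c := fun p hp => sext_comm hK Ps_ok p hp
    have c2 := c (8, 9) (by simp [Ps]); have c3 := c (8, 10) (by simp [Ps])
    have c4 := c (8, 11) (by simp [Ps]); have c5 := c (9, 10) (by simp [Ps])
    have c6 := c (9, 11) (by simp [Ps]); have c7 := c (10, 11) (by simp [Ps])
    simp only [xx] at c2 c3 c4 c5 c6 c7
    rw [((c2 _ _).mul_right ((c3 _ _).mul_right (c4 _ _))).mul_pow, ((c5 _ _).mul_right (c6 _ _)).mul_pow,
      (c7 _ _).mul_pow, pow_three, pow_three, pow_three, pow_three]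
    simp only [Rel.xGL_add mem_data (show 8 < chevG2.nroots by decide), Rel.xGL_add mem_data (show 9 < chevG2.nroots by decide),
      Rel.xGL_add mem_data (show 10 < chevG2.nroots by decide), Rel.xGL_add mem_data (show 11 < chevG2.nroots by decide),
      h0, xGL_zero, one_mul]
  let Φ : {p : K × K // p ≠ 0} → {u : ↥(chevG2.posUnipotent K ⊓ twistedG2 K (3 ^ m)) // orderOf u = 3} := fun p =>
    ⟨⟨W hK Ps 0 p.1.1 p.1.2, W_pos hK _ _ _, W_mem hK (Or.inl rfl) _ _ _⟩, orderOf_eq_prime (Subtype.ext (by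
      simp [hcube0])) (fun e => p.2 (by
        obtain ⟨-, e1, e2⟩ := W_inj hK ((congrArg Subtype.val e).trans hW0.symm)
        exact Prod.ext e1 e2))⟩
  have hΦ : Function.Bijective Φ := by
    constructor
    · intro p p' h
      obtain ⟨-, e1, e2⟩ := W_inj hK (congrArg (fun x => x.1.1) h)
      exact Subtype.ext (Prod.ext e1 e2)
    · rintro ⟨⟨g, hg⟩, hord⟩
      obtain ⟨t, u, v, rfl⟩ := (mem_unip_iff hK g).1 hg
      have hp := pow_orderOf_eq_one (⟨W hK Ps t u v, hg⟩ : ↥(chevG2.posUnipotent K ⊓ twistedG2 K (3 ^ m)))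
      rw [hord] at hp
      have ht : t = 0 := by
        by_contra ht
        exact cube_W hK t u v ht (congrArg Subtype.val hp)
      subst ht
      refine ⟨⟨(u, v), fun e => ?_⟩, rfl⟩
      simp only [Prod.mk_eq_zero] at e
      obtain ⟨rfl, rfl⟩ := e
      rw [show (⟨W hK Ps 0 0 0, hg⟩ : ↥(chevG2.posUnipotent K ⊓ twistedG2 K (3 ^ m))) = 1 from Subtype.ext hW0,
        orderOf_one] at hord
      norm_num at hord
  rw [← Nat.card_congr (Equiv.ofBijective Φ hΦ), Nat.card_eq_fintype_card, Fintype.card_subtype_compl,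
    Fintype.card_subtype_eq, Fintype.card_prod, hK, sq]

end CfsgLib.Chev.Twisted.ReeG2
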