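import Cfsg.Agent.Lib.Chev.Twisted.G2Extra
import Cfsg.Agent.Lib.SL2.Presentation
import Cfsg.Agent.Lib.PSL2.Sylow2

/-! Involution centralisers of the small Ree groups. -/

set_option autoImplicit false

open Cfsg Cfsg.Lie
open CfsgLib.Chev CfsgLib.Chev.Checks CfsgLib.Chev.Basic
open CfsgLib.SL2Presentation

namespace CfsgLib.Chev.Twisted.ReeG2

theorem zmod_two_sq (r : Multiplicative (ZMod 2)) : r * r = 1 := by revert r; decide

variable {K : Type*} [Field K]

/-- roots of the commuting pair, auxiliary torus roots, and the certificates of the rank one relation -/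
theorem pair_tables : (∀ p ∈ [(8, 6), (10, 5)], p.1 < 12 ∧ p.2 < 12 ∧ chevG2.pairing p.2 p.1 = 1 ∧
      chevG2.pairing p.2 (chevG2.neg p.1) = -1 ∧ chevG2.pairing p.1 (chevG2.neg p.1) = -2 ∧
      chevG2.pairing p.1 p.1 = 2 ∧
      IntEval.sameW chevG2 3 [(p.1, 1), (chevG2.neg p.1, -1), (p.1, 1), (p.1, 1)]
        [(chevG2.neg p.1, -1), (p.1, 1), (chevG2.neg p.1, -1), (p.1, 1)] = true ∧
      IntEval.sameW chevG2 3 [(p.1, 1), (chevG2.neg p.1, -1), (p.1, 1), (chevG2.neg p.1, 1)]
        [(p.1, -1), (p.1, 1), (chevG2.neg p.1, -1), (p.1, 1)] = true) ∧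
    orthB chevG2 3 [8, 10] = true ∧ chevG2.neg 8 = 3 ∧ chevG2.neg 10 = 1 := by decide +kernel

variable [Fintype K] {m : ℕ} (hK : Fintype.card K = 3 ^ (2 * m + 1))

include hK

theorem rank_one_rel {r s : ℕ} (hp : (r, s) ∈ [(8, 6), (10, 5)]) {t : K} (ht : t ≠ 0) (u : K) :
    nGL mem_data K r t * xx r u * (nGL mem_data K r t)⁻¹ = xx (chevG2.neg r) (-(t⁻¹ ^ 2 * u)) ∧
      nGL mem_data K r t * xx (chevG2.neg r) u * (nGL mem_data K r t)⁻¹ = xx r (-(t ^ 2 * u)) := by
  obtain ⟨hr, hs, ps, pn, qn, qp, c1, c2⟩ := (pair_tables).1 (r, s) hp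
  dsimp only at hr hs ps pn qn qp c1 c2
  have hnr : chevG2.neg r < chevG2.nroots := Checks.neg_lt mem_data hr
  simp only [xx]
  -- the relation at `t = u = 1`
  have b1 : nGL mem_data K r 1 * xGL mem_data K r 1 =
      xGL mem_data K (chevG2.neg r) (-1) * nGL mem_data K r 1 := by
    refine Units.ext ?_
    have h := IntEval.wordMat_eq (F := K) (three_zero hK) nd_ok c1
    simp only [List.map_cons, List.map_nil, Int.cast_one, Int.cast_neg] at h
    rw [← wordG_val mem_data, ← wordG_val mem_data] at h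
    simpa [wordG, nGL, mul_assoc] using h
  have b2 : nGL mem_data K r 1 * xGL mem_data K (chevG2.neg r) 1 =
      xGL mem_data K r (-1) * nGL mem_data K r 1 := by
    refine Units.ext ?_
    have h := IntEval.wordMat_eq (F := K) (three_zero hK) nd_ok c2
    simp only [List.map_cons, List.map_nil, Int.cast_one, Int.cast_neg] at h
    rw [← wordG_val mem_data, ← wordG_val mem_data] at h
    simpa [wordG, nGL, mul_assoc] using h
  -- scaled by a torus element of weight one
  have hsc : ∀ a : K, a ≠ 0 → nGL mem_data K r a * xGL mem_data K r a * (nGL mem_data K r a)⁻¹ =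
      xGL mem_data K (chevG2.neg r) (-a⁻¹) ∧
      nGL mem_data K r a * xGL mem_data K (chevG2.neg r) a⁻¹ * (nGL mem_data K r a)⁻¹ = xGL mem_data K r (-a) := by
    intro a ha
    set H := MulAut.conj (hGL mem_data K s a)
    have h1 : ∀ x, H (xGL mem_data K r x) = xGL mem_data K r (a * x) := fun x => by
      rw [MulAut.conj_apply, Weight.h_conj_GL mem_data hs hr ha, ps, zpow_one]
    have h2 : ∀ x, H (xGL mem_data K (chevG2.neg r) x) = xGL mem_data K (chevG2.neg r) (a⁻¹ * x) := fun x => by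
      rw [MulAut.conj_apply, Weight.h_conj_GL mem_data hs hnr ha, pn, zpow_neg_one]
    have hn : H (nGL mem_data K r 1) = nGL mem_data K r a := by
      rw [nGL, nGL, map_mul, map_mul, h1, h2, mul_one, inv_one, mul_neg_one]
    constructor <;> rw [mul_inv_eq_iff_eq_mul]
    · have := congrArg H b1
      rw [map_mul, map_mul, hn, h1, h2, mul_one, mul_neg_one] at this
      exact this
    · have := congrArg H b2
      rw [map_mul, map_mul, hn, h1, h2, mul_one, mul_neg_one] at this
      exact this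
  have hn1 : ∀ a : K, a ≠ 0 → nGL mem_data K r a = hGL mem_data K r a * nGL mem_data K r 1 := fun a _ => by
    rw [hGL, Diag.nGL_neg_one mem_data hr]; group
  have one : ∀ u : K, nGL mem_data K r 1 * xGL mem_data K r u * (nGL mem_data K r 1)⁻¹ =
      xGL mem_data K (chevG2.neg r) (-u) ∧
      nGL mem_data K r 1 * xGL mem_data K (chevG2.neg r) u * (nGL mem_data K r 1)⁻¹ = xGL mem_data K r (-u) := by
    intro u
    by_cases hu : u = 0
    · subst hu; simp [xGL_zero]
    have hu' := inv_ne_zero hu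
    constructor
    · obtain ⟨e, -⟩ := hsc u hu
      rw [hn1 u hu, show hGL mem_data K r u * nGL mem_data K r 1 * xGL mem_data K r u *
        (hGL mem_data K r u * nGL mem_data K r 1)⁻¹ = hGL mem_data K r u *
          (nGL mem_data K r 1 * xGL mem_data K r u * (nGL mem_data K r 1)⁻¹) * (hGL mem_data K r u)⁻¹ by group] at e
      have e2 := Weight.h_conj_GL mem_data hr hnr (F := K) hu (-u)
      rw [qn, show u ^ (-2 : ℤ) * -u = -u⁻¹ by rw [zpow_neg, zpow_ofNat]; field_simp] at e2
      exact mul_left_cancel (mul_right_cancel (e.trans e2.symm))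
    · obtain ⟨-, e⟩ := hsc u⁻¹ hu'
      rw [inv_inv, hn1 _ hu', show hGL mem_data K r u⁻¹ * nGL mem_data K r 1 * xGL mem_data K (chevG2.neg r) u *
        (hGL mem_data K r u⁻¹ * nGL mem_data K r 1)⁻¹ = hGL mem_data K r u⁻¹ *
          (nGL mem_data K r 1 * xGL mem_data K (chevG2.neg r) u * (nGL mem_data K r 1)⁻¹) *
          (hGL mem_data K r u⁻¹)⁻¹ by group] at e
      have e2 := Weight.h_conj_GL mem_data hr hr (F := K) hu' (-u)
      rw [qp, show u⁻¹ ^ (2 : ℤ) * -u = -u⁻¹ by rw [zpow_ofNat]; field_simp] at e2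
      exact mul_left_cancel (mul_right_cancel (e.trans e2.symm))
  constructor
  · rw [hn1 t ht, show hGL mem_data K r t * nGL mem_data K r 1 * xGL mem_data K r u *
      (hGL mem_data K r t * nGL mem_data K r 1)⁻¹ = hGL mem_data K r t *
        (nGL mem_data K r 1 * xGL mem_data K r u * (nGL mem_data K r 1)⁻¹) * (hGL mem_data K r t)⁻¹ by group,
      (one u).1, Weight.h_conj_GL mem_data hr hnr ht, qn]
    congr 1
    rw [zpow_neg, zpow_ofNat, inv_pow, mul_neg]
  · rw [hn1 t ht, show hGL mem_data K r t * nGL mem_data K r 1 * xGL mem_data K (chevG2.neg r) u *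
      (hGL mem_data K r t * nGL mem_data K r 1)⁻¹ = hGL mem_data K r t *
        (nGL mem_data K r 1 * xGL mem_data K (chevG2.neg r) u * (nGL mem_data K r 1)⁻¹) * (hGL mem_data K r t)⁻¹ by group,
      (one u).2, Weight.h_conj_GL mem_data hr hr ht, qp]
    congr 1
    rw [zpow_ofNat, mul_neg]

theorem pair_comm : ∀ a ∈ [8, 3], ∀ b ∈ [10, 1], ∀ t u : K, Commute (xx a t) (xx b u) := by
  obtain ⟨-, ho, n8, n10⟩ := pair_tables
  intro a ha b hb t u
  obtain ⟨-, -, hc⟩ := orth_cons mem_data (three_zero hK) ho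
  exact hc 10 (by simp) a (by rwa [n8]) b (by rwa [n10]) t u

theorem nGL_pair (t u : K) : ∀ b ∈ [10, 1], ∀ x : K, Commute (nGL mem_data K 8 t) (xx b x) ∧
    Commute (nGL mem_data K 8 t) (nGL mem_data K 10 u) := by
  obtain ⟨-, -, n8, n10⟩ := pair_tables
  have hc := pair_comm hK
  have h1 : ∀ b ∈ [10, 1], ∀ x : K, Commute (nGL mem_data K 8 t) (xx b x) := fun b hb x => by
    rw [nGL, n8]
    exact ((hc 8 (by simp) b hb _ _).mul_left (hc 3 (by simp) b hb _ _)).mul_left (hc 8 (by simp) b hb _ _)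
  intro b hb x
  refine ⟨h1 b hb x, ?_⟩
  rw [show nGL mem_data K 10 u = xx 10 u * xx 1 (-u⁻¹) * xx 10 u by rw [nGL, n10]]
  exact ((h1 10 (by simp) _).mul_right (h1 1 (by simp) _)).mul_right (h1 10 (by simp) _)

/-- the rank one subgroup of the involution centraliser -/
noncomputable def pre : Pre K (GL chevG2.Idx K) where
  X u := xx 8 (th hK u) * xx 10 u
  Y u := xx 3 (th hK u) * xx 1 u
  addX t u := by
    rw [map_add]
    calc _ = xx 8 (th hK t) * (xx 10 t * xx 8 (th hK u)) * xx 10 u := by group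
      _ = xx 8 (th hK t) * xx 8 (th hK u) * (xx 10 t * xx 10 u) := by
        rw [← (pair_comm hK 8 (by simp) 10 (by simp) _ _).eq]; group
      _ = _ := by simp only [xx]; rw [Rel.xGL_add mem_data (by decide), Rel.xGL_add mem_data (by decide)]
  addY t u := by
    rw [map_add]
    calc _ = xx 3 (th hK t) * (xx 1 t * xx 3 (th hK u)) * xx 1 u := by group
      _ = xx 3 (th hK t) * xx 3 (th hK u) * (xx 1 t * xx 1 u) := by
        rw [← (pair_comm hK 3 (by simp) 1 (by simp) _ _).eq]; group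
      _ = _ := by simp only [xx]; rw [Rel.xGL_add mem_data (by decide), Rel.xGL_add mem_data (by decide)]
  nX t ht u := by
    obtain ⟨-, ho, n8, n10⟩ := pair_tables
    have e : xx 8 (th hK t) * xx 10 t * (xx 3 (th hK (-t⁻¹)) * xx 1 (-t⁻¹)) * (xx 8 (th hK t) * xx 10 t) =
        nGL mem_data K 8 (th hK t) * nGL mem_data K 10 t := by
      have := orth_prod (F := K) mem_data (three_zero hK) [8, 10] ho (fun r => if r = 8 then th hK t else t)
      simpa [wordG, xx, n8, n10, map_neg, map_inv₀] using this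
    rw [e]
    set a := nGL mem_data K 8 (th hK t)
    set b := nGL mem_data K 10 t
    have cb : Commute b (xx 8 (th hK u)) := by
      have hc := pair_comm hK
      show Commute (nGL mem_data K 10 t) _
      rw [nGL, n10]
      exact (((hc 8 (by simp) 10 (by simp) _ _).symm).mul_left ((hc 8 (by simp) 1 (by simp) _ _).symm)).mul_left
        ((hc 8 (by simp) 10 (by simp) _ _).symm)
    have h1 := (rank_one_rel hK (r := 8) (s := 6) (by simp) (t := th hK t) (by simpa using ht) (th hK u)).1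
    have h2 := (rank_one_rel hK (r := 10) (s := 5) (by simp) ht u).1
    rw [n8] at h1; rw [n10] at h2
    calc a * b * (xx 8 (th hK u) * xx 10 u) * (a * b)⁻¹
        = a * (b * xx 8 (th hK u)) * xx 10 u * b⁻¹ * a⁻¹ := by group
      _ = a * xx 8 (th hK u) * ((b * xx 10 u * b⁻¹) * a⁻¹) := by rw [cb.eq]; group
      _ = (a * xx 8 (th hK u) * a⁻¹) * (b * xx 10 u * b⁻¹) := by
        have ca : Commute (xx 1 (-(t⁻¹ ^ 2 * u))) a⁻¹ := ((nGL_pair hK (th hK t) t 1 (by simp) _).1.inv_left).symm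
        rw [h2, ca.eq]; group
      _ = _ := by rw [h1, h2]; simp [map_neg, map_inv₀]
  nY t ht u := by
    obtain ⟨-, ho, n8, n10⟩ := pair_tables
    have e : xx 8 (th hK t) * xx 10 t * (xx 3 (th hK (-t⁻¹)) * xx 1 (-t⁻¹)) * (xx 8 (th hK t) * xx 10 t) =
        nGL mem_data K 8 (th hK t) * nGL mem_data K 10 t := by
      have := orth_prod (F := K) mem_data (three_zero hK) [8, 10] ho (fun r => if r = 8 then th hK t else t)
      simpa [wordG, xx, n8, n10, map_neg, map_inv₀] using this
    rw [e]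
    set a := nGL mem_data K 8 (th hK t)
    set b := nGL mem_data K 10 t
    have cb : Commute b (xx 3 (th hK u)) := by
      have hc := pair_comm hK
      show Commute (nGL mem_data K 10 t) _
      rw [nGL, n10]
      exact (((hc 3 (by simp) 10 (by simp) _ _).symm).mul_left ((hc 3 (by simp) 1 (by simp) _ _).symm)).mul_left
        ((hc 3 (by simp) 10 (by simp) _ _).symm)
    have h1 := (rank_one_rel hK (r := 8) (s := 6) (by simp) (t := th hK t) (by simpa using ht) (th hK u)).2
    have h2 := (rank_one_rel hK (r := 10) (s := 5) (by simp) ht u).2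
    rw [n8] at h1; rw [n10] at h2
    calc a * b * (xx 3 (th hK u) * xx 1 u) * (a * b)⁻¹
        = a * (b * xx 3 (th hK u)) * xx 1 u * b⁻¹ * a⁻¹ := by group
      _ = a * xx 3 (th hK u) * ((b * xx 1 u * b⁻¹) * a⁻¹) := by rw [cb.eq]; group
      _ = (a * xx 3 (th hK u) * a⁻¹) * (b * xx 1 u * b⁻¹) := by
        have ca : Commute (xx 10 (-(t ^ 2 * u))) a⁻¹ := ((nGL_pair hK (th hK t) t 10 (by simp) _).1.inv_left).symm
        rw [h2, ca.eq]; group
      _ = _ := by rw [h1, h2]; simp [map_neg]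

theorem pre_n (t : K) : (pre hK).n t = nGL mem_data K 8 (th hK t) * nGL mem_data K 10 t := by
  obtain ⟨-, ho, n8, n10⟩ := pair_tables
  have := orth_prod (F := K) mem_data (three_zero hK) [8, 10] ho (fun r => if r = 8 then th hK t else t)
  simpa [Pre.n, pre, wordG, xx, n8, n10, map_neg, map_inv₀] using this

theorem pre_h (t : K) : (pre hK).h t = hGL mem_data K 8 (th hK t) * hGL mem_data K 10 t := by
  obtain ⟨-, ho, -, -⟩ := pair_tables
  have := orth_hGL (F := K) mem_data (three_zero hK) [8, 10] ho (fun r => if r = 8 then th hK t else t)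
  simpa [Pre.h, pre_n hK, map_neg] using this

theorem pre_h_eq (u : Kˣ) : (pre hK).h (u : K) = parHom hK (phi hK u) := by
  rw [pre_h, pair_torus]; simp

theorem pre_hC (t u : K) (ht : t ≠ 0) (hu : u ≠ 0) : (pre hK).h t * (pre hK).h u = (pre hK).h (t * u) := by
  have h1 := pre_h_eq hK (Units.mk0 t ht)
  have h2 := pre_h_eq hK (Units.mk0 u hu)
  have h3 := pre_h_eq hK (Units.mk0 t ht * Units.mk0 u hu)
  simp only [Units.val_mul, Units.val_mk0] at h1 h2 h3
  rw [h1, h2, h3, map_mul, map_mul]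

/-- the homomorphism from `SL₂` -/
noncomputable def psi : Matrix.SpecialLinearGroup (Fin 2) K →* GL chevG2.Idx K :=
  (exists_hom (pre hK) (pre_hC hK)).choose

theorem psi_up (t : K) : psi hK (up t) = B1 hK Ps t := by
  rw [show psi hK (up t) = _ from (exists_hom (pre hK) (pre_hC hK)).choose_spec.1 t]
  simp [pre, B1, Ps]

theorem psi_lo (t : K) : psi hK (lo t) = B1 hK Ns (-t) := by
  rw [show psi hK (lo t) = _ from (exists_hom (pre hK) (pre_hC hK)).choose_spec.2 t]
  simp [pre, B1, Ns]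

theorem psi_range_le : (psi hK).range ≤ twistedG2 K (3 ^ m) := by
  rintro _ ⟨g, rfl⟩
  have : Subgroup.closure (Set.range (up (K := K)) ∪ Set.range lo) ≤ (twistedG2 K (3 ^ m)).comap (psi hK) := by
    rw [Subgroup.closure_le]
    rintro _ (⟨t, rfl⟩ | ⟨t, rfl⟩)
    · rw [SetLike.mem_coe, Subgroup.mem_comap, psi_up]; exact B1_mem hK (Or.inl rfl) t
    · rw [SetLike.mem_coe, Subgroup.mem_comap, psi_lo]; exact B1_mem hK (Or.inr rfl) _
  exact this (generated g)

theorem psi_std_n (t : K) : psi hK ((std K).n t) = (pre hK).n t := by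
  simp only [Pre.n, map_mul]
  rw [show (std K).X = up from rfl, show (std K).Y = lo from rfl]
  simp [psi_up, psi_lo, pre, B1, Ps, Ns]

theorem psi_std_h (u : Kˣ) : psi hK ((std K).h (u : K)) = parHom hK (phi hK u) := by
  rw [← pre_h_eq]; simp only [Pre.h, map_mul, psi_std_n]

theorem phi_ne_neg (u : Kˣ) : phi hK u ≠ -1 := by
  intro hu
  refine neg_one_not_sq hK ?_
  have hodd : Odd (3 ^ m * 3) := by rw [← pow_succ]; exact (by decide : Odd 3).pow
  obtain ⟨k, hk⟩ := hodd
  refine ⟨(u : K) ^ (k + 1), ?_⟩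
  have h := congrArg Units.val hu
  simp only [Units.val_neg, Units.val_one] at h
  rw [← h]
  show th hK (u : K) ^ 3 * (u : K) = _
  rw [th_apply, ← pow_mul, hk, ← pow_succ, ← pow_add]
  ring_nf

theorem parHom_neg_comm {r : ℕ} (hr : r ∈ [8, 10, 3, 1]) (t : K) : Commute (parHom hK (-1)) (xx r t) := by
  have hp : chevG2.pairing 7 r + chevG2.pairing 6 r ∈ [0, 2, -2] ∧ r < 12 := by revert r; decide +kernel
  have hth : th hK ((-1 : Kˣ) : K) = -1 := by simp
  have e := parHom_conj hK (-1) r hp.2 t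
  rw [hth, ← mul_assoc, Units.val_neg, Units.val_one, ← zpow_add₀ (by simp)] at e
  have h1 : (-1 : K) ^ (chevG2.pairing 7 r + chevG2.pairing 6 r) = 1 := by
    have h2 := hp.1
    simp only [List.mem_cons, List.not_mem_nil, or_false] at h2
    rcases h2 with h | h | h <;> rw [h] <;> simp [zpow_ofNat, zpow_neg]
  rw [h1, one_mul] at e
  exact mul_inv_eq_iff_eq_mul.1 e

theorem psi_comm (g : Matrix.SpecialLinearGroup (Fin 2) K) : Commute (parHom hK (-1)) (psi hK g) := by
  have : Subgroup.closure (Set.range (up (K := K)) ∪ Set.range lo) ≤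
      (Subgroup.centralizer {parHom hK (-1)}).comap (psi hK) := by
    rw [Subgroup.closure_le]
    rintro _ (⟨t, rfl⟩ | ⟨t, rfl⟩)
    · rw [SetLike.mem_coe, Subgroup.mem_comap, psi_up, Subgroup.mem_centralizer_iff]
      rintro _ rfl
      exact ((parHom_neg_comm hK (r := 8) (by simp) _).mul_right (parHom_neg_comm hK (r := 10) (by simp) _)).eq
    · rw [SetLike.mem_coe, Subgroup.mem_comap, psi_lo, Subgroup.mem_centralizer_iff]
      rintro _ rfl
      exact ((parHom_neg_comm hK (r := 3) (by simp) _).mul_right (parHom_neg_comm hK (r := 1) (by simp) _)).eq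
  exact Subgroup.mem_centralizer_iff.1 (this (generated g)) _ rfl

theorem lo_borel {c : K} (h : psi hK (lo c) ∈ chevG2.borelSubgroup K) : c = 0 := by
  have hneg : psi hK (lo c) ∈ chevG2.negUnipotent K := by
    rw [psi_lo]
    have := W_neg hK 0 (-c) (0 : K)
    simpa [W, B1, xx, xGL_zero] using this
  have h1 : psi hK (lo c) = 1 := Subgroup.mem_bot.1 ((BH.borel_inf_neg mem_data).le (Subgroup.mem_inf.2 ⟨h, hneg⟩))
  have h2 := congrArg (psi hK) (show (std K).n 1 * lo c * ((std K).n 1)⁻¹ = up (-(1 ^ 2 * c)) from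
    (std K).nY 1 one_ne_zero c)
  rw [map_mul, map_mul, h1, mul_one, map_inv, mul_inv_cancel, psi_up] at h2
  have hW : W hK Ps 0 (-(1 ^ 2 * c)) 0 = W hK Ps (0 : K) 0 0 := by
    have := h2.symm
    simpa [W, B1, xx, xGL_zero] using this
  simpa using (W_inj hK hW).2.1

theorem psi_cases {g : Matrix.SpecialLinearGroup (Fin 2) K} {k : Kˣ} (h : psi hK g = parHom hK k) :
    ∃ a : Kˣ, g = (std K).h (a : K) ∧ phi hK a = k := by
  have hdet := g.det_coe
  rw [Matrix.det_fin_two] at hdet
  set M := (g : Matrix (Fin 2) (Fin 2) K) with hM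
  have hP : parHom hK k ∈ chevG2.borelSubgroup K :=
    Subgroup.mem_sup_right ((Torus.range_torusHom mem_data).le ⟨_, rfl⟩)
  have hX : ∀ u, psi hK (up u) ∈ chevG2.posUnipotent K := fun u => by
    rw [psi_up]
    have := W_pos hK 0 u (0 : K)
    simpa [W, B1, xx, xGL_zero] using this
  by_cases hc : M 1 0 = 0
  · have ha : M 0 0 ≠ 0 := by intro e; rw [e, hc] at hdet; simp at hdet
    set a := Units.mk0 _ ha
    have e : g = (std K).h (a : K) * up (M 0 1 / M 0 0) := by
      refine Subtype.ext ?_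
      refine Eq.trans ?_ (Matrix.SpecialLinearGroup.coe_mul _ _).symm
      have hh := θ_h (std K) (MonoidHom.id _) (fun _ => rfl) (fun _ => rfl) a.ne_zero
      simp only [MonoidHom.id_apply] at hh
      rw [hh, coe_up]
      have hd : M 1 1 = (M 0 0)⁻¹ := by
        rw [hc, mul_zero, sub_zero] at hdet
        exact eq_inv_of_mul_eq_one_right hdet
      ext i j
      fin_cases i <;> fin_cases j <;> simp [a, Matrix.mul_apply, Fin.sum_univ_two, ← hM, hc, hd] <;> field_simp
    have h' := h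
    rw [e, map_mul, psi_std_h] at h'
    have h1 : psi hK (up (M 0 1 / M 0 0)) = parHom hK ((phi hK a)⁻¹ * k) := by
      rw [map_mul, map_inv, ← h']; group
    have h2 : parHom hK ((phi hK a)⁻¹ * k) = 1 := Subgroup.mem_bot.1 ((BH.pos_inf_diagonal mem_data).le
      (Subgroup.mem_inf.2 ⟨h1 ▸ hX _, (Torus.range_torusHom mem_data).le ⟨_, rfl⟩⟩))
    have hk : phi hK a = k := inv_mul_eq_one.1 (parHom_inj hK (h2.trans (map_one _).symm))
    refine ⟨a, ?_, hk⟩
    rw [h2, psi_up] at h1
    have hW : W hK Ps 0 (M 0 1 / M 0 0) 0 = W hK Ps (0 : K) 0 0 := by simpa [W, B1, xx, xGL_zero] using h1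
    rw [e, (W_inj hK hW).2.1]
    have : up (0 : K) = 1 := Subtype.ext (by simp [coe_up, Matrix.one_fin_two])
    rw [this, mul_one]
  · exfalso
    have e : g = up ((M 0 0 - 1) / M 1 0) * lo (M 1 0) * up ((M 1 1 - 1) / M 1 0) := by
      ext i j
      fin_cases i <;> fin_cases j <;>
        simp [coe_up, coe_lo, Matrix.mul_apply, Fin.sum_univ_two, ← hM] <;> field_simp <;>
        first
          | ring1
          | linear_combination -hdet
          | linear_combination hdet
    rw [e, map_mul, map_mul] at h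
    refine hc (lo_borel hK ?_)
    have : psi hK (lo (M 1 0)) = (psi hK (up ((M 0 0 - 1) / M 1 0)))⁻¹ * parHom hK k *
        (psi hK (up ((M 1 1 - 1) / M 1 0)))⁻¹ := by rw [← h]; group
    rw [this]
    exact mul_mem (mul_mem (inv_mem (Subgroup.mem_sup_left (hX _))) hP) (inv_mem (Subgroup.mem_sup_left (hX _)))

theorem phi_one {a : Kˣ} (h : phi hK a = 1) : a = 1 ∨ a = -1 := by
  rw [phi_apply] at h
  have h1 : tu hK a ^ 3 = a⁻¹ := eq_inv_of_mul_eq_one_left h
  have h2 : tu hK a = a⁻¹ := by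
    have := congrArg (tu hK) h1
    rw [map_pow, tu3, map_inv] at this
    rw [eq_comm, inv_eq_iff_eq_inv]; exact this
  rw [h2, inv_pow, inv_inj, pow_succ] at h1
  have hu : (a : K) * a = 1 := by
    rw [← pow_two, ← Units.val_pow_eq_pow_val, mul_eq_right.1 h1, Units.val_one]
  rcases mul_self_eq_one_iff.1 hu with e | e
  exacts [Or.inl (Units.ext e), Or.inr (Units.ext (by simpa using e))]

theorem std_h_neg : (std K).h (-1) = -1 := Subtype.ext (by
  have hh := θ_h (std K) (MonoidHom.id _) (fun _ => rfl) (fun _ => rfl) (neg_ne_zero.2 (one_ne_zero (α := K)))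
  simp only [MonoidHom.id_apply] at hh
  refine hh.trans ?_
  ext i j
  fin_cases i <;> fin_cases j <;> simp)

theorem psi_ker : (psi hK).ker = Subgroup.center (Matrix.SpecialLinearGroup (Fin 2) K) := by
  ext g
  rw [CfsgLib.PSL2Two.mem_center', MonoidHom.mem_ker]
  constructor
  · intro h
    obtain ⟨a, e, ha⟩ := psi_cases hK (g := g) (k := 1) (h.trans (map_one _).symm)
    rcases phi_one hK ha with rfl | rfl
    · left; rw [e, Units.val_one]; exact Pre.h_one _
    · right; rw [e, Units.val_neg, Units.val_one]; exact std_h_neg hK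
  · rintro (rfl | rfl)
    · exact map_one _
    · rw [← std_h_neg hK, show (-1 : K) = ((-1 : Kˣ) : K) by simp, psi_std_h]
      have : phi hK (-1) = 1 := Units.ext (by simp [phi_apply, tu, Odd.neg_one_pow (show Odd 3 by decide)])
      rw [this, map_one]

theorem centralizer_card {a : GL chevG2.Idx K} (ha : a = parHom hK (-1)) :
    Nat.card {g : ↥(twistedG2 K (3 ^ m)) // Commute a g} ≤
      Fintype.card K * (Fintype.card K ^ 2 - 1) := by
  classical
  subst ha
  obtain ⟨n, hnf, hnm, -, hn, hg⟩ := rank_one hK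
  set a := parHom hK (-1)
  have hnn : Commute a n := by
    obtain ⟨c, hc⟩ := fixed_torus hK (h := n * a * n⁻¹)
      (N.diagonal_normal mem_data hnm ((Torus.range_torusHom mem_data).le ⟨_, rfl⟩))
      (mul_mem (mul_mem hnf (le_fix hK (parHom_mem hK _))) (inv_mem hnf))
    have hc2 : c * c = 1 := parHom_inj hK (by
      rw [map_mul, ← hc, map_one, show n * a * n⁻¹ * (n * a * n⁻¹) = n * (a * a) * n⁻¹ by group]
      show n * (parHom hK (-1) * parHom hK (-1)) * n⁻¹ = 1
      rw [← map_mul]; simp)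
    have hu : (c : K) * c = 1 := by rw [← Units.val_mul, hc2, Units.val_one]
    rcases mul_self_eq_one_iff.1 hu with e | e
    · rw [Units.ext (e.trans Units.val_one.symm), map_one, conj_eq_one_iff] at hc
      have h0 : (-1 : Kˣ) = 1 := parHom_inj hK (hc.trans (map_one _).symm)
      exact absurd ⟨1, by rw [mul_one]; exact congrArg Units.val h0⟩ (neg_one_not_sq hK)
    · rw [show c = -1 from Units.ext (by simpa using e)] at hc
      exact (mul_inv_eq_iff_eq_mul.1 hc).symm
  have hfix : ∀ {v}, v ∈ chevG2.posUnipotent K → v ∈ (tw hK).fix → Commute a v → ∃ u, v = B1 hK Ps u := by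
    intro v hv hvf hc
    rw [← eq_fix hK] at hvf
    obtain ⟨t, u, w, rfl⟩ := (mem_unip_iff hK v).1 ⟨hv, hvf⟩
    have h := W_conj hK (-1) t u w
    rw [hc.eq, mul_inv_cancel_right] at h
    obtain ⟨et, -, ew⟩ := W_inj hK h
    have h2 : ∀ x : K, x = -x → x = 0 := fun x e => by
      have h3 : (3 : K) * x = 0 := by rw [show (3 : K) = 0 by simpa using three_zero hK, zero_mul]
      linear_combination h3 - e
    have ct : ch0 hK ((-1 : Kˣ) : K) = -1 := by simp [ch0, Odd.neg_one_pow (show Odd 3 by decide)]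
    rw [ct, neg_one_mul] at et
    rw [Units.val_neg, Units.val_one, neg_one_mul] at ew
    refine ⟨u, ?_⟩
    rw [h2 t et, h2 w ew]
    simp [W, B1, xx, xGL_zero]
  have hP : ∀ c, parHom hK c ∈ chevG2.borelSubgroup K := fun c =>
    Subgroup.mem_sup_right ((Torus.range_torusHom mem_data).le ⟨_, rfl⟩)
  have haa : ∀ c, Commute a (parHom hK c) := fun c => (Commute.all (-1 : Kˣ) c).map (parHom hK)
  have hform : ∀ g : ↥(twistedG2 K (3 ^ m)), Commute a g →
      (∃ u c, (g : GL chevG2.Idx K) = B1 hK Ps u * parHom hK c) ∨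
      ∃ u c w, (g : GL chevG2.Idx K) = B1 hK Ps u * parHom hK c * n * B1 hK Ps w := by
    intro g hgc
    rcases hg g (le_fix hK g.2) with hB | ⟨b, hb, hbf, u, hu, huf, e⟩
    · obtain ⟨v, hv, hvf, k, hk, hkf, e⟩ := (tw hK).borel_form hB (le_fix hK g.2)
      obtain ⟨c, rfl⟩ := fixed_torus hK hk hkf
      have hc : Commute a v := by
        have := hgc.mul_right (haa c).inv_right
        rwa [e, mul_inv_cancel_right] at this
      obtain ⟨u, rfl⟩ := hfix hv hvf hc
      exact Or.inl ⟨u, c, e⟩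
    · obtain ⟨v, hv, hvf, k, hk, hkf, eb⟩ := (tw hK).borel_form hb hbf
      obtain ⟨c, rfl⟩ := fixed_torus hK hk hkf
      have haT := le_fix hK (parHom_mem hK (-1))
      have hv' : a * v * a⁻¹ ∈ chevG2.posUnipotent K := borel_norm_pos (hP _) hv
      have hu' : a * u * a⁻¹ ∈ chevG2.posUnipotent K := borel_norm_pos (hP _) hu
      have e2 : v * parHom hK c * n * u = a * v * a⁻¹ * parHom hK c * n * (a * u * a⁻¹) := by
        rw [← eb, ← e]
        have h3 : (g : GL chevG2.Idx K) = a * g * a⁻¹ := by rw [hgc.eq, mul_inv_cancel_right]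
        conv_lhs => rw [h3, e, eb]
        calc a * (v * parHom hK c * n * u) * a⁻¹
            = a * v * a⁻¹ * (a * parHom hK c) * a⁻¹ * (a * n) * a⁻¹ * (a * u * a⁻¹) := by group
          _ = _ := by rw [(haa c).eq, hnn.eq]; group
      have e3 : n * (u * (a * u * a⁻¹)⁻¹) * n⁻¹ = (v * parHom hK c)⁻¹ * (a * v * a⁻¹ * parHom hK c) := by
        calc n * (u * (a * u * a⁻¹)⁻¹) * n⁻¹
            = (v * parHom hK c)⁻¹ * (v * parHom hK c * n * u) * (a * u * a⁻¹)⁻¹ * n⁻¹ := by group
          _ = _ := by rw [e2]; group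
      have e4 : n * (u * (a * u * a⁻¹)⁻¹) * n⁻¹ = 1 := Subgroup.mem_bot.1 ((BH.borel_inf_neg mem_data).le
        (Subgroup.mem_inf.2 ⟨e3 ▸ mul_mem (inv_mem (mul_mem (Subgroup.mem_sup_left hv) (hP c)))
          (mul_mem (Subgroup.mem_sup_left hv') (hP c)), hn _ (mul_mem hu (inv_mem hu'))⟩))
      rw [e4] at e3
      rw [conj_eq_one_iff, mul_inv_eq_one] at e4
      have e5 := inv_mul_eq_one.1 e3.symm
      have hcv : Commute a v := (mul_inv_eq_iff_eq_mul.1 (mul_right_cancel e5).symm)
      have hcu : Commute a u := (mul_inv_eq_iff_eq_mul.1 e4.symm)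
      obtain ⟨u1, rfl⟩ := hfix hv hvf hcv
      obtain ⟨u2, rfl⟩ := hfix hu huf hcu
      exact Or.inr ⟨u1, c, u2, by rw [e, eb]⟩
  let Φ : {g : ↥(twistedG2 K (3 ^ m)) // Commute a g} → (K × Kˣ) ⊕ (K × Kˣ × K) := fun g =>
    if h : ∃ u c, (g.1 : GL chevG2.Idx K) = B1 hK Ps u * parHom hK c then Sum.inl (h.choose, h.choose_spec.choose)
    else Sum.inr (((hform g.1 g.2).resolve_left h).choose, ((hform g.1 g.2).resolve_left h).choose_spec.choose,
      ((hform g.1 g.2).resolve_left h).choose_spec.choose_spec.choose)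
  let dec : (K × Kˣ) ⊕ (K × Kˣ × K) → GL chevG2.Idx K :=
    Sum.elim (fun p => B1 hK Ps p.1 * parHom hK p.2)
      (fun p => B1 hK Ps p.1 * parHom hK p.2.1 * n * B1 hK Ps p.2.2)
  have hdec : ∀ g, dec (Φ g) = (g.1 : GL chevG2.Idx K) := by
    intro g
    simp only [Φ]
    split_ifs with h
    · exact h.choose_spec.choose_spec.symm
    · exact (((hform g.1 g.2).resolve_left h).choose_spec.choose_spec.choose_spec).symm
  refine (Nat.card_le_card_of_injective Φ fun g g' e => ?_).trans (le_of_eq ?_)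
  · exact Subtype.ext (Subtype.ext (by rw [← hdec g, ← hdec g', e]))
  · rw [Nat.card_sum, Nat.card_prod, Nat.card_prod, Nat.card_prod, Nat.card_units, Nat.card_eq_fintype_card]
    have hq : 1 ≤ Fintype.card K := Fintype.card_pos
    obtain ⟨k, hk⟩ := Nat.exists_eq_add_of_le hq
    rw [hk, show (1 + k) ^ 2 - 1 = k * (k + 2) from Nat.sub_eq_of_eq_add (by ring), Nat.add_sub_cancel_left]
    ring

theorem involution_centralizer (a : ↥(twistedG2 K (3 ^ m)))
    (haH : (a : GL chevG2.Idx K) ∈ chevG2.diagonalSubgroup K) (ha1 : a ≠ 1) (ha2 : a * a = 1) :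
    Nonempty (↥(Subgroup.centralizer {a}) ≃*
      Multiplicative (ZMod 2) × Matrix.ProjectiveSpecialLinearGroup (Fin 2) K) ∧
      ∀ S : Sylow 2 ↥(twistedG2 K (3 ^ m)), Nat.card S = 8 ∧ ∀ x ∈ S, x * x = 1 := by
  classical
  obtain ⟨c, hc⟩ := fixed_torus hK haH (le_fix hK a.2)
  have hc2 : c * c = 1 := parHom_inj hK (by
    rw [map_mul, ← hc, map_one]
    exact congrArg Subtype.val ha2)
  have hu : (c : K) * c = 1 := by rw [← Units.val_mul, hc2, Units.val_one]
  have hca : (a : GL chevG2.Idx K) = parHom hK (-1) := by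
    rcases mul_self_eq_one_iff.1 hu with e | e
    · exact absurd (Subtype.ext (hc.trans (by rw [Units.ext (e.trans Units.val_one.symm), map_one]; rfl))) ha1
    · rw [hc, show c = -1 from Units.ext (by simpa using e)]
  have haP : Commute a a := Commute.refl a
  set C := Subgroup.centralizer ({a} : Set ↥(twistedG2 K (3 ^ m)))
  have hmemC : ∀ g : ↥(twistedG2 K (3 ^ m)), g ∈ C ↔ Commute (a : GL chevG2.Idx K) g := by
    intro g
    rw [Subgroup.mem_centralizer_iff]
    exact ⟨fun h => congrArg Subtype.val (h a rfl), fun h b hb => by rw [Set.mem_singleton_iff.1 hb]; exact Subtype.ext h⟩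
  let aC : ↥C := ⟨a, (hmemC a).2 (Commute.refl _)⟩
  have hsq : aC ^ 2 = 1 := Subtype.ext (by rw [pow_two]; exact ha2)
  let f1 : Multiplicative (ZMod 2) →* ↥C :=
    { toFun := fun x => aC ^ (Multiplicative.toAdd x).val
      map_one' := pow_zero _
      map_mul' := fun x y => by
        rw [← pow_add, toAdd_mul, ZMod.val_add, ← pow_eq_pow_mod _ hsq] }
  let g2 : Matrix.SpecialLinearGroup (Fin 2) K →* ↥C :=
    ((psi hK).codRestrict (twistedG2 K (3 ^ m)) fun g => psi_range_le hK ⟨g, rfl⟩).codRestrict C fun g =>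
      (hmemC _).2 (by rw [hca]; exact psi_comm hK g)
  have hg2 : ∀ g, ((g2 g : ↥(twistedG2 K (3 ^ m))) : GL chevG2.Idx K) = psi hK g := fun g => rfl
  let f2 : Matrix.ProjectiveSpecialLinearGroup (Fin 2) K →* ↥C :=
    QuotientGroup.lift _ g2 fun g hg => Subtype.ext (Subtype.ext (by
      rw [hg2, MonoidHom.mem_ker.1 (le_of_eq (psi_ker hK).symm hg)]; rfl))
  have hcomm : ∀ x y, Commute (f1 x) (f2 y) := fun x y => by
    refine Commute.pow_left ?_ _
    refine Subtype.ext (Subtype.ext ?_)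
    have := (hmemC _).1 (f2 y).2
    exact this
  let Φ := f1.noncommCoprod f2 hcomm
  have hodd : Fintype.card K % 2 = 1 := by have := card_mod hK; omega
  have hinj : Function.Injective Φ := by
    rw [injective_iff_map_eq_one]
    rintro ⟨x, y⟩ h
    obtain ⟨g, rfl⟩ := QuotientGroup.mk_surjective y
    have h' : ((a : GL chevG2.Idx K) ^ (Multiplicative.toAdd x).val) * psi hK g = 1 :=
      congrArg (fun z : ↥C => ((z : ↥(twistedG2 K (3 ^ m))) : GL chevG2.Idx K)) h
    obtain ⟨i, hi⟩ : ∃ i : ℕ, (Multiplicative.toAdd x).val = i ∧ i < 2 := ⟨_, rfl, ZMod.val_lt _⟩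
    rw [hi.1] at h'
    have hlt := hi.2
    interval_cases i
    · rw [pow_zero, one_mul] at h'
      have hx : x = 1 := Multiplicative.toAdd.injective ((ZMod.val_eq_zero _).1 hi.1)
      subst hx
      refine Prod.ext rfl ((QuotientGroup.eq_one_iff g).2 ?_)
      rw [← psi_ker hK]; exact h'
    · exfalso
      rw [pow_one, hca] at h'
      obtain ⟨b, -, hb⟩ := psi_cases hK (g := g) (k := (-1)⁻¹) (by rw [map_inv]; exact (inv_eq_of_mul_eq_one_right h').symm)
      exact phi_ne_neg hK b (by rw [hb]; simp)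
  have hcardPSL := CfsgLib.PSL2Two.two_mul_card_PSL (F := K) hodd
  have hbij : Function.Bijective Φ := by
    refine hinj.bijective_of_nat_card_le ?_
    rw [Nat.card_prod, Nat.card_eq_fintype_card (α := Multiplicative (ZMod 2)),
      show Fintype.card (Multiplicative (ZMod 2)) = 2 from rfl, hcardPSL]
    refine le_of_eq_of_le (Nat.card_congr (Equiv.subtypeEquivRight hmemC)) ?_
    exact centralizer_card hK hca
  let e := MulEquiv.ofBijective Φ hbij
  refine ⟨⟨e.symm⟩, ?_⟩
  haveI : Fact (Nat.Prime 2) := ⟨Nat.prime_two⟩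
  obtain ⟨Q⟩ : Nonempty (Sylow 2 (Matrix.ProjectiveSpecialLinearGroup (Fin 2) K)) := inferInstance
  have hq8 : Fintype.card K % 8 = 3 := by
    rw [hK, pow_succ, pow_mul, Nat.mul_mod, Nat.pow_mod]; norm_num
  have hfac : (Nat.card (Matrix.ProjectiveSpecialLinearGroup (Fin 2) K)).factorization 2 = 2 ∧
      (Nat.card ↥(twistedG2 K (3 ^ m))).factorization 2 = 3 := by
    obtain ⟨k, hk⟩ : ∃ k, Fintype.card K = 8 * k + 3 := ⟨Fintype.card K / 8, by omega⟩
    constructor
    · have h1 : Nat.card (Matrix.ProjectiveSpecialLinearGroup (Fin 2) K) = 4 * (Fintype.card K * (4 * k + 1) * (2 * k + 1)) := by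
        have h2 : Fintype.card K ^ 2 - 1 = 8 * ((4 * k + 1) * (2 * k + 1)) := Nat.sub_eq_of_eq_add (by rw [hk]; ring)
        refine Nat.eq_of_mul_eq_mul_left (show 0 < 2 by norm_num) ?_
        rw [hcardPSL, h2]; ring
      rw [h1, Nat.factorization_mul (by norm_num) (by positivity), Finsupp.add_apply,
        Nat.factorization_eq_zero_of_not_dvd (n := Fintype.card K * (4 * k + 1) * (2 * k + 1)) (by
          rw [Nat.dvd_iff_mod_eq_zero, hk]; simp [Nat.mul_mod, Nat.add_mod]), show (4 : ℕ) = 2 ^ 2 from rfl,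
        Nat.Prime.factorization_pow Nat.prime_two, Finsupp.single_eq_same]
    · have h1 : Nat.card ↥(twistedG2 K (3 ^ m)) =
          8 * (Fintype.card K ^ 3 * (4 * k + 1) * (128 * k ^ 3 + 144 * k ^ 2 + 54 * k + 7)) := by
        rw [card_group hK, ← hK, show Fintype.card K - 1 = 2 * (4 * k + 1) by omega,
          show Fintype.card K ^ 3 + 1 = 4 * (128 * k ^ 3 + 144 * k ^ 2 + 54 * k + 7) by
            rw [show Fintype.card K = 8 * k + 3 from hk]; ring]
        ring
      rw [h1, Nat.factorization_mul (by norm_num) (by positivity), Finsupp.add_apply,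
        Nat.factorization_eq_zero_of_not_dvd (n := Fintype.card K ^ 3 * (4 * k + 1) * (128 * k ^ 3 + 144 * k ^ 2 + 54 * k + 7)) (by
          rw [Nat.dvd_iff_mod_eq_zero, hk]; simp [Nat.mul_mod, Nat.add_mod, Nat.pow_mod]),
        show (8 : ℕ) = 2 ^ 3 from rfl, Nat.Prime.factorization_pow Nat.prime_two, Finsupp.single_eq_same]
  have hQ : Nat.card ↥(Q : Subgroup (Matrix.ProjectiveSpecialLinearGroup (Fin 2) K)) = 4 := by
    rw [Q.card_eq_multiplicity, hfac.1]; norm_num
  have hQ2 : ∀ x ∈ (Q : Subgroup (Matrix.ProjectiveSpecialLinearGroup (Fin 2) K)), x * x = 1 := by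
    obtain ⟨k, a', b', hk1, haQ, hbQ, hoa, hob, hab, hba, hall, -⟩ := CfsgLib.PSL2Two.sylow_dihedral hodd Q
    have hd : 2 ^ k ∣ 2 ^ 2 := by
      rw [← hoa, show (2 : ℕ) ^ 2 = 4 from rfl, ← hQ]
      exact Subgroup.orderOf_dvd_natCard _ haQ
    have hk2 : k ≤ 2 := (Nat.pow_dvd_pow_iff_le_right (by norm_num)).1 hd
    have hk : k = 1 := by
      by_contra hne
      obtain rfl : k = 2 := by omega
      have := Subgroup.eq_of_le_of_card_ge (Subgroup.zpowers_le.2 haQ) (by rw [Nat.card_zpowers, hoa, hQ]; norm_num)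
      exact hba (this ▸ hbQ)
    subst hk
    rw [pow_one] at hoa
    have h2a := pow_orderOf_eq_one a'
    rw [hoa, pow_two] at h2a
    have h2b := pow_orderOf_eq_one b'
    rw [hob, pow_two] at h2b
    rw [inv_eq_of_mul_eq_one_right h2a] at hab
    have hcm : Commute b' a' := mul_inv_eq_iff_eq_mul.1 hab
    intro x hx
    obtain ⟨j, rfl | rfl⟩ := hall x hx
    · rw [← (Commute.refl a').mul_zpow, h2a, one_zpow]
    · rw [show a' ^ j * b' * (a' ^ j * b') = a' ^ j * (b' * a' ^ j) * b' by group, (hcm.zpow_right j).eq,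
        ← mul_assoc, mul_assoc _ b', h2b, mul_one, ← (Commute.refl a').mul_zpow, h2a, one_zpow]
  let S0' : Subgroup ↥(twistedG2 K (3 ^ m)) :=
    ((⊤ : Subgroup (Multiplicative (ZMod 2))).prod (Q : Subgroup _)).map ((C.subtype).comp Φ)
  have hinj' : Function.Injective ((C.subtype).comp Φ) := Subtype.val_injective.comp hinj
  have hS0c : Nat.card ↥S0' = 8 := by
    rw [Subgroup.card_map_of_injective hinj', Nat.card_congr (Subgroup.prodEquiv _ _).toEquiv, Nat.card_prod,
      Subgroup.card_top, hQ, Nat.card_eq_fintype_card, show Fintype.card (Multiplicative (ZMod 2)) = 2 from rfl]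
  let S0 : Sylow 2 ↥(twistedG2 K (3 ^ m)) := Sylow.ofCard S0' (by rw [hS0c, hfac.2]; norm_num)
  intro S
  obtain ⟨g, rfl⟩ := MulAction.exists_smul_eq ↥(twistedG2 K (3 ^ m)) S0 S
  refine ⟨by rw [Sylow.card_eq_multiplicity, hfac.2]; norm_num, fun x hx => ?_⟩
  change x ∈ ((g • S0 : Sylow 2 ↥(twistedG2 K (3 ^ m))) : Subgroup ↥(twistedG2 K (3 ^ m))) at hx
  rw [Sylow.coe_subgroup_smul, Subgroup.mem_pointwise_smul_iff_inv_smul_mem] at hx
  obtain ⟨⟨p, y⟩, hp, e⟩ := hx
  have hp2 : (p, y) * (p, y) = (1 : Multiplicative (ZMod 2) × Matrix.ProjectiveSpecialLinearGroup (Fin 2) K) := by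
    refine Prod.ext ?_ (hQ2 y hp.2)
    show p * p = 1
    exact zmod_two_sq p
  have h2 := congrArg ((C.subtype).comp Φ) hp2
  rw [map_mul, map_one, e, ← smul_mul', smul_eq_iff_eq_inv_smul] at h2
  rw [h2]; simp

end CfsgLib.Chev.Twisted.ReeG2
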