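import Cfsg.Agent.Lib.Chev.Twisted.G2Classify

/-! Element orders, their counts and the cyclic Hall subgroups of the small Ree groups. -/

set_option autoImplicit false

open Cfsg Cfsg.Lie
open CfsgLib.Chev CfsgLib.Chev.Checks CfsgLib.Chev.Basic

namespace CfsgLib.Chev.Twisted.ReeG2

variable {K : Type*} [Field K] [Fintype K] {m : ℕ}

section
variable {t : ℕ}

/-- the elements of a torus killed by `k` -/
def powKer (D : TorData K m t) (k : ℕ) : Subgroup ↥(twistedG2 K (3 ^ m)) where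
  carrier := {x | x ∈ D.T ∧ x ^ k = 1}
  one_mem' := ⟨one_mem _, one_pow k⟩
  mul_mem' := fun {a b} ha hb => ⟨mul_mem ha.1 hb.1, by
    rw [(show Commute a b from congrArg Subtype.val (D.comm.is_comm.comm ⟨a, ha.1⟩ ⟨b, hb.1⟩)).mul_pow, ha.2, hb.2,
      one_mul]⟩
  inv_mem' := fun {a} ha => ⟨inv_mem ha.1, by rw [inv_pow, ha.2, inv_one]⟩

theorem pow_ker_le (D : TorData K m t) (k : ℕ) : powKer D k ≤ D.T := fun _ h => h.1

theorem pow_ker_comm (D : TorData K m t) (k : ℕ) : IsMulCommutative (powKer D k) :=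
  ⟨⟨fun a b => Subtype.ext (congrArg Subtype.val (D.comm.is_comm.comm ⟨a, a.2.1⟩ ⟨b, b.2.1⟩) :)⟩⟩

theorem pow_ker_char (D : TorData K m t) (k : ℕ) :
    ∀ n ∈ Subgroup.normalizer (D.T : Set ↥(twistedG2 K (3 ^ m))), ∀ a ∈ powKer D k, n * a * n⁻¹ ∈ powKer D k :=
  fun n hn a ha => ⟨(Subgroup.mem_normalizer_iff.1 hn a).1 ha.1, by rw [conj_pow, ha.2]; group⟩

end

variable (hK : Fintype.card K = 3 ^ (2 * m + 1))
include hK

theorem four_two (g : ↥(twistedG2 K (3 ^ m))) (h : g ^ 4 = 1) : g * g = 1 := by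
  have hn4 := not_four hK g
  obtain ⟨j, hj, hj'⟩ := (Nat.dvd_prime_pow Nat.prime_two).1 (show orderOf g ∣ 2 ^ 2 from orderOf_dvd_of_pow_eq_one h)
  rw [hj'] at hn4
  rw [← pow_two]
  refine orderOf_dvd_iff_pow_eq_one.1 ?_
  interval_cases j <;> simp_all

theorem pow_ker_card {t : ℕ} (D : TorData K m t) {c k : ℕ} (hc4 : c ∣ 4) (ht : t = c * k) (hk : Odd k)
    (hc : Nat.card {x : D.T // x * x = 1} = c) : Nat.card (powKer D k) = k := by
  letI : CommGroup D.T := { (inferInstance : Group D.T) with mul_comm := fun a b => D.comm.is_comm.comm a b }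
  let f : D.T →* D.T := powMonoidHom k
  have e1 : Nat.card f.ker * Nat.card f.range = c * k := by
    rw [← Subgroup.index_ker, Subgroup.card_mul_index, D.card, ht]
  have e2 : Nat.card f.ker = Nat.card (powKer D k) := by
    refine Nat.card_congr ⟨fun x => ⟨x.1.1, x.1.2, congrArg Subtype.val (MonoidHom.mem_ker.1 x.2 :)⟩,
      fun x => ⟨⟨x.1, x.2.1⟩, MonoidHom.mem_ker.2 (Subtype.ext x.2.2)⟩, fun _ => rfl, fun _ => rfl⟩
  have e3 : Nat.card f.range ≤ c := by
    conv_rhs => rw [← hc]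
    refine Nat.card_le_card_of_injective (fun y => ⟨y.1, ?_⟩) fun a b h => Subtype.ext (congrArg Subtype.val h :)
    obtain ⟨x, hx⟩ := y.2
    have hy : (y.1 : D.T) ^ 4 = 1 := by
      obtain ⟨j, hj⟩ := hc4
      have hxt : x ^ t = 1 := by
        have := pow_card_eq_one' (x := x)
        rwa [D.card] at this
      rw [← hx, show f x = x ^ k from rfl, ← pow_mul, show k * 4 = t * j by rw [hj, ht]; ring, pow_mul, hxt, one_pow]
    refine Subtype.ext ?_
    exact four_two hK _ (congrArg Subtype.val hy :)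
  have hodd : ¬ 2 ∣ Nat.card (powKer D k) := fun h => by
    haveI := Fact.mk Nat.prime_two
    obtain ⟨z, hz⟩ := exists_prime_orderOf_dvd_card' (G := powKer D k) 2 h
    have : orderOf z ∣ k := orderOf_dvd_of_pow_eq_one (Subtype.ext z.2.2)
    rw [hz] at this
    have := Nat.odd_iff.1 hk
    omega
  have hdvd : Nat.card (powKer D k) ∣ k := by
    refine Nat.Coprime.dvd_of_dvd_mul_left ?_ (by rw [← e2, ← e1]; exact dvd_mul_right _ _)
    refine Nat.Coprime.coprime_dvd_right hc4 ?_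
    exact (Nat.prime_two.coprime_iff_not_dvd.2 hodd).symm.pow_right 2
  refine le_antisymm (Nat.le_of_dvd hk.pos hdvd) ?_
  have hc0 : 0 < c := Nat.pos_of_dvd_of_pos hc4 (by norm_num)
  rw [e2] at e1
  refine Nat.le_of_mul_le_mul_left ?_ hc0
  rw [← e1, mul_comm c]
  exact Nat.mul_le_mul_left _ e3

theorem pow_ker_cyclic (hm : 1 ≤ m) {t : ℕ} (D : TorData K m t) {k : ℕ} (hcard : Nat.card (powKer D k) = k)
    (hk : Odd k) (hk3 : ¬ 3 ∣ k) : IsCyclic (powKer D k) := by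
  haveI := pow_ker_comm D k
  refine cyclic_of_primes hK hm _ fun l hl hlk => ?_
  rw [hcard] at hlk
  have h2 : l ≠ 2 := fun e => by
    subst e
    have := Nat.odd_iff.1 hk
    omega
  have h3 : l ≠ 3 := fun e => hk3 (e ▸ hlk)
  have := hl.two_le
  omega

theorem hex_prod (hm : 1 ≤ m) :
    (Fintype.card K - 3 ^ (m + 1) + 1) * (Fintype.card K + 3 ^ (m + 1) + 1) =
      Fintype.card K ^ 2 - Fintype.card K + 1 := by
  have h1 : 3 ^ (m + 1) ≤ Fintype.card K := by rw [hK]; exact Nat.pow_le_pow_right (by norm_num) (by omega)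
  have h2 : Fintype.card K ≤ Fintype.card K ^ 2 := Nat.le_self_pow (by norm_num) _
  have hr2 : ((3 ^ (m + 1) : ℕ) : ℤ) ^ 2 = 3 * Fintype.card K := by rw [hK]; push_cast; ring
  zify [h1, h2]
  push_cast at hr2
  linear_combination (-1 : ℤ) * hr2

theorem quarter_facts (hm : 1 ≤ m) :
    Fintype.card K + 1 = 4 * ((Fintype.card K + 1) / 4) ∧ Odd ((Fintype.card K + 1) / 4) ∧
      ¬ 3 ∣ (Fintype.card K + 1) / 4 ∧ 1 < (Fintype.card K + 1) / 4 := by
  obtain ⟨h27, h8, h3⟩ := q_facts hK hm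
  exact ⟨by omega, Nat.odd_iff.2 (by omega), by omega, by omega⟩

theorem half_facts (hm : 1 ≤ m) :
    Fintype.card K - 1 = 2 * ((Fintype.card K - 1) / 2) ∧ Odd ((Fintype.card K - 1) / 2) ∧
      ¬ 3 ∣ (Fintype.card K - 1) / 2 ∧ 1 < (Fintype.card K - 1) / 2 := by
  obtain ⟨h27, h8, h3⟩ := q_facts hK hm
  exact ⟨by omega, Nat.odd_iff.2 (by omega), by omega, by omega⟩

theorem hex_parity (hm : 1 ≤ m) {t : ℕ}
    (ht : t = Fintype.card K - 3 ^ (m + 1) + 1 ∨ t = Fintype.card K + 3 ^ (m + 1) + 1) : Odd t ∧ ¬ 3 ∣ t := by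
  obtain ⟨h27, h8, h3⟩ := q_facts hK hm
  have h1 : 3 ^ (m + 1) ≤ Fintype.card K := by rw [hK]; exact Nat.pow_le_pow_right (by norm_num) (by omega)
  have hr2 : 3 ^ (m + 1) % 2 = 1 := by rw [Nat.pow_mod]; simp
  have hr3 : 3 ^ (m + 1) % 3 = 0 := by rw [Nat.pow_mod]; simp
  rcases ht with rfl | rfl <;> exact ⟨Nat.odd_iff.2 (by omega), by omega⟩

theorem odd_prime_of {i : ℕ} (hi : 1 < i) (ho : Odd i) (h3 : ¬ 3 ∣ i) : ∃ r, r.Prime ∧ 3 < r ∧ r ∣ i := by
  obtain ⟨r, hr, hri⟩ := Nat.exists_prime_and_dvd (by omega : i ≠ 1)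
  refine ⟨r, hr, ?_, hri⟩
  have := hr.two_le
  have : r ≠ 3 := by rintro rfl; exact h3 hri
  have : r ≠ 2 := by
    rintro rfl
    have := Nat.odd_iff.1 ho
    omega
  omega

omit hK in
theorem cyc_count {G : Type*} [Group G] [Finite G] [IsCyclic G] {i : ℕ} (h : i ∣ Nat.card G) :
    Nat.card {x : G // orderOf x = i} = Nat.totient i := by
  classical
  haveI := Fintype.ofFinite G
  rw [Nat.card_eq_fintype_card, Fintype.card_subtype]
  exact IsCyclic.card_orderOf_eq_totient (by rwa [← Nat.card_eq_fintype_card])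

theorem split_count (hm : 1 ≤ m) {i : ℕ} (hi : 2 < i) (hd : i ∣ Fintype.card K - 1) :
    2 * Nat.card {g : ↥(twistedG2 K (3 ^ m)) // orderOf g = i} =
      Nat.totient i * Fintype.card K ^ 3 * (Fintype.card K ^ 3 + 1) := by
  obtain ⟨h27, h8, h3⟩ := q_facts hK hm
  obtain ⟨hsq, hQ⟩ := q_sq hK hm
  obtain ⟨⟨D, hc, hN⟩, -⟩ := small_tori hK hm
  obtain ⟨r, hr, hr2, hri⟩ : ∃ r : ℕ, r.Prime ∧ r ≠ 2 ∧ r ∣ i := by
    by_contra hall
    push Not at hall
    have hj := Nat.eq_prime_pow_of_unique_prime_dvd (p := 2) (by omega : i ≠ 0) (fun {d} hd' hdd => by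
      by_contra h; exact hall d hd' h hdd)
    generalize i.primeFactorsList.length = j at hj
    subst hj
    rcases j with - | - | j
    · norm_num at hi
    · norm_num at hi
    · have : 4 ∣ Fintype.card K - 1 := (Dvd.intro (2 ^ j) (by ring)).trans hd
      omega
  have hr3 : 3 < r := by
    have := hr.two_le
    have : r ≠ 3 := by
      rintro rfl
      have := hri.trans hd
      omega
    omega
  have h := count_order hK hm D (i := i) (fun h => by have := Nat.le_of_dvd (by norm_num) h; omega)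
    ⟨r, hr, hr3, hri, hri.trans hd⟩
  haveI := hc
  rw [cyc_count (G := D.T) (by rwa [D.card]), hN, card_eq' hK, hsq] at h
  have e : Fintype.card K ^ 3 + 1 = (Fintype.card K + 1) * (Fintype.card K ^ 2 - Fintype.card K + 1) := by
    rw [hQ]
    obtain ⟨j, hj⟩ : ∃ j, Fintype.card K = j + 1 := ⟨Fintype.card K - 1, by omega⟩
    rw [hj, Nat.add_sub_cancel]; ring
  rw [e]
  refine Nat.eq_of_mul_eq_mul_right (show 0 < Fintype.card K - 1 by omega) ?_
  linarith

theorem quarter_data (hm : 1 ≤ m) :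
    ∃ D : TorData K m (Fintype.card K + 1), Nat.card {x : D.T // x * x = 1} = 4 ∧
      Nat.card (Subgroup.normalizer (D.T : Set ↥(twistedG2 K (3 ^ m)))) = 6 * (Fintype.card K + 1) ∧
      Nat.card (powKer D ((Fintype.card K + 1) / 4)) = (Fintype.card K + 1) / 4 ∧
      IsCyclic (powKer D ((Fintype.card K + 1) / 4)) := by
  obtain ⟨-, D, h2, hN⟩ := small_tori hK hm
  obtain ⟨e, ho, h3, -⟩ := quarter_facts hK hm
  have hc := pow_ker_card hK D (c := 4) dvd_rfl e ho h2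
  exact ⟨D, h2, hN, hc, pow_ker_cyclic hK hm D hc ho h3⟩

theorem quarter_count (hm : 1 ≤ m) {i : ℕ} (hi : 1 < i) (hd : i ∣ (Fintype.card K + 1) / 4) :
    6 * Nat.card {g : ↥(twistedG2 K (3 ^ m)) // orderOf g = i} =
        Nat.totient i * Fintype.card K ^ 3 * (Fintype.card K - 1) * (Fintype.card K ^ 2 - Fintype.card K + 1) ∧
      2 * Nat.card {g : ↥(twistedG2 K (3 ^ m)) // orderOf g = 2 * i} =
        Nat.totient i * Fintype.card K ^ 3 * (Fintype.card K - 1) * (Fintype.card K ^ 2 - Fintype.card K + 1) := by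
  classical
  obtain ⟨hsq, hQ⟩ := q_sq hK hm
  obtain ⟨e, ho, h3, h1⟩ := quarter_facts hK hm
  obtain ⟨D, h2, hN, hc, hcyc⟩ := quarter_data hK hm
  set k := (Fintype.card K + 1) / 4
  have hio : Odd i := Odd.of_dvd_nat ho hd
  obtain ⟨r, hr, hr3, hri⟩ := odd_prime_of hK hi hio fun h => h3 (h.trans hd)
  have hrt : r ∣ Fintype.card K + 1 := (hri.trans hd).trans ⟨4, by omega⟩
  have hn2 : ¬ i ∣ 2 := fun h => by
    have := Nat.le_of_dvd (by norm_num) h
    have := Nat.odd_iff.1 hio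
    omega
  have hφ : Nat.card {x : D.T // orderOf x = i} = Nat.totient i := by
    haveI := hcyc
    rw [← cyc_count (G := powKer D k) (i := i) (by rwa [hc])]
    refine Nat.card_congr ⟨fun x => ⟨⟨x.1.1, x.1.2, orderOf_dvd_iff_pow_eq_one.1 ?_⟩, ?_⟩,
      fun x => ⟨⟨x.1.1, x.1.2.1⟩, ?_⟩, fun _ => rfl, fun _ => rfl⟩
    · rw [Subgroup.orderOf_coe, x.2]; exact hd
    · rw [← Subgroup.orderOf_coe]; exact (Subgroup.orderOf_coe x.1).trans x.2
    · rw [← Subgroup.orderOf_coe]; exact (Subgroup.orderOf_coe x.1).trans x.2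
  have h3c : Nat.card {v : D.T // v * v = 1 ∧ v ≠ 1} = 3 := by
    haveI := Fintype.ofFinite D.T
    rw [Nat.card_eq_fintype_card, Fintype.card_subtype] at h2 ⊢
    rw [show (Finset.univ.filter fun v : D.T => v * v = 1 ∧ v ≠ 1) =
        (Finset.univ.filter fun v : D.T => v * v = 1).erase 1 by
      ext v; simp [and_comm],
      Finset.card_erase_of_mem (by simp), h2]
  have hpair : Nat.card {x : D.T // orderOf x = 2 * i} = 3 * Nat.totient i := by
    rw [show 3 * Nat.totient i = Nat.card ({v : D.T // v * v = 1 ∧ v ≠ 1} × {x : D.T // orderOf x = i}) by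
      rw [Nat.card_prod, h3c, hφ]]
    obtain ⟨j, hj⟩ := hio
    have hcm : ∀ a b : D.T, Commute a b := fun a b => D.comm.is_comm.comm a b
    have hx2 : ∀ x : {x : D.T // orderOf x = 2 * i}, x.1 ^ (2 * i) = 1 := fun x =>
      orderOf_dvd_iff_pow_eq_one.1 x.2.dvd
    have hvi : ∀ v : D.T, v * v = 1 → v ^ i = v := fun v hv => by
      rw [hj, pow_succ, pow_mul, pow_two, hv, one_pow, one_mul]
    refine Nat.card_congr ⟨fun x => (⟨x.1 ^ i, ?_, ?_⟩, ⟨x.1 ^ (i + 1), ?_⟩), fun p => ⟨p.1.1 * p.2.1, ?_⟩,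
      fun x => Subtype.ext ?_, fun p => Prod.ext (Subtype.ext ?_) (Subtype.ext ?_)⟩
    · rw [← pow_add, ← two_mul]; exact hx2 x
    · intro h
      have := Nat.le_of_dvd (by omega) (x.2 ▸ orderOf_dvd_of_pow_eq_one h)
      omega
    · rw [orderOf_pow, x.2, show i + 1 = 2 * (j + 1) by omega, Nat.gcd_mul_left,
        show Nat.gcd i (j + 1) = 1 by
          refine Nat.coprime_iff_gcd_eq_one.1 (Nat.coprime_of_dvd fun l hl h1 h2 => ?_)
          have hl1 : l ∣ i + 1 := h2.trans ⟨2, by omega⟩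
          exact hl.not_dvd_one ((Nat.dvd_add_right h1).1 hl1)]
      omega
    · have hv2 : orderOf p.1.1 = 2 :=
        orderOf_eq_prime (by rw [pow_two]; exact p.1.2.1) p.1.2.2
      rw [(hcm _ _).orderOf_mul_eq_mul_orderOf_of_coprime (by
        rw [hv2, p.2.2]; exact Nat.prime_two.coprime_iff_not_dvd.2 (by omega)), hv2, p.2.2]
    · show x.1 ^ i * x.1 ^ (i + 1) = x.1
      rw [← pow_add, show i + (i + 1) = 2 * i + 1 by omega, pow_succ, hx2, one_mul]
    · show (p.1.1 * p.2.1) ^ i = p.1.1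
      conv_lhs => rw [(hcm _ _).mul_pow]
      have hy : p.2.1 ^ i = 1 := by
        have := pow_orderOf_eq_one p.2.1
        rwa [p.2.2] at this
      rw [hy, mul_one, hvi _ p.1.2.1]
    · show (p.1.1 * p.2.1) ^ (i + 1) = p.2.1
      conv_lhs => rw [(hcm _ _).mul_pow]
      have hy : p.2.1 ^ i = 1 := by
        have := pow_orderOf_eq_one p.2.1
        rwa [p.2.2] at this
      rw [show i + 1 = 2 * (j + 1) by omega, pow_mul p.1.1, pow_two, p.1.2.1, one_pow, one_mul,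
        show 2 * (j + 1) = i + 1 by omega, pow_succ, hy, one_mul]
  have ha := count_order hK hm D hn2 ⟨r, hr, hr3, hri, hrt⟩
  have hb := count_order hK hm D (i := 2 * i) (fun h => by have := Nat.le_of_dvd (by norm_num) h; omega)
    ⟨r, hr, hr3, hri.mul_left 2, hrt⟩
  rw [hφ, hN, card_eq' hK, hsq] at ha
  rw [hpair, hN, card_eq' hK, hsq] at hb
  have hpos : 0 < Fintype.card K + 1 := Nat.succ_pos _
  refine ⟨Nat.eq_of_mul_eq_mul_right hpos (by linarith), Nat.eq_of_mul_eq_mul_right hpos ?_⟩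
  linarith

theorem hex_count (hm : 1 ≤ m) {t t' i : ℕ}
    (ht : t = Fintype.card K - 3 ^ (m + 1) + 1 ∨ t = Fintype.card K + 3 ^ (m + 1) + 1)
    (htt : t * t' = Fintype.card K ^ 2 - Fintype.card K + 1) (hi : 1 < i) (hd : i ∣ t) :
    6 * Nat.card {g : ↥(twistedG2 K (3 ^ m)) // orderOf g = i} =
      Nat.totient i * Fintype.card K ^ 3 * (Fintype.card K ^ 2 - 1) * t' := by
  obtain ⟨hsq, hQ⟩ := q_sq hK hm
  obtain ⟨ht1, -, D, hc, hN⟩ := hex_tori hK hm t ht
  obtain ⟨hto, ht3⟩ := hex_parity hK hm ht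
  obtain ⟨r, hr, hr3, hri⟩ := odd_prime_of hK hi (Odd.of_dvd_nat hto hd) fun h => ht3 (h.trans hd)
  haveI := hc
  have h := count_order hK hm D (i := i) (fun h => by
      have := Nat.le_of_dvd (by norm_num) (hri.trans h); omega)
    ⟨r, hr, hr3, hri, hri.trans hd⟩
  rw [cyc_count (G := D.T) (by rwa [D.card]), hN, card_eq' hK, ← htt] at h
  refine Nat.eq_of_mul_eq_mul_right (show 0 < t by omega) ?_
  linarith

theorem order_pow {d : ℕ} {g : ↥(twistedG2 K (3 ^ m))} (h : d ∣ orderOf g) :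
    ∃ g' : ↥(twistedG2 K (3 ^ m)), orderOf g' = d :=
  ⟨g ^ (orderOf g / d), orderOf_pow_orderOf_div (orderOf_pos g).ne' h⟩

theorem order_iff (hm : 1 ≤ m) (d : ℕ) :
    (∃ g : ↥(twistedG2 K (3 ^ m)), orderOf g = d) ↔
      (d ∣ 6 ∨ d ∣ 9 ∨ d ∣ Fintype.card K - 1 ∨ d ∣ (Fintype.card K + 1) / 2 ∨
        d ∣ Fintype.card K - 3 ^ (m + 1) + 1 ∨ d ∣ Fintype.card K + 3 ^ (m + 1) + 1) := by
  obtain ⟨h27, h8, h3⟩ := q_facts hK hm
  obtain ⟨D2, h22, hN2, hc2, hcyc2⟩ := quarter_data hK hm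
  obtain ⟨⟨D1, hc1, -⟩, -⟩ := small_tori hK hm
  constructor
  · rintro ⟨g, rfl⟩
    by_cases h3' : 3 ∣ orderOf g
    · obtain ⟨c, -, e | e | ⟨e, -⟩⟩ := three_cases hK hm h3' <;> rw [e] <;> norm_num
    by_cases h2 : orderOf g ∣ 2
    · exact Or.inl (h2.trans (by norm_num))
    obtain ⟨r, hr, hr3, hrg⟩ := exists_prime_order hK hm h2 h3'
    rcases prime_of_group hK hm hr hr3 (hrg.trans (orderOf_dvd_natCard g)) with h | h | h
    · exact Or.inr (Or.inr (Or.inl (in_tor_dvd hK hm D1 ⟨r, hr, hr3, hrg, h⟩)))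
    · refine Or.inr (Or.inr (Or.inr (Or.inl ?_)))
      obtain ⟨u, hu⟩ := in_tor_dvd hK hm D2 ⟨r, hr, hr3, hrg, h⟩
      have hn4 := not_four hK g
      rcases Nat.even_or_odd u with ⟨v, rfl⟩ | ho
      · exact ⟨v, by rw [hu, ← two_mul, mul_left_comm]; omega⟩
      · exfalso
        refine hn4 ?_
        have : (Nat.Coprime 4 u) := by
          rw [show (4 : ℕ) = 2 ^ 2 by norm_num]
          exact ((Nat.prime_two.coprime_iff_not_dvd).2 (by have := Nat.odd_iff.1 ho; omega)).pow_left 2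
        exact this.dvd_of_dvd_mul_right (by rw [← hu]; omega)
    · rw [← hex_prod hK hm] at h
      rcases hr.dvd_mul.1 h with h | h
      · obtain ⟨-, -, D, -⟩ := hex_tori hK hm _ (Or.inl rfl)
        exact Or.inr (Or.inr (Or.inr (Or.inr (Or.inl (in_tor_dvd hK hm D ⟨r, hr, hr3, hrg, h⟩)))))
      · obtain ⟨-, -, D, -⟩ := hex_tori hK hm _ (Or.inr rfl)
        exact Or.inr (Or.inr (Or.inr (Or.inr (Or.inr (in_tor_dvd hK hm D ⟨r, hr, hr3, hrg, h⟩)))))
  · have hgen : ∀ {t : ℕ} (T : Subgroup ↥(twistedG2 K (3 ^ m))), IsCyclic T → Nat.card T = t →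
        ∃ g : ↥(twistedG2 K (3 ^ m)), orderOf g = t := fun T hT e => by
      haveI := hT
      obtain ⟨g, hg⟩ := IsCyclic.exists_ofOrder_eq_natCard (α := T)
      exact ⟨g, by rw [Subgroup.orderOf_coe, hg, e]⟩
    have hpos : ∀ j, j = 6 ∨ j = 9 → ∃ g : ↥(twistedG2 K (3 ^ m)), orderOf g = j := by
      intro j hj
      have : Nat.card {g : ↥(twistedG2 K (3 ^ m)) // orderOf g = j} ≠ 0 := by
        rcases hj with rfl | rfl
        · rw [count_six hK hm]
          have : 0 < Fintype.card K - 1 := by omega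
          positivity
        · rw [count_nine hK hm]
          have : 0 < Fintype.card K - 1 := by omega
          positivity
      obtain ⟨⟨g, hg⟩⟩ := (Nat.card_ne_zero.1 this).1
      exact ⟨g, hg⟩
    rintro (h | h | h | h | h | h)
    · obtain ⟨g, hg⟩ := hpos 6 (Or.inl rfl)
      exact order_pow hK (hg ▸ h)
    · obtain ⟨g, hg⟩ := hpos 9 (Or.inr rfl)
      exact order_pow hK (hg ▸ h)
    · obtain ⟨g, hg⟩ := hgen D1.T hc1 D1.card
      exact order_pow hK (hg ▸ h)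
    · obtain ⟨e, ho, -, -⟩ := quarter_facts hK hm
      haveI := hcyc2
      obtain ⟨y, hy⟩ := IsCyclic.exists_ofOrder_eq_natCard (α := powKer D2 ((Fintype.card K + 1) / 4))
      haveI := Fact.mk Nat.prime_two
      obtain ⟨v, hv⟩ := exists_prime_orderOf_dvd_card' (G := D2.T) 2 (by rw [D2.card]; omega)
      have hyo : orderOf (y : ↥(twistedG2 K (3 ^ m))) = (Fintype.card K + 1) / 4 := by
        rw [Subgroup.orderOf_coe, hy, hc2]
      have hvo : orderOf (v : ↥(twistedG2 K (3 ^ m))) = 2 := by rw [Subgroup.orderOf_coe, hv]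
      have hcm : Commute (v : ↥(twistedG2 K (3 ^ m))) y :=
        congrArg Subtype.val (D2.comm.is_comm.comm v ⟨y, y.2.1⟩)
      have hvy : orderOf ((v : ↥(twistedG2 K (3 ^ m))) * y) = (Fintype.card K + 1) / 2 := by
        rw [hcm.orderOf_mul_eq_mul_orderOf_of_coprime (by
          rw [hvo, hyo]
          exact Nat.prime_two.coprime_iff_not_dvd.2 (by have := Nat.odd_iff.1 ho; omega)), hvo, hyo]
        omega
      exact order_pow hK (hvy ▸ h)
    · obtain ⟨-, -, D, hc, -⟩ := hex_tori hK hm _ (Or.inl rfl)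
      obtain ⟨g, hg⟩ := hgen D.T hc D.card
      exact order_pow hK (hg ▸ h)
    · obtain ⟨-, -, D, hc, -⟩ := hex_tori hK hm _ (Or.inr rfl)
      obtain ⟨g, hg⟩ := hgen D.T hc D.card
      exact order_pow hK (hg ▸ h)

omit hK in
/-- the normaliser of a nontrivial subgroup of an odd cyclic characteristic part of a torus -/
theorem hall_norm {t : ℕ} (D : TorData K m t) {A A₀ : Subgroup ↥(twistedG2 K (3 ^ m))} (hc : IsCyclic A)
    (hAT : A ≤ D.T) (hodd : Odd (Nat.card A))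
    (hchar : ∀ n ∈ Subgroup.normalizer (D.T : Set ↥(twistedG2 K (3 ^ m))), ∀ a ∈ A, n * a * n⁻¹ ∈ A)
    (h0 : A₀ ≤ A) (hne : A₀ ≠ ⊥) :
    Subgroup.normalizer (A₀ : Set ↥(twistedG2 K (3 ^ m))) =
      Subgroup.normalizer (D.T : Set ↥(twistedG2 K (3 ^ m))) := by
  haveI := hc
  have hcent : ∀ a ∈ A, a ≠ 1 → Subgroup.centralizer {a} = D.T := fun a ha ha1 => by
    refine D.cent a (hAT ha) fun h => ha1 (orderOf_eq_one_iff.1 ?_)
    exact Nat.eq_one_of_dvd_coprimes (Nat.prime_two.coprime_iff_not_dvd.2 (by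
      have := Nat.odd_iff.1 hodd; omega)) h (Subgroup.orderOf_dvd_natCard A ha)
  refine le_antisymm (fun n hn => ?_) fun n hn => ?_
  · obtain ⟨a, ha, ha1⟩ := (Subgroup.bot_or_exists_ne_one A₀).resolve_left hne
    have hna := h0 ((Subgroup.mem_normalizer_iff.1 hn a).1 ha)
    have e := hcent _ hna (fun h => ha1 (by
      have := congrArg (fun z => n⁻¹ * z * n) h
      simpa [mul_assoc] using this))
    rw [cent_conj, hcent a (h0 ha) ha1] at e
    rw [Subgroup.mem_normalizer_iff]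
    intro x
    constructor
    · intro hx
      rw [← e]
      exact Subgroup.mem_map.2 ⟨x, hx, by simp⟩
    · intro hx
      rw [← e] at hx
      obtain ⟨y, hy, hy'⟩ := Subgroup.mem_map.1 hx
      rwa [show x = y from (MulAut.conj n).injective (by simpa using hy'.symm)]
  · have hmap : A₀.map (MulAut.conj n).toMonoidHom = A₀ := by
      have hle : A₀.map (MulAut.conj n).toMonoidHom ≤ A := by
        rintro _ ⟨a, ha, rfl⟩
        exact hchar n hn a (h0 ha)
      have h := cyc_eq (A := A) (H := (A₀.map (MulAut.conj n).toMonoidHom).subgroupOf A) (K := A₀.subgroupOf A) (by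
        rw [Nat.card_congr (Subgroup.subgroupOfEquivOfLe hle).toEquiv,
          Nat.card_congr (Subgroup.subgroupOfEquivOfLe h0).toEquiv,
          Subgroup.card_map_of_injective (MulAut.conj n).injective])
      exact le_antisymm (fun x hx => (h.le (x := ⟨x, hle hx⟩) hx :)) fun x hx => (h.ge (x := ⟨x, h0 hx⟩) hx :)
    rw [Subgroup.mem_normalizer_iff]
    intro x
    constructor
    · intro hx
      rw [← hmap]
      exact Subgroup.mem_map.2 ⟨x, hx, by simp⟩
    · intro hx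
      rw [← hmap] at hx
      obtain ⟨y, hy, hy'⟩ := Subgroup.mem_map.1 hx
      rwa [show x = y from (MulAut.conj n).injective (by simpa using hy'.symm)]

omit hK in
theorem hall_pack {t k N : ℕ} (D : TorData K m t) (A : Subgroup ↥(twistedG2 K (3 ^ m))) (hc : IsCyclic A)
    (hAT : A ≤ D.T) (hk : Nat.card A = k) (hodd : Odd k) (hk1 : 1 < k)
    (hchar : ∀ n ∈ Subgroup.normalizer (D.T : Set ↥(twistedG2 K (3 ^ m))), ∀ a ∈ A, n * a * n⁻¹ ∈ A)
    (hN : Nat.card (Subgroup.normalizer (D.T : Set ↥(twistedG2 K (3 ^ m)))) = N) :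
    ∃ A : Subgroup ↥(twistedG2 K (3 ^ m)), IsCyclic A ∧ Nat.card A = k ∧
      Nat.card (Subgroup.normalizer (A : Set ↥(twistedG2 K (3 ^ m)))) = N ∧
      ∀ A₀ : Subgroup ↥(twistedG2 K (3 ^ m)), A₀ ≤ A → A₀ ≠ ⊥ →
        Subgroup.normalizer (A₀ : Set ↥(twistedG2 K (3 ^ m))) = Subgroup.normalizer (A : Set ↥(twistedG2 K (3 ^ m))) := by
  have hA : A ≠ ⊥ := fun h => by rw [h, Subgroup.card_bot] at hk; omega
  have h := fun {A₀} => hall_norm D hc hAT (hk ▸ hodd) hchar (A₀ := A₀)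
  refine ⟨A, hc, hk, by rw [h le_rfl hA, hN], fun A₀ h0 hne => by rw [h h0 hne, h le_rfl hA]⟩

theorem half_hall (hm : 1 ≤ m) :
    ∃ A : Subgroup ↥(twistedG2 K (3 ^ m)), IsCyclic A ∧ Nat.card A = (Fintype.card K - 1) / 2 ∧
      Nat.card (Subgroup.normalizer (A : Set ↥(twistedG2 K (3 ^ m)))) = 2 * (Fintype.card K - 1) ∧
      ∀ A₀ : Subgroup ↥(twistedG2 K (3 ^ m)), A₀ ≤ A → A₀ ≠ ⊥ →
        Subgroup.normalizer (A₀ : Set ↥(twistedG2 K (3 ^ m))) = Subgroup.normalizer (A : Set ↥(twistedG2 K (3 ^ m))) := by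
  classical
  obtain ⟨h27, h8, h3⟩ := q_facts hK hm
  obtain ⟨e, ho, hk3, hk1⟩ := half_facts hK hm
  obtain ⟨⟨D, hc, hN⟩, -⟩ := small_tori hK hm
  haveI := hc
  have h2 : Nat.card {x : D.T // x * x = 1} = 2 := by
    haveI : Fintype D.T := Fintype.ofFinite _
    have heq : ∀ x : D.T, x * x = 1 ↔ orderOf x = 1 ∨ orderOf x = 2 := fun x => by
      rw [← Nat.dvd_prime Nat.prime_two, orderOf_dvd_iff_pow_eq_one, pow_two]
    rw [Nat.card_congr (Equiv.subtypeEquivRight heq), Nat.card_congr (subtypeOrEquiv _ _ (by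
      rintro P h1 h2 x hx; have := h1 x hx; have := h2 x hx; omega)), Nat.card_sum,
      cyc_count (G := D.T) (one_dvd _), cyc_count (G := D.T) (by rw [D.card]; omega)]
    decide
  have hcard := pow_ker_card hK D (c := 2) ⟨2, rfl⟩ e ho h2
  exact hall_pack D _ (pow_ker_cyclic hK hm D hcard ho hk3) (pow_ker_le D _) hcard ho hk1 (pow_ker_char D _) hN

theorem quarter_hall (hm : 1 ≤ m) :
    ∃ A : Subgroup ↥(twistedG2 K (3 ^ m)), IsCyclic A ∧ Nat.card A = (Fintype.card K + 1) / 4 ∧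
      Nat.card (Subgroup.normalizer (A : Set ↥(twistedG2 K (3 ^ m)))) = 6 * (Fintype.card K + 1) ∧
      ∀ A₀ : Subgroup ↥(twistedG2 K (3 ^ m)), A₀ ≤ A → A₀ ≠ ⊥ →
        Subgroup.normalizer (A₀ : Set ↥(twistedG2 K (3 ^ m))) = Subgroup.normalizer (A : Set ↥(twistedG2 K (3 ^ m))) := by
  obtain ⟨-, ho, -, hk1⟩ := quarter_facts hK hm
  obtain ⟨D, -, hN, hcard, hc⟩ := quarter_data hK hm
  exact hall_pack D _ hc (pow_ker_le D _) hcard ho hk1 (pow_ker_char D _) hN

theorem hex_hall (hm : 1 ≤ m) {t : ℕ}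
    (ht : t = Fintype.card K - 3 ^ (m + 1) + 1 ∨ t = Fintype.card K + 3 ^ (m + 1) + 1) :
    ∃ A : Subgroup ↥(twistedG2 K (3 ^ m)), IsCyclic A ∧ Nat.card A = t ∧
      Nat.card (Subgroup.normalizer (A : Set ↥(twistedG2 K (3 ^ m)))) = 6 * t ∧
      ∀ A₀ : Subgroup ↥(twistedG2 K (3 ^ m)), A₀ ≤ A → A₀ ≠ ⊥ →
        Subgroup.normalizer (A₀ : Set ↥(twistedG2 K (3 ^ m))) = Subgroup.normalizer (A : Set ↥(twistedG2 K (3 ^ m))) := by
  obtain ⟨ht1, -, D, hc, hN⟩ := hex_tori hK hm t ht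
  exact hall_pack D D.T hc le_rfl D.card (hex_parity hK hm ht).1 ht1
    (fun n hn a ha => (Subgroup.mem_normalizer_iff.1 hn a).1 ha) hN

end CfsgLib.Chev.Twisted.ReeG2
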