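import Cfsg.Agent.Lib.Chev.Twisted.G2Tori
import Mathlib.FieldTheory.Finite.GaloisField
import Mathlib.LinearAlgebra.Matrix.GeneralLinearGroup.Card
import Mathlib.RingTheory.Norm.Basic

/-! The seven dimensional representation of `G₂` in characteristic three, and the Sylow subgroups
of the small Ree groups for the primes larger than three. -/

set_option autoImplicit false

open Cfsg Cfsg.Lie
open CfsgLib.Chev CfsgLib.Chev.Checks CfsgLib.Chev.Basic

namespace CfsgLib.Chev.Twisted.ReeG2

/-- the coordinates of the seven dimensional submodule -/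
def short7 : Fin 7 → chevG2.Idx :=
  ![Sum.inl ⟨0, by decide⟩, Sum.inr ⟨2, by decide⟩, Sum.inr ⟨3, by decide⟩, Sum.inr ⟨4, by decide⟩,
    Sum.inr ⟨7, by decide⟩, Sum.inr ⟨8, by decide⟩, Sum.inr ⟨9, by decide⟩]

theorem short_table :
    (∀ r : Fin 12, ∀ u : Fin 12, (u : ℕ) ∉ [2, 3, 4, 7, 8, 9] → u = r →
      ((chevG2.cartanSR.getD 0 #[]).getD r 0) % 3 = 0) ∧
    (∀ r : Fin 12, ∀ s : Fin 12, (s : ℕ) ∈ [2, 3, 4, 7, 8, 9] → (s : ℕ) = chevG2.negIdx.getD r 0 →
      ((chevG2.coroot.getD r #[]).getD 1 0) % 3 = 0 ∧ (r : ℕ) ∈ [2, 3, 4, 7, 8, 9]) ∧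
    (∀ r : Fin 12, ∀ s : Fin 12, ∀ u : Fin 12, (s : ℕ) ∈ [2, 3, 4, 7, 8, 9] → (u : ℕ) ∉ [2, 3, 4, 7, 8, 9] →
      ∀ km ∈ chevG2.chainCoeff r s u, km.2 % 3 = 0) := by decide +kernel

theorem short7_inj : Function.Injective short7 := by decide +kernel

theorem short7_cases : (∀ j a, short7 j = Sum.inl a → (a : ℕ) = 0) ∧
    (∀ j s, short7 j = Sum.inr s → (s : ℕ) ∈ [2, 3, 4, 7, 8, 9]) := by decide +kernel

/-- Subgroups of a finite cyclic group are determined by their orders. -/
theorem cyc_eq {A : Type*} [Group A] [Finite A] [IsCyclic A] {H K : Subgroup A}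
    (h : Nat.card H = Nat.card K) : H = K := by
  classical
  haveI := Fintype.ofFinite A
  have key : ∀ L : Subgroup A, Nat.card L = Nat.card H →
      Finset.univ.filter (· ∈ L) = Finset.univ.filter (fun a : A => a ^ Nat.card H = 1) := by
    intro L hL
    refine Finset.eq_of_subset_of_card_le (fun a ha => ?_) ?_
    · simp only [Finset.mem_filter, Finset.mem_univ, true_and] at ha ⊢
      rw [← hL]
      exact orderOf_dvd_iff_pow_eq_one.mp (by
        rw [← Subgroup.orderOf_mk a ha]; exact orderOf_dvd_natCard _)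
    · refine le_of_le_of_eq (IsCyclic.card_pow_eq_one_le Nat.card_pos) ?_
      rw [← hL, Nat.card_eq_fintype_card, Fintype.card_subtype]
  ext a
  have := Finset.ext_iff.mp ((key H rfl).trans (key K h.symm).symm) a
  simpa using this

variable {K : Type*} [Field K] [CharP K 3]

theorem cast_three {z : ℤ} (h : z % 3 = 0) : (z : K) = 0 := by
  rw [CharP.intCast_eq_zero_iff K 3]; exact Int.dvd_of_emod_eq_zero h

/-- the matrices fixing the submodule -/
def Stable (M : Matrix chevG2.Idx chevG2.Idx K) : Prop :=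
  ∀ i, i ∉ Set.range short7 → ∀ j, M i (short7 j) = 0

theorem stable_x (r : Fin chevG2.nroots) (t : K) : Stable (chevG2.xMat K r t) := by
  intro i hi j
  obtain ⟨t1, t2, t3⟩ := short_table
  have hin : ∀ u : Fin 12, (Sum.inr u : chevG2.Idx) ∉ Set.range short7 → (u : ℕ) ∉ [2, 3, 4, 7, 8, 9] := by
    intro u hu hm
    apply hu
    simp only [List.mem_cons, List.not_mem_nil, or_false] at hm
    rcases hm with h | h | h | h | h | h
    · exact ⟨1, congrArg Sum.inr (Fin.ext h.symm)⟩
    · exact ⟨2, congrArg Sum.inr (Fin.ext h.symm)⟩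
    · exact ⟨3, congrArg Sum.inr (Fin.ext h.symm)⟩
    · exact ⟨4, congrArg Sum.inr (Fin.ext h.symm)⟩
    · exact ⟨5, congrArg Sum.inr (Fin.ext h.symm)⟩
    · exact ⟨6, congrArg Sum.inr (Fin.ext h.symm)⟩
  rcases hj : short7 j with a | s
  · have ha : a = (⟨0, by decide⟩ : Fin 2) := Fin.ext (short7_cases.1 j a hj)
    subst ha
    rcases i with a' | u
    · have : a' ≠ (⟨0, by decide⟩ : Fin 2) := fun e => hi ⟨0, by rw [e]; rfl⟩
      show (if a' = _ then (1 : K) else 0) = 0
      rw [if_neg this]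
    · show (if u = r then _ else (0 : K)) = 0
      split_ifs with hu
      · rw [cast_three (t1 r u (hin u hi) hu), neg_zero, zero_mul]
      · rfl
  · have hs : (s : ℕ) ∈ [2, 3, 4, 7, 8, 9] := short7_cases.2 j s hj
    have hne : ∀ u : Fin 12, (Sum.inr u : chevG2.Idx) ∉ Set.range short7 → u ≠ s := fun u hu e =>
      hin u hu (e ▸ hs)
    simp only [ChevalleyDatum.xMat, Matrix.of_apply]
    split_ifs with h1 h2
    · rcases i with a' | u
      · rfl
      · show (if u = r then (1 : K) else 0) = 0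
        rw [if_neg fun e => hne u hi (e.trans h1.symm)]
    · obtain ⟨c1, c2⟩ := t2 r s hs h2
      rcases i with a' | u
      · have : a' = (⟨1, by decide⟩ : Fin 2) := by
          have h0 : a' ≠ (⟨0, by decide⟩ : Fin 2) := fun e => hi ⟨0, by rw [e]; rfl⟩
          refine Fin.ext ?_
          have h1 : (a' : ℕ) ≠ 0 := fun e => h0 (Fin.ext e)
          have h2 : (a' : ℕ) < 2 := a'.isLt
          show (a' : ℕ) = 1
          omega
        subst this
        show _ * t = 0
        rw [cast_three c1, zero_mul]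
      · show (if u = s then (1 : K) else if u = r then _ else 0) = 0
        rw [if_neg (show ¬ u = s from hne u hi), if_neg fun e => hin u hi (by rw [e]; exact c2)]
    · rcases i with a' | u
      · rfl
      · show (if u = s then (1 : K) else 0) + _ = 0
        rw [if_neg (show ¬ u = s from hne u hi), zero_add]
        refine List.sum_eq_zero fun x hx => ?_
        obtain ⟨km, hkm, rfl⟩ := List.mem_map.1 hx
        rw [cast_three (t3 r s u hs (hin u hi) km hkm), zero_mul]

/-- restriction to the submodule -/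
def restrict7 (M : Matrix chevG2.Idx chevG2.Idx K) : Matrix (Fin 7) (Fin 7) K := M.submatrix short7 short7

omit [CharP K 3] in
theorem restrict_mul (M N : Matrix chevG2.Idx chevG2.Idx K) (hN : Stable N) :
    restrict7 (M * N) = restrict7 M * restrict7 N := by
  classical
  ext i j
  rw [restrict7, Matrix.submatrix_apply, Matrix.mul_apply, Matrix.mul_apply]
  symm
  exact Fintype.sum_of_injective short7 short7_inj _ _ (fun l hl => by rw [hN l hl j, mul_zero]) fun _ => rfl

omit [CharP K 3] in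
theorem stable_mul {M N : Matrix chevG2.Idx chevG2.Idx K} (hM : Stable M) (hN : Stable N) : Stable (M * N) := by
  intro i hi j
  rw [Matrix.mul_apply]
  refine Finset.sum_eq_zero fun l _ => ?_
  by_cases hl : l ∈ Set.range short7
  · obtain ⟨l', rfl⟩ := hl
    rw [hM i hi l', zero_mul]
  · rw [hN l hl j, mul_zero]

theorem stable_group [Finite K] {g : GL chevG2.Idx K} (hg : g ∈ chevG2.group K) :
    Stable (g : Matrix chevG2.Idx chevG2.Idx K) := by
  haveI : Fintype K := Fintype.ofFinite K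
  induction hg using Subgroup.closure_induction_left with
  | one =>
    intro i hi j
    exact Matrix.one_apply_ne fun e => hi ⟨j, e.symm⟩
  | mul_left x hx y hy ih =>
    obtain ⟨r, t, e⟩ := hx
    rw [Units.val_mul, e]
    exact stable_mul (stable_x r t) ih
  | inv_mul_cancel x hx y hy ih =>
    have hs : ∀ n : ℕ, Stable ((x ^ n * y : GL chevG2.Idx K) : Matrix chevG2.Idx chevG2.Idx K) := by
      obtain ⟨r, t, e⟩ := hx
      intro n
      induction n with
      | zero => simpa using ih
      | succ n ihn =>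
        rw [pow_succ', mul_assoc, Units.val_mul, e]
        exact stable_mul (stable_x r t) ihn
    obtain ⟨n, hn⟩ : ∃ n : ℕ, x⁻¹ = x ^ n :=
      ⟨orderOf x - 1, inv_eq_of_mul_eq_one_right (by
        rw [← pow_succ', Nat.sub_add_cancel (orderOf_pos x), pow_orderOf_eq_one])⟩
    rw [hn]
    exact hs n

/-- the representation of degree seven -/
noncomputable def rep7 [Finite K] : ↥(chevG2.group K) →* GL (Fin 7) K :=
  MonoidHom.toHomUnits
    { toFun := fun g => restrict7 ((g : GL chevG2.Idx K) : Matrix chevG2.Idx chevG2.Idx K)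
      map_one' := by
        rw [OneMemClass.coe_one, Units.val_one, restrict7, Matrix.submatrix_one _ short7_inj]
      map_mul' := fun g h => by
        rw [Subgroup.coe_mul, Units.val_mul, restrict_mul _ _ (stable_group h.2)] }

omit [CharP K 3] in
/-- a Sylow subgroup of `GL₇(q)` for a prime whose order modulo `q` is six -/
theorem gl_seven_sylow {F : Type*} [Field F] [Fintype F] {p : ℕ} [hp : Fact p.Prime]
    (hp1 : ∀ k ∈ [1, 2, 3, 4, 5, 7], ¬ p ∣ Fintype.card F ^ k - 1) (hpq : ¬ p ∣ Fintype.card F) :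
    ∃ R : Sylow p (GL (Fin 7) F), IsCyclic (R : Subgroup (GL (Fin 7) F)) ∧ ∀ y ∈ R, orderOf y = p →
      (∀ a b : GL (Fin 7) F, a * y = y * a → b * y = y * b → a * b = b * a) ∧
      ∀ (g : GL (Fin 7) F) (k : ℕ), g * y * g⁻¹ = y ^ k → ∃ i, y ^ k = y ^ Fintype.card F ^ i := by
  classical
  obtain ⟨ℓ, hℓ⟩ := CharP.exists F
  haveI : Fact ℓ.Prime := ⟨(CharP.char_is_prime_or_zero F ℓ).resolve_right (CharP.char_ne_zero_of_finite F ℓ)⟩
  let L := FiniteField.Extension F ℓ 6
  haveI : Fintype L := Fintype.ofFinite L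
  have hL : Module.finrank F L = 6 := FiniteField.finrank_extension F ℓ 6
  have hfin : Module.finrank F (L × F) = 7 := by rw [Module.finrank_prod, hL, Module.finrank_self]
  let b := Module.finBasisOfFinrankEq F (L × F) hfin
  let φ : Lˣ →* GL (Fin 7) F :=
    (Units.map (Algebra.leftMulMatrix b).toRingHom.toMonoidHom).comp
      ((MulEquiv.prodUnits (M := L) (N := F)).symm.toMonoidHom.comp (MonoidHom.inl Lˣ Fˣ))
  have hφ : Function.Injective φ :=
    (Units.map_injective (Algebra.leftMulMatrix_injective b)).comp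
      ((MulEquiv.prodUnits (M := L) (N := F)).symm.injective.comp fun x y h => (Prod.ext_iff.1 h).1)
  have hcardL : Nat.card Lˣ = Fintype.card F ^ 6 - 1 := by
    rw [Nat.card_units, Module.natCard_eq_pow_finrank (K := F), hL, Nat.card_eq_fintype_card]
  set q := Fintype.card F
  have hq : 2 ≤ q := Fintype.one_lt_card
  obtain ⟨R⟩ : Nonempty (Sylow p φ.range) := inferInstance
  have hrc : Nat.card φ.range = q ^ 6 - 1 := by
    rw [← Nat.card_congr (MonoidHom.ofInjective hφ).toEquiv, hcardL]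
  obtain ⟨M, hM, hnd⟩ : ∃ M, Nat.card (GL (Fin 7) F) = (q ^ 6 - 1) * M ∧ ¬ p ∣ M := by
    refine ⟨(q ^ 7 - 1) * q * (q ^ 2 * (q ^ 5 - 1)) * (q ^ 3 * (q ^ 4 - 1)) * (q ^ 4 * (q ^ 3 - 1)) *
      (q ^ 5 * (q ^ 2 - 1)) * (q ^ 6 * (q ^ 1 - 1)), ?_, ?_⟩
    · rw [Matrix.card_GL_field, Fin.prod_univ_seven]
      simp only [Fin.val_zero, Fin.val_one, Fin.val_two, pow_zero, pow_one,
        show ((3 : Fin 7) : ℕ) = 3 from rfl, show ((4 : Fin 7) : ℕ) = 4 from rfl, show ((5 : Fin 7) : ℕ) = 5 from rfl,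
        show ((6 : Fin 7) : ℕ) = 6 from rfl]
      have e : ∀ i k, i + k = 7 → q ^ 7 - q ^ i = q ^ i * (q ^ k - 1) := fun i k h => by
        rw [Nat.mul_sub, mul_one, ← pow_add, h]
      have e1 := e 1 6 rfl
      rw [pow_one] at e1
      have e6 := e 6 1 rfl
      rw [pow_one] at e6
      rw [e1, e 2 5 rfl, e 3 4 rfl, e 4 3 rfl, e 5 2 rfl, e6]
      ring
    · intro h
      have hk : ∀ k ∈ [1, 2, 3, 4, 5, 7], ¬ p ∣ q ^ k - 1 := hp1
      simp only [hp.out.dvd_mul] at h
      have hpk : ∀ k, ¬ p ∣ q ^ k := fun k h => hpq (hp.out.dvd_of_dvd_pow h)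
      rcases h with ((((((h | h) | (h | h)) | (h | h)) | (h | h)) | (h | h)) | (h | h))
      all_goals first
        | exact hpk _ h
        | exact hpq h
        | exact hk _ (by simp) h
  have hRc : Nat.card ((R : Subgroup φ.range).map φ.range.subtype) =
      p ^ (Nat.card (GL (Fin 7) F)).factorization p := by
    rw [Subgroup.card_map_of_injective φ.range.subtype_injective, R.card_eq_multiplicity, hrc, hM,
      Nat.factorization_mul (by rw [← hrc]; exact Nat.card_pos.ne' : q ^ 6 - 1 ≠ 0)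
        (fun e => hnd (by rw [e]; exact dvd_zero p)), Finsupp.add_apply,
      Nat.factorization_eq_zero_of_not_dvd hnd, add_zero]
  let R' : Sylow p (GL (Fin 7) F) := Sylow.ofCard _ hRc
  haveI : IsCyclic φ.range := isCyclic_of_surjective φ.rangeRestrict φ.rangeRestrict_surjective
  refine ⟨R', isCyclic_of_surjective _ ((R : Subgroup φ.range).equivMapOfInjective _ φ.range.subtype_injective).surjective, ?_⟩
  rintro y ⟨⟨_, l, rfl⟩, -, rfl⟩ hy
  change orderOf (φ l) = p at hy
  rw [orderOf_injective φ hφ] at hy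
  refine ⟨fun a c ha hc => ?_, fun g k hgk => ?_⟩
  case refine_2 =>
    change g * φ l * g⁻¹ = φ l ^ k at hgk
    change ∃ i, φ l ^ k = φ l ^ q ^ i
    set P₁ := minpoly F (l : L) * (Polynomial.X - Polynomial.C 1) with hP₁
    have hval : ∀ u : Lˣ, ((φ u : GL (Fin 7) F) : Matrix (Fin 7) (Fin 7) F) = Algebra.leftMulMatrix b ((u : L), 1) :=
      fun u => rfl
    have hae : ∀ (u : L) (Q : Polynomial F), Polynomial.aeval ((u, 1) : L × F) Q = (Polynomial.aeval u Q, Q.eval 1) :=
      fun u Q => Prod.ext (Polynomial.aeval_algHom_apply (AlgHom.fst F L F) _ Q).symm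
        ((Polynomial.aeval_algHom_apply (AlgHom.snd F L F) _ Q).symm.trans (by simp))
    have hconj : ∀ (M : Matrix (Fin 7) (Fin 7) F) (Q : Polynomial F),
        Polynomial.aeval ((g : Matrix (Fin 7) (Fin 7) F) * M * ((g⁻¹ : GL (Fin 7) F) : Matrix (Fin 7) (Fin 7) F)) Q =
          (g : Matrix (Fin 7) (Fin 7) F) * Polynomial.aeval M Q * ((g⁻¹ : GL (Fin 7) F) : Matrix (Fin 7) (Fin 7) F) := by
      intro M Q
      induction Q using Polynomial.induction_on' with
      | add A B hA hB => rw [map_add, map_add, hA, hB, mul_add, add_mul]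
      | monomial n c =>
        rw [Polynomial.aeval_monomial, Polynomial.aeval_monomial, Units.conj_pow]
        simp only [← Algebra.smul_def, Matrix.mul_smul, Matrix.smul_mul]
    have h0 : Polynomial.aeval ((φ l : GL (Fin 7) F) : Matrix (Fin 7) (Fin 7) F) P₁ = 0 := by
      rw [hval, Polynomial.aeval_algHom_apply, hae, hP₁, map_mul, minpoly.aeval, zero_mul, Polynomial.eval_mul,
        Polynomial.eval_sub, Polynomial.eval_X, Polynomial.eval_C, sub_self, mul_zero]
      exact map_zero _
    have h1 := hconj ((φ l : GL (Fin 7) F) : Matrix (Fin 7) (Fin 7) F) P₁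
    rw [h0, mul_zero, zero_mul, ← Units.val_mul, ← Units.val_mul, hgk, ← map_pow, hval,
      Polynomial.aeval_algHom_apply, hae, map_eq_zero_iff _ (Algebra.leftMulMatrix_injective b), hP₁, map_mul,
      map_sub, Polynomial.aeval_X, Polynomial.aeval_C, map_one] at h1
    have h2 := congrArg Prod.fst h1
    simp only [Prod.fst_zero] at h2
    have hlk : l ^ k ≠ 1 := fun e => by
      rw [← map_pow, e, map_one, conj_eq_one_iff] at hgk
      exact hp.out.one_lt.ne' (by rw [← hy, hφ (hgk.trans (map_one φ).symm), orderOf_one])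
    have hroot : Polynomial.aeval ((l ^ k : Lˣ) : L) (minpoly F (l : L)) = 0 :=
      (mul_eq_zero.1 h2).resolve_right fun e => hlk (Units.ext (by rw [Units.val_one]; exact sub_eq_zero.1 e))
    obtain ⟨σ, hσ⟩ := minpoly.exists_algEquiv_of_root' (K := F) (Algebra.IsAlgebraic.isAlgebraic (l : L)) hroot
    obtain ⟨i, rfl⟩ := (FiniteField.bijective_frobeniusAlgEquivOfAlgebraic_pow F L).2 σ
    refine ⟨i, ?_⟩
    rw [← map_pow, ← map_pow]
    refine congrArg φ (Units.ext ?_)
    rw [← hσ, AlgEquiv.coe_pow, FiniteField.coe_frobeniusAlgEquivOfAlgebraic_iterate, Units.val_pow_eq_pow_val]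
  -- the element generates the field extension
  have hgen : IntermediateField.adjoin F {(l : L)} = ⊤ := by
    set E := IntermediateField.adjoin F {(l : L)}
    have hkd : Module.finrank F E ∣ 6 := ⟨_, (hL.symm.trans (Module.finrank_mul_finrank F E L).symm)⟩
    refine IntermediateField.eq_of_le_of_finrank_eq le_top ?_
    rw [IntermediateField.finrank_top', hL]
    by_contra hne
    have hlE : (l : L) ∈ E := IntermediateField.mem_adjoin_simple_self F _
    haveI : Finite E := Finite.of_injective _ (Subtype.val_injective)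
    haveI : Fintype E := Fintype.ofFinite E
    have h1 : (⟨(l : L), hlE⟩ : E) ^ (q ^ Module.finrank F E - 1) = 1 := by
      have hc : Fintype.card E = q ^ Module.finrank F E := by
        rw [← Nat.card_eq_fintype_card, Module.natCard_eq_pow_finrank (K := F), Nat.card_eq_fintype_card]
      rw [← hc]
      exact FiniteField.pow_card_sub_one_eq_one _ (fun e => l.ne_zero (congrArg Subtype.val e))
    have h2 : l ^ (q ^ Module.finrank F E - 1) = 1 := Units.ext (by
      rw [Units.val_pow_eq_pow_val, Units.val_one]; exact congrArg Subtype.val h1)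
    refine hp1 (Module.finrank F E) ?_ (hy ▸ orderOf_dvd_of_pow_eq_one h2)
    have := Nat.le_of_dvd (by norm_num) hkd
    generalize Module.finrank F E = k at hkd hne this
    interval_cases k <;> simp_all
  have hl1 : (l : L) ≠ 1 := fun e => hp.out.one_lt.ne' (by
    rw [← hy, show l = 1 from Units.ext e, orderOf_one])
  set y0 : L × F := ((l : L), 1)
  have hker : ∀ M : GL (Fin 7) F, M * φ l = φ l * M → ∃ z : L × F, (M : Matrix (Fin 7) (Fin 7) F) = Algebra.leftMulMatrix b z := by
    intro M hM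
    let f := Matrix.toLin b b (M : Matrix (Fin 7) (Fin 7) F)
    have hf : ∀ w, f (y0 * w) = y0 * f w := by
      intro w
      have h := congrArg (fun N : GL (Fin 7) F => Matrix.toLin b b (N : Matrix (Fin 7) (Fin 7) F) w) hM
      have hy' : ((φ l : GL (Fin 7) F) : Matrix (Fin 7) (Fin 7) F) = Algebra.leftMulMatrix b y0 := rfl
      simp only [Units.val_mul, hy', Matrix.toLin_mul b b b, LinearMap.comp_apply] at h
      rw [Algebra.leftMulMatrix_apply, Matrix.toLin_toMatrix, Algebra.coe_lmul_eq_mul,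
        LinearMap.mul_apply', LinearMap.mul_apply'] at h
      exact h
    let S : Subalgebra F (L × F) :=
      { carrier := {z | ∀ w, f (z * w) = z * f w}
        mul_mem' := fun {x z} hx hz w => by rw [mul_assoc, hx, hz, mul_assoc]
        add_mem' := fun {x z} hx hz w => by rw [add_mul, map_add, hx, hz, add_mul]
        algebraMap_mem' := fun r w => by rw [← Algebra.smul_def, ← Algebra.smul_def, map_smul] }
    have hy0 : y0 ∈ S := hf
    have hae : ∀ P : Polynomial F, Polynomial.aeval y0 P = (Polynomial.aeval (l : L) P, P.eval 1) := fun P =>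
      Prod.ext (Polynomial.aeval_algHom_apply (AlgHom.fst F L F) y0 P).symm
        ((Polynomial.aeval_algHom_apply (AlgHom.snd F L F) y0 P).symm.trans (by simp [y0]))
    have hSae : ∀ P : Polynomial F, Polynomial.aeval y0 P ∈ S := fun P =>
      Algebra.adjoin_le (Set.singleton_subset_iff.2 hy0) (Polynomial.aeval_mem_adjoin_singleton F y0)
    have hint : IsIntegral F (l : L) := Algebra.IsIntegral.isIntegral _
    set P₀ := minpoly F (l : L)
    have he : P₀.eval 1 ≠ 0 := fun e => hl1 (by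
      rw [← minpoly.root hint (y := (1 : F)) e, map_one])
    have h01 : ((0, 1) : L × F) ∈ S := by
      have h := S.smul_mem (hSae P₀) (P₀.eval 1)⁻¹
      rw [hae, minpoly.aeval, Prod.smul_mk, smul_zero, smul_eq_mul, inv_mul_cancel₀ he] at h
      exact h
    have h10 : ∀ z : L, ((z, 0) : L × F) ∈ S := by
      intro z
      have hz : z ∈ Algebra.adjoin F {(l : L)} := by
        rw [← IntermediateField.adjoin_simple_toSubalgebra_of_isAlgebraic hint.isAlgebraic, hgen]
        exact Algebra.mem_top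
      rw [Algebra.adjoin_singleton_eq_range_aeval] at hz
      obtain ⟨Q, rfl⟩ := hz
      have h := sub_mem (hSae Q) (S.smul_mem h01 (Q.eval 1))
      rw [hae, Prod.smul_mk, smul_zero, smul_eq_mul, mul_one, Prod.mk_sub_mk, sub_zero, sub_self] at h
      exact h
    have hall : ∀ z : L × F, z ∈ S := fun z => by
      rw [show z = (z.1, 0) + z.2 • ((0, 1) : L × F) by ext <;> simp]
      exact add_mem (h10 _) (S.smul_mem h01 _)
    refine ⟨f 1, ?_⟩
    have hfm : f = Algebra.lmul F (L × F) (f 1) := LinearMap.ext fun w => by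
      have := hall w 1
      rw [mul_one] at this
      rw [Algebra.coe_lmul_eq_mul, LinearMap.mul_apply', this, mul_comm]
    rw [Algebra.leftMulMatrix_apply, ← hfm]
    exact (LinearMap.toMatrix_toLin b b _).symm
  obtain ⟨z, hz⟩ := hker a ha
  obtain ⟨w, hw⟩ := hker c hc
  refine Units.ext ?_
  rw [Units.val_mul, Units.val_mul, hz, hw, ← map_mul, ← map_mul, mul_comm]

omit [CharP K 3] in
theorem gl_seven_cyclic {F : Type*} [Field F] [Fintype F] {p : ℕ} [hp : Fact p.Prime]
    (hp1 : ∀ k ∈ [1, 2, 3, 4, 5, 7], ¬ p ∣ Fintype.card F ^ k - 1) (hpq : ¬ p ∣ Fintype.card F)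
    (P : Subgroup (GL (Fin 7) F)) (hP : IsPGroup p P) : IsCyclic P := by
  obtain ⟨R, hR, -⟩ := gl_seven_sylow hp1 hpq
  obtain ⟨Q, hQ⟩ := hP.exists_le_sylow
  haveI := hR
  haveI : IsCyclic (Q : Subgroup (GL (Fin 7) F)) := isCyclic_of_surjective _ (R.equiv Q).surjective
  exact isCyclic_of_injective (Subgroup.inclusion hQ) (Subgroup.inclusion_injective hQ)

omit [CharP K 3] in
theorem gl_seven_cent {F : Type*} [Field F] [Fintype F] {p : ℕ} [hp : Fact p.Prime]
    (hp1 : ∀ k ∈ [1, 2, 3, 4, 5, 7], ¬ p ∣ Fintype.card F ^ k - 1) (hpq : ¬ p ∣ Fintype.card F)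
    {y : GL (Fin 7) F} (hy : orderOf y = p) {a b : GL (Fin 7) F} (ha : a * y = y * a) (hb : b * y = y * b) :
    a * b = b * a := by
  obtain ⟨R, -, hR⟩ := gl_seven_sylow hp1 hpq
  obtain ⟨Q, hQ⟩ := IsPGroup.exists_le_sylow (p := p) (P := Subgroup.zpowers y)
    (IsPGroup.of_card (n := 1) (by rw [Nat.card_zpowers, pow_one, hy]))
  obtain ⟨g, hg⟩ := MulAction.exists_smul_eq (GL (Fin 7) F) Q R
  have hmem : MulAut.conj g y ∈ R := by
    show MulAut.conj g y ∈ (R : Subgroup (GL (Fin 7) F))
    rw [← hg, Sylow.coe_subgroup_smul]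
    exact Subgroup.smul_mem_pointwise_smul y (MulAut.conj g) _ (hQ (Subgroup.mem_zpowers y))
  refine (MulAut.conj g).injective ?_
  rw [map_mul, map_mul]
  refine (hR _ hmem ?_).1 _ _ ?_ ?_
  · rw [← hy]; exact orderOf_injective (MulAut.conj g).toMonoidHom (MulAut.conj g).injective y
  · rw [← map_mul, ← map_mul, ha]
  · rw [← map_mul, ← map_mul, hb]

omit [CharP K 3] in
theorem gl_seven_power {F : Type*} [Field F] [Fintype F] {p : ℕ} [hp : Fact p.Prime]
    (hp1 : ∀ k ∈ [1, 2, 3, 4, 5, 7], ¬ p ∣ Fintype.card F ^ k - 1) (hpq : ¬ p ∣ Fintype.card F)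
    {y g : GL (Fin 7) F} (hy : orderOf y = p) {k : ℕ} (h : g * y * g⁻¹ = y ^ k) :
    ∃ i, y ^ k = y ^ Fintype.card F ^ i := by
  obtain ⟨R, -, hR⟩ := gl_seven_sylow hp1 hpq
  obtain ⟨Q, hQ⟩ := IsPGroup.exists_le_sylow (p := p) (P := Subgroup.zpowers y)
    (IsPGroup.of_card (n := 1) (by rw [Nat.card_zpowers, pow_one, hy]))
  obtain ⟨c, hc⟩ := MulAction.exists_smul_eq (GL (Fin 7) F) Q R
  have hmem : MulAut.conj c y ∈ R := by
    show MulAut.conj c y ∈ (R : Subgroup (GL (Fin 7) F))
    rw [← hc, Sylow.coe_subgroup_smul]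
    exact Subgroup.smul_mem_pointwise_smul y (MulAut.conj c) _ (hQ (Subgroup.mem_zpowers y))
  obtain ⟨i, hi⟩ := (hR _ hmem (by
    rw [← hy]; exact orderOf_injective (MulAut.conj c).toMonoidHom (MulAut.conj c).injective y)).2
      (MulAut.conj c g) k (by rw [← map_inv, ← map_mul, ← map_mul, h, map_pow])
  exact ⟨i, (MulAut.conj c).injective (by rw [map_pow, map_pow]; exact hi)⟩

omit [CharP K 3]
variable [Fintype K] {m : ℕ} (hK : Fintype.card K = 3 ^ (2 * m + 1))

include hK

/-- the faithful representation of degree seven -/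
theorem rep_inj (hm : 1 ≤ m) : ∃ f : ↥(twistedG2 K (3 ^ m)) →* GL (Fin 7) K, Function.Injective f := by
  haveI := char_three hK
  have hsub : twistedG2 K (3 ^ m) ≤ chevG2.group K :=
    (le_fix hK).trans fun g hg => ((tw hK).mem_fix.1 hg).1
  let f : ↥(twistedG2 K (3 ^ m)) →* GL (Fin 7) K := (rep7 (K := K)).comp (Subgroup.inclusion hsub)
  haveI := (simple_group hK hm).1
  have hf : Function.Injective f := by
    rw [← MonoidHom.ker_eq_bot_iff]
    refine (IsSimpleGroup.eq_bot_or_eq_top_of_normal f.ker inferInstance).resolve_right fun e => ?_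
    have hP : rep7 (K := K) ⟨parHom hK (-1), hsub (parHom_mem hK _)⟩ = 1 :=
      MonoidHom.mem_ker.1 (show inv0 hK ∈ f.ker by rw [e]; exact Subgroup.mem_top _)
    have e7 : rep7 (K := K) ⟨xx 7 (-1), xx_mem 7 _⟩ = rep7 ⟨xx 7 1, xx_mem 7 _⟩ := by
      have hc : (⟨xx 7 (-1), xx_mem 7 _⟩ : ↥(chevG2.group K)) = ⟨parHom hK (-1), hsub (parHom_mem hK _)⟩ *
          ⟨xx 7 1, xx_mem 7 _⟩ * (⟨parHom hK (-1), hsub (parHom_mem hK _)⟩)⁻¹ := by
        refine Subtype.ext ?_
        show xx 7 (-1) = parHom hK (-1) * xx 7 1 * (parHom hK (-1))⁻¹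
        rw [parHom_conj hK _ 7 (by norm_num), pairings.1, pairings.2.2.2.2.2.2.1]
        simp
      rw [hc, map_mul, map_mul, map_inv, hP, one_mul, inv_one, mul_one]
    have h := congrArg (fun g : GL (Fin 7) K => (g : Matrix (Fin 7) (Fin 7) K) 6 5) e7
    have hval : ∀ t : K, ((rep7 (K := K) ⟨xx 7 t, xx_mem 7 _⟩ : GL (Fin 7) K) : Matrix (Fin 7) (Fin 7) K) 6 5 =
        ((-2 : ℤ) : K) * t := by
      intro t
      show ((xx 7 t : GL chevG2.Idx K) : Matrix chevG2.Idx chevG2.Idx K) (short7 6) (short7 5) = _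
      rw [xGL_val, ChevalleyDatum.x, dif_pos (show 7 < chevG2.nroots by decide)]
      show chevG2.xMat K ⟨7, by decide⟩ t (Sum.inr ⟨9, by decide⟩) (Sum.inr ⟨8, by decide⟩) = _
      simp only [ChevalleyDatum.xMat, Matrix.of_apply]
      rw [if_neg (by decide +kernel), if_neg (by decide +kernel)]
      rw [if_neg (by decide +kernel), show chevG2.chainCoeff 7 8 9 = [(1, -2)] by decide +kernel]
      simp
    rw [hval, hval] at h
    have h4 : ((4 : ℤ) : K) = 0 := by push_cast at h ⊢; linear_combination h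
    rw [CharP.intCast_eq_zero_iff K 3] at h4
    norm_num at h4
  exact ⟨f, hf⟩

/-- the representation and the residues for a prime dividing `q² - q + 1` -/
theorem hex_data (hm : 1 ≤ m) {p : ℕ} [hpf : Fact p.Prime] (hp : 3 < p)
    (hdvd : p ∣ Fintype.card K ^ 2 - Fintype.card K + 1) :
    ∃ f : ↥(twistedG2 K (3 ^ m)) →* GL (Fin 7) K, Function.Injective f ∧
      ∀ k ∈ [1, 2, 3, 4, 5, 7], ¬ p ∣ Fintype.card K ^ k - 1 := by
  haveI := char_three hK
  set q := Fintype.card K with hqdef
  have hz : ((q : ZMod p)) ^ 2 - q + 1 = 0 := by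
    have h := (ZMod.natCast_eq_zero_iff _ _).2 hdvd
    rw [Nat.cast_add, Nat.cast_sub (Nat.le_self_pow (by norm_num) q), Nat.cast_pow, Nat.cast_one] at h
    exact h
  have h3 : (q : ZMod p) ^ 3 = -1 := by linear_combination ((q : ZMod p) + 1) * hz
  have hq1 : (q : ZMod p) ≠ 1 ∧ (q : ZMod p) ≠ -1 := by
    constructor <;> intro e <;> rw [e] at hz
    · exact one_ne_zero (show (1 : ZMod p) = 0 by linear_combination hz)
    · have h : ((3 : ℕ) : ZMod p) = 0 := by push_cast; linear_combination hz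
      rw [ZMod.natCast_eq_zero_iff, Nat.prime_dvd_prime_iff_eq hpf.out Nat.prime_three] at h
      omega
  have h2ne : (2 : ZMod p) ≠ 0 := fun e => by
    have h : ((2 : ℕ) : ZMod p) = 0 := by exact_mod_cast e
    rw [ZMod.natCast_eq_zero_iff, Nat.prime_dvd_prime_iff_eq hpf.out Nat.prime_two] at h
    omega
  have hp1 : ∀ k ∈ [1, 2, 3, 4, 5, 7], ¬ p ∣ q ^ k - 1 := by
    intro k hk h
    have h' : (q : ZMod p) ^ k = 1 := by
      have := (ZMod.natCast_eq_zero_iff _ _).2 h
      rwa [Nat.cast_sub (Nat.one_le_pow _ _ Fintype.card_pos), Nat.cast_pow, Nat.cast_one, sub_eq_zero] at this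
    simp only [List.mem_cons, List.not_mem_nil, or_false] at hk
    rcases hk with rfl | rfl | rfl | rfl | rfl | rfl
    · exact hq1.1 (by linear_combination h')
    · rcases sq_eq_one_iff.1 h' with e | e
      exacts [hq1.1 e, hq1.2 e]
    · exact h2ne (by linear_combination h3 - h')
    · exact hq1.2 (by linear_combination -h' + (q : ZMod p) * h3)
    · have h2 : (q : ZMod p) ^ 2 = -1 := by linear_combination -h' + (q : ZMod p) ^ 2 * h3
      exact hq1.1 (by linear_combination -(h3) + (q : ZMod p) * h2)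
    · exact hq1.1 (by linear_combination h' - (q : ZMod p) * (h3 * ((q : ZMod p) ^ 3 - 1)))
  obtain ⟨f, hf⟩ := rep_inj hK hm
  exact ⟨f, hf, hp1⟩

theorem sylow_cyclic (hm : 1 ≤ m) {p : ℕ} [hpf : Fact p.Prime] (hp : 3 < p)
    (P : Sylow p ↥(twistedG2 K (3 ^ m))) : IsCyclic (P : Subgroup ↥(twistedG2 K (3 ^ m))) := by
  classical
  haveI := char_three hK
  set q := Fintype.card K with hqdef
  have hpq : ¬ p ∣ q := fun h => by
    rw [hK] at h
    have := (Nat.prime_dvd_prime_iff_eq hpf.out Nat.prime_three).1 (hpf.out.dvd_of_dvd_pow h)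
    omega
  by_cases hbot : (P : Subgroup ↥(twistedG2 K (3 ^ m))) = ⊥
  · rw [hbot]; infer_instance
  by_cases hrd : p ∣ q - 1 ∨ p ∣ q + 1
  · obtain ⟨k, hk, hPc⟩ : ∃ k, 0 < k ∧ Nat.card (P : Subgroup ↥(twistedG2 K (3 ^ m))) = p ^ k := by
      obtain ⟨k, hk⟩ := IsPGroup.iff_card.1 P.isPGroup'
      exact ⟨k, Nat.pos_of_ne_zero fun e => hbot (Subgroup.card_eq_one.1 (by rw [hk, e, pow_zero])), hk⟩
    haveI : Nontrivial (P : Subgroup ↥(twistedG2 K (3 ^ m))) := (Subgroup.nontrivial_iff_ne_bot _).2 hbot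
    haveI := P.isPGroup'.center_nontrivial
    obtain ⟨⟨z, hz⟩, hzo⟩ : ∃ z : Subgroup.center (P : Subgroup ↥(twistedG2 K (3 ^ m))), orderOf z = p := by
      obtain ⟨l, hl⟩ := IsPGroup.iff_card.1 (P.isPGroup'.to_subgroup (Subgroup.center _))
      refine exists_prime_orderOf_dvd_card' p (hl ▸ dvd_pow_self p fun e => ?_)
      rw [e, pow_zero] at hl
      exact absurd (Finite.one_lt_card (α := Subgroup.center (P : Subgroup ↥(twistedG2 K (3 ^ m))))) (by omega)
    rw [← Subgroup.orderOf_coe, ← Subgroup.orderOf_coe] at hzo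
    obtain ⟨g, hg⟩ := into_centralizer hK hpf.out (by omega) hrd hzo
    have hzc : ∀ w ∈ P, w * (z : ↥(twistedG2 K (3 ^ m))) = z * w := fun w hw =>
      congrArg Subtype.val (Subgroup.mem_center_iff.1 hz ⟨w, hw⟩)
    obtain ⟨x, hxdef⟩ : ∃ x, g * (z : ↥(twistedG2 K (3 ^ m))) * g⁻¹ = x := ⟨_, rfl⟩
    rw [hxdef] at hg
    have hxo : orderOf x = p := hxdef ▸
      (orderOf_injective (MulAut.conj g).toMonoidHom (MulAut.conj g).injective _).trans hzo
    obtain ⟨ha1, ha2⟩ := inv0_spec hK
    obtain ⟨⟨e⟩, -⟩ := involution_centralizer hK (inv0 hK) ((Torus.range_torusHom mem_data).le ⟨_, rfl⟩) ha1 ha2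
    -- the conjugate of `P` lies in the centraliser of the involution
    have hPC : ∀ w ∈ P, g * w * g⁻¹ ∈ Subgroup.centralizer ({inv0 hK} : Set ↥(twistedG2 K (3 ^ m))) := by
      intro w hw
      have hwx : g * w * g⁻¹ ∈ Subgroup.centralizer ({x} : Set ↥(twistedG2 K (3 ^ m))) := by
        rw [Subgroup.mem_centralizer_singleton_iff, ← hxdef,
          show g * w * g⁻¹ * (g * z * g⁻¹) = g * (w * z) * g⁻¹ by group, hzc w hw]
        group
      obtain ⟨hDc, hD⟩ := cent_pair hK hpf.out (by omega) (by omega) hxo hg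
      have hle : Subgroup.centralizer ({inv0 hK, x} : Set ↥(twistedG2 K (3 ^ m))) ≤
          Subgroup.centralizer {x} :=
        Subgroup.centralizer_le (Set.singleton_subset_iff.2 (Set.mem_insert_of_mem _ rfl))
      have heq : Subgroup.centralizer ({inv0 hK, x} : Set ↥(twistedG2 K (3 ^ m))) = Subgroup.centralizer {x} := by
        refine Subgroup.eq_of_le_of_card_ge hle ?_
        rcases hD with ⟨hc, hd, -⟩ | ⟨hc, hd, -⟩
        · rw [hc, (split_cent hK hpf.out (by omega) (by omega) hd hxo).2]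
        · rw [hc, (quarter_cent hK hm hpf.out (by omega) (by omega) hd hxo).2.1]
      rw [← heq] at hwx
      exact Subgroup.centralizer_le (Set.singleton_subset_iff.2 (Set.mem_insert _ _)) hwx
    let f : ↥(P : Subgroup ↥(twistedG2 K (3 ^ m))) →* Matrix.ProjectiveSpecialLinearGroup (Fin 2) K :=
      (MonoidHom.snd _ _).comp (e.toMonoidHom.comp
        (((MulAut.conj g).toMonoidHom.comp (P : Subgroup ↥(twistedG2 K (3 ^ m))).subtype).codRestrict _
          fun w => hPC w w.2))
    have hf : Function.Injective f := by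
      rw [injective_iff_map_eq_one]
      intro w hw
      set c := e ((((MulAut.conj g).toMonoidHom.comp (P : Subgroup ↥(twistedG2 K (3 ^ m))).subtype).codRestrict _
          fun w => hPC w w.2) w) with hc
      have hc2 : c ^ 2 = 1 := Prod.ext (by rw [Prod.pow_fst, pow_two]; exact zmod_two_sq _)
        (by rw [Prod.pow_snd, show c.2 = 1 from hw, one_pow]; rfl)
      rw [hc, ← map_pow, MulEquiv.map_eq_one_iff, ← map_pow] at hc2
      have hw2 : (MulAut.conj g) ((w : ↥(twistedG2 K (3 ^ m))) ^ 2) = 1 := by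
        have := congrArg Subtype.val hc2
        simpa using this
      rw [MulEquiv.map_eq_one_iff] at hw2
      obtain ⟨l, hl⟩ := (P.isPGroup' w)
      have h1 : orderOf w ∣ 2 := orderOf_dvd_of_pow_eq_one (Subtype.ext (by simpa using hw2))
      have h2 : orderOf w ∣ p ^ l := orderOf_dvd_of_pow_eq_one hl
      have hco : (2 : ℕ).Coprime (p ^ l) :=
        Nat.Coprime.pow_right l ((Nat.coprime_primes Nat.prime_two hpf.out).2 (by omega))
      exact orderOf_eq_one_iff.1 (Nat.eq_one_of_dvd_coprimes hco h1 h2)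
    have hzP : (z : ↥(twistedG2 K (3 ^ m))) ∈ P := z.2
    have hzo' : orderOf (f z) = p := by rw [orderOf_injective f hf, ← Subgroup.orderOf_coe, hzo]
    haveI := (psl_cent hpf.out (by omega) (by omega) hzo').1
    haveI : IsCyclic f.range := by
      have hle : f.range ≤ Subgroup.centralizer {f z} := by
        rintro _ ⟨w, rfl⟩
        rw [Subgroup.mem_centralizer_singleton_iff, ← map_mul, ← map_mul]
        exact congrArg f (Subtype.ext (hzc w w.2))
      exact isCyclic_of_injective (Subgroup.inclusion hle) (Subgroup.inclusion_injective hle)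
    exact isCyclic_of_injective f.rangeRestrict (fun a b h => hf (congrArg Subtype.val h))
  · push Not at hrd
    -- the prime divides `q² - q + 1`
    have hcard := card_eq' hK
    have hdvd : p ∣ q ^ 2 - q + 1 := by
      have h : p ∣ Nat.card ↥(twistedG2 K (3 ^ m)) := by
        obtain ⟨k, hk⟩ := IsPGroup.iff_card.1 P.isPGroup'
        refine dvd_trans (dvd_pow_self p fun e => ?_) (hk ▸ Subgroup.card_subgroup_dvd_card _)
        exact hbot (Subgroup.card_eq_one.1 (by rw [hk, e, pow_zero]))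
      rw [hcard] at h
      have hsq : q ^ 2 - 1 = (q + 1) * (q - 1) := by simpa using Nat.sq_sub_sq q 1
      simp only [hsq, hpf.out.dvd_mul, ← hqdef] at h
      rcases h with (h | h | h) | h | h
      · exact absurd h hpq
      · exact absurd h hrd.2
      · exact absurd h hrd.1
      · exact absurd (hpf.out.dvd_of_dvd_pow h) hpq
      · exact h
    obtain ⟨f, hf, hp1⟩ := hex_data hK hm hp hdvd
    haveI := gl_seven_cyclic hp1 hpq _ (P.isPGroup'.map f)
    exact isCyclic_of_surjective _
      ((P : Subgroup ↥(twistedG2 K (3 ^ m))).equivMapOfInjective f hf).symm.surjective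

/-- centralisers of elements of prime order dividing `q² - q + 1` are abelian -/
theorem hex_cent (hm : 1 ≤ m) {p : ℕ} [hpf : Fact p.Prime] (hp : 3 < p)
    (hdvd : p ∣ Fintype.card K ^ 2 - Fintype.card K + 1) {x : ↥(twistedG2 K (3 ^ m))} (hx : orderOf x = p) :
    IsMulCommutative (Subgroup.centralizer ({x} : Set ↥(twistedG2 K (3 ^ m)))) := by
  obtain ⟨f, hf, hp1⟩ := hex_data hK hm hp hdvd
  have hpq : ¬ p ∣ Fintype.card K := fun h => by
    rw [hK] at h
    have := (Nat.prime_dvd_prime_iff_eq hpf.out Nat.prime_three).1 (hpf.out.dvd_of_dvd_pow h)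
    omega
  refine ⟨⟨fun a b => Subtype.ext (hf ?_)⟩⟩
  show f ((a : ↥(twistedG2 K (3 ^ m))) * b) = f ((b : ↥(twistedG2 K (3 ^ m))) * a)
  rw [map_mul, map_mul]
  refine gl_seven_cent hp1 hpq (y := f x) (by rw [orderOf_injective f hf, hx]) ?_ ?_
  · rw [← map_mul, ← map_mul, Subgroup.mem_centralizer_singleton_iff.1 a.2]
  · rw [← map_mul, ← map_mul, Subgroup.mem_centralizer_singleton_iff.1 b.2]

/-- cyclic subgroups of toral order are conjugate -/
theorem toral_conj (hm : 1 ≤ m) (d : ℕ)
    (hd : d ∣ (3 ^ (2 * m + 1) - 1) / 2 ∨ d ∣ (3 ^ (2 * m + 1) + 1) / 4 ∨ d ∣ 3 ^ (2 * m + 1) - 3 ^ (m + 1) + 1 ∨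
      d ∣ 3 ^ (2 * m + 1) + 3 ^ (m + 1) + 1)
    (A B : Subgroup ↥(twistedG2 K (3 ^ m))) (hA : IsCyclic A) (hB : IsCyclic B)
    (hAd : Nat.card A = d) (hBd : Nat.card B = d) :
    ∃ g : ↥(twistedG2 K (3 ^ m)), B = A.map (MulAut.conj g).toMonoidHom := by
  classical
  rcases eq_or_ne d 1 with rfl | hd1
  · exact ⟨1, by rw [Subgroup.eq_bot_of_card_eq A hAd, Subgroup.eq_bot_of_card_eq B hBd, Subgroup.map_bot]⟩
  set q := 3 ^ (2 * m + 1) with hq
  set r := 3 ^ (m + 1) with hr
  have hq8 : q % 8 = 3 := by rw [hq, pow_succ, pow_mul, Nat.mul_mod, Nat.pow_mod]; norm_num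
  have hq3 : q % 3 = 0 := Nat.mod_eq_zero_of_dvd (dvd_pow_self 3 (by omega))
  have hr3 : r % 3 = 0 := Nat.mod_eq_zero_of_dvd (dvd_pow_self 3 (by omega))
  have hr2 : r % 2 = 1 := by rw [hr, Nat.pow_mod]; norm_num
  have hrq : r ≤ q := Nat.pow_le_pow_right (by norm_num) (by omega)
  have hsq : (r : ℤ) ^ 2 = 3 * q := by rw [hr, hq]; push_cast; ring
  have hqq : q ≤ q ^ 2 := Nat.le_self_pow (by norm_num) q
  have hprod : (q - r + 1) * (q + r + 1) = q ^ 2 - q + 1 := by
    zify [hrq, hqq]; linear_combination -hsq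
  have hprime : ∀ p, p.Prime → p ∣ d → 3 < p := by
    intro p hp hpd
    have hne2 : p ≠ 2 := by
      rintro rfl
      rcases hd with h | h | h | h <;> have h' := hpd.trans h <;> omega
    have hne3 : p ≠ 3 := by
      rintro rfl
      rcases hd with h | h | h | h <;> have h' := hpd.trans h <;> omega
    have := hp.two_le
    omega
  obtain ⟨p, hp, hpd⟩ := Nat.exists_prime_and_dvd hd1
  haveI := Fact.mk hp
  have hp3 := hprime p hp hpd
  have hcomm : ∀ y : ↥(twistedG2 K (3 ^ m)), orderOf y = p →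
      IsMulCommutative (Subgroup.centralizer ({y} : Set ↥(twistedG2 K (3 ^ m)))) := by
    intro y hy
    rcases hd with h | h | h | h
    · have h' := split_cent hK hp (by omega) (by omega)
        (by rw [hK]; exact (hpd.trans h).trans (Nat.div_dvd_of_dvd (by omega))) hy
      exact ⟨⟨(@IsCyclic.commGroup _ _ h'.1).mul_comm⟩⟩
    · exact (quarter_cent hK hm hp (by omega) (by omega)
        (by rw [hK]; exact (hpd.trans h).trans (Nat.div_dvd_of_dvd (by omega))) hy).1
    · exact hex_cent hK hm hp3 (by rw [hK, ← hprod]; exact (hpd.trans h).mul_right _) hy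
    · exact hex_cent hK hm hp3 (by rw [hK, ← hprod]; exact (hpd.trans h).mul_left _) hy
  obtain ⟨⟨x, hxA⟩, hx⟩ := exists_prime_orderOf_dvd_card' (G := A) p (hAd.symm ▸ hpd)
  obtain ⟨⟨y, hyB⟩, hy⟩ := exists_prime_orderOf_dvd_card' (G := B) p (hBd.symm ▸ hpd)
  rw [← Subgroup.orderOf_coe] at hx hy
  -- Sylow subgroups are cyclic, so the two subgroups of order `p` are conjugate
  have hsyl : ∀ P : Sylow p ↥(twistedG2 K (3 ^ m)), IsCyclic (P : Subgroup ↥(twistedG2 K (3 ^ m))) :=
    fun P => sylow_cyclic hK hm hp3 P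
  obtain ⟨P, hP⟩ := IsPGroup.exists_le_sylow (p := p) (P := Subgroup.zpowers x)
    (IsPGroup.of_card (n := 1) (by rw [Nat.card_zpowers, pow_one, hx]))
  obtain ⟨Q, hQ⟩ := IsPGroup.exists_le_sylow (p := p) (P := Subgroup.zpowers y)
    (IsPGroup.of_card (n := 1) (by rw [Nat.card_zpowers, pow_one, hy]))
  obtain ⟨g, hg⟩ := MulAction.exists_smul_eq ↥(twistedG2 K (3 ^ m)) P Q
  have huniq : ∀ U : Subgroup ↥(twistedG2 K (3 ^ m)), IsCyclic U → ∀ C D : Subgroup ↥(twistedG2 K (3 ^ m)),
      C ≤ U → D ≤ U → Nat.card C = Nat.card D → C = D := by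
    intro U hU C D hC hD hCD
    haveI := hU
    have h := cyc_eq (A := U) (H := C.subgroupOf U) (K := D.subgroupOf U) (by
      rw [Nat.card_congr (Subgroup.subgroupOfEquivOfLe hC).toEquiv,
        Nat.card_congr (Subgroup.subgroupOfEquivOfLe hD).toEquiv, hCD])
    rw [Subgroup.subgroupOf_inj, inf_of_le_left hC, inf_of_le_left hD] at h
    exact h
  set A' := A.map (MulAut.conj g).toMonoidHom with hA'
  have hA'c : Nat.card A' = d := by rw [hA', Subgroup.card_map_of_injective (MulAut.conj g).injective, hAd]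
  have hzp : Subgroup.zpowers (MulAut.conj g x) = Subgroup.zpowers y := by
    refine huniq _ (hsyl Q) _ _ ?_ hQ ?_
    · rw [← hg, Subgroup.zpowers_le, Sylow.coe_subgroup_smul]
      exact Subgroup.smul_mem_pointwise_smul x (MulAut.conj g) _ (hP (Subgroup.mem_zpowers x))
    · rw [Nat.card_zpowers, Nat.card_zpowers, hy, ← hx]
      exact orderOf_injective (MulAut.conj g).toMonoidHom (MulAut.conj g).injective x
  have hyA' : y ∈ A' := by
    have h : Subgroup.zpowers (MulAut.conj g x) ≤ A' := Subgroup.zpowers_le.2 (Subgroup.mem_map_of_mem _ hxA)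
    exact h (hzp.symm ▸ Subgroup.mem_zpowers y)
  haveI := hA
  haveI := hB
  haveI : IsCyclic A' := isCyclic_of_surjective _
    (A.equivMapOfInjective (MulAut.conj g).toMonoidHom (MulAut.conj g).injective).surjective
  have hle : ∀ C : Subgroup ↥(twistedG2 K (3 ^ m)), IsCyclic C → y ∈ C → C ≤ Subgroup.centralizer {y} := by
    intro C hC hyC c hc
    rw [Subgroup.mem_centralizer_singleton_iff]
    exact congrArg Subtype.val ((@IsCyclic.commGroup _ _ hC).mul_comm ⟨c, hc⟩ ⟨y, hyC⟩)
  refine ⟨g, (?_ : B = A')⟩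
  haveI := hcomm y hy
  -- the product is abelian with cyclic Sylow subgroups
  set U := A' ⊔ B with hU
  have hUC : U ≤ Subgroup.centralizer {y} := sup_le (hle A' inferInstance hyA') (hle B hB hyB)
  letI : CommGroup U :=
    { (inferInstance : Group U) with
      mul_comm := fun a b => Subtype.ext (show (a : ↥(twistedG2 K (3 ^ m))) * b = b * a from congrArg Subtype.val
        ((inferInstance : IsMulCommutative (Subgroup.centralizer ({y} : Set ↥(twistedG2 K (3 ^ m))))).is_comm.comm
          ⟨a, hUC a.2⟩ ⟨b, hUC b.2⟩)) }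
  have hexp : ∀ u ∈ U, u ^ d = 1 := by
    let W : Subgroup U := (powMonoidHom d).ker
    have hAW : ∀ C : Subgroup ↥(twistedG2 K (3 ^ m)), C ≤ U → Nat.card C = d → C.subgroupOf U ≤ W := fun C hC hc u hu =>
      Subtype.ext (by
        have h := pow_card_eq_one' (x := (⟨u, Subgroup.mem_subgroupOf.1 hu⟩ : C))
        rw [hc] at h
        simpa using congrArg Subtype.val h)
    intro u hu
    have h := sup_le (hAW A' le_sup_left hA'c) (hAW B le_sup_right hBd)
    rw [← Subgroup.subgroupOf_sup le_sup_left le_sup_right] at h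
    have h' : U.subgroupOf U ≤ W := h
    rw [Subgroup.subgroupOf_self] at h'
    simpa [W] using congrArg Subtype.val (MonoidHom.mem_ker.1 (h' (Subgroup.mem_top (⟨u, hu⟩ : U))))
  haveI : IsZGroup U := ⟨fun l hl S => by
    haveI := Fact.mk hl
    rcases (S : Subgroup U).bot_or_exists_ne_one with h | ⟨u, hu, hu1⟩
    · rw [h]; infer_instance
    obtain ⟨k, hk⟩ := IsPGroup.iff_card.1 S.isPGroup'
    have hld : l ∣ d := by
      have h1 : orderOf u ∣ d := orderOf_dvd_of_pow_eq_one (Subtype.ext (by simpa using hexp u u.2))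
      obtain ⟨i, -, hi⟩ := (Nat.dvd_prime_pow hl).1 (hk ▸ Subgroup.orderOf_dvd_natCard _ hu)
      rw [hi] at h1
      refine (dvd_pow_self l fun e => hu1 ?_).trans h1
      rw [e, pow_zero, orderOf_eq_one_iff] at hi
      exact hi
    obtain ⟨T, hT⟩ := (S.isPGroup'.map U.subtype).exists_le_sylow
    haveI := sylow_cyclic hK hm (hprime l hl hld) T
    haveI : IsCyclic ((S : Subgroup U).map U.subtype) :=
      isCyclic_of_injective (Subgroup.inclusion hT) (Subgroup.inclusion_injective hT)
    exact isCyclic_of_surjective _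
      ((S : Subgroup U).equivMapOfInjective U.subtype U.subtype_injective).symm.surjective⟩
  haveI : Group.IsNilpotent U := CommGroup.isNilpotent
  haveI hUcyc : IsCyclic U := inferInstance
  refine huniq U hUcyc B A' le_sup_right le_sup_left (by rw [hBd, hA'c])

end CfsgLib.Chev.Twisted.ReeG2
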