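import Cfsg.Agent.Lib.Chev.Twisted.G2Extra
import Cfsg.Agent.Lib.Chev.Twisted.G2Sylow
import Cfsg.Agent.Lib.SL2.ProjTorus
import Cfsg.Agent.Lib.GroupB.CoprimeAbelian

/-! Centralisers of the elements of the split and quarter tori of the small Ree groups. -/

set_option autoImplicit false

open Cfsg Cfsg.Lie
open CfsgLib.Chev CfsgLib.Chev.Checks CfsgLib.Chev.Basic

namespace CfsgLib.Chev.Twisted.ReeG2

/-- semisimple elements of odd prime order in `PSL₂` of odd characteristic three -/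
theorem psl_cent {K : Type*} [Field K] [Fintype K] [CharP K 3] {r : ℕ} (hr : r.Prime) (hr2 : r ≠ 2) (hr3 : r ≠ 3)
    {x : Matrix.ProjectiveSpecialLinearGroup (Fin 2) K} (hx : orderOf x = r) :
    IsCyclic (Subgroup.centralizer {x}) ∧
      ((2 * Nat.card (Subgroup.centralizer {x}) = Fintype.card K - 1 ∧ r ∣ Fintype.card K - 1) ∨
        (2 * Nat.card (Subgroup.centralizer {x}) = Fintype.card K + 1 ∧ r ∣ Fintype.card K + 1)) := by
  haveI := Fact.mk (show Nat.Prime 3 by norm_num)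
  have h2 : (2 : K) ≠ 0 := fun h => by
    have h' : ((2 : ℕ) : K) = 0 := by exact_mod_cast h
    rw [CharP.cast_eq_zero_iff K 3] at h'
    norm_num at h'
  have hx1 : x ≠ 1 := fun e => hr.one_lt.ne' (by rw [← hx, e, orderOf_one])
  have hodd : Fintype.card K % 2 = 1 := by
    by_contra h
    exact h2 (SL2Torus.two_eq_of_even (by omega))
  rcases SL2Torus.trichotomy x with h | ⟨g, rfl, hg⟩ | ⟨g, rfl, hs, ht⟩
  · exact absurd h hx1
  · have h0 : SL2Torus.tr g ≠ 0 := by
      intro h0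
      have ho : orderOf (PSL2Klein.π g) = 2 := by
        rw [CfsgLib.PSL2Klein.orderOf_π hodd, CfsgLib.PSL2Two.sq_eq_neg_one_iff hodd]
        rwa [SL2Torus.tr, Matrix.trace_fin_two] at h0
      exact hr2 (hx ▸ ho)
    rw [SL2Torus.centralizer_π (Or.inl h0)]
    have hT : SL2Torus.IsTorus ((SL2Torus.cent g).map PSL2Klein.π) := ⟨g, hg, rfl⟩
    have hmem : PSL2Klein.π g ∈ (SL2Torus.cent g).map PSL2Klein.π :=
      Subgroup.mem_map_of_mem _ (SL2Torus.self_mem_cent g)
    have hdvd : r ∣ Nat.card ((SL2Torus.cent g).map PSL2Klein.π) := hx ▸ Subgroup.orderOf_dvd_natCard _ hmem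
    refine ⟨SL2Torus.torus_cyclic hT, ?_⟩
    rcases SL2Torus.torus_card hT with e | e <;> rw [SL2Torus.gcd_eq_two_of_two_ne h2] at e
    · exact Or.inl ⟨e, e ▸ hdvd.mul_left 2⟩
    · exact Or.inr ⟨e, e ▸ hdvd.mul_left 2⟩
  · exfalso
    obtain ⟨y, b, -, hb⟩ := SL2Torus.π_u_of_unip hs ht
    have h3 : PSL2Klein.π g ^ 3 = 1 := by
      have e : PSL2Klein.π g = y * PSL2Klein.π (SL2Torus.u b) * y⁻¹ := by rw [← hb]; group
      rw [e, conj_pow, SL2Torus.π_u_pow_char 3, mul_one, mul_inv_cancel]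
    exact hr3 ((Nat.prime_dvd_prime_iff_eq hr (by norm_num)).1 (hx ▸ orderOf_dvd_of_pow_eq_one h3))

/-- `centralizer` of a conjugate -/
theorem cent_conj {G : Type*} [Group G] (g x : G) :
    Subgroup.centralizer ({g * x * g⁻¹} : Set G) = (Subgroup.centralizer {x}).map (MulAut.conj g).toMonoidHom := by
  ext z
  rw [Subgroup.mem_map_equiv, Subgroup.mem_centralizer_singleton_iff, Subgroup.mem_centralizer_singleton_iff,
    MulAut.conj_symm_apply]
  constructor <;> intro h
  · calc g⁻¹ * z * g * x = g⁻¹ * (z * (g * x * g⁻¹)) * g := by group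
      _ = g⁻¹ * (g * x * g⁻¹ * z) * g := by rw [h]
      _ = _ := by group
  · calc z * (g * x * g⁻¹) = g * (g⁻¹ * z * g * x) * g⁻¹ := by group
      _ = g * (x * (g⁻¹ * z * g)) * g⁻¹ := by rw [h]
      _ = _ := by group

/-- a common centraliser for a cyclic group -/
theorem cyclic_cent {G : Type*} [Group G] [Finite G] (P : Subgroup G → Prop) {H : Subgroup G} (hH : IsCyclic H)
    (hne : Nat.card H ≠ 1)
    (h : ∀ x ∈ H, (orderOf x).Prime →
      P (Subgroup.centralizer {x}) ∧ IsMulCommutative (Subgroup.centralizer ({x} : Set G))) :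
    P (Subgroup.centralizer (H : Set G)) ∧
      ∀ A : Subgroup G, A ≤ H → A ≠ ⊥ →
        Subgroup.centralizer (A : Set G) = Subgroup.centralizer (H : Set G) := by
  haveI := hH
  have key : ∀ x ∈ H, (orderOf x).Prime → Subgroup.centralizer {x} = Subgroup.centralizer (H : Set G) := by
    intro x hx hp
    haveI := (h x hx hp).2
    refine le_antisymm (fun c hc => Subgroup.mem_centralizer_iff.2 fun y hy => ?_)
      (Subgroup.centralizer_le (Set.singleton_subset_iff.2 hx))
    have hyx : y ∈ Subgroup.centralizer ({x} : Set G) := by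
      rw [Subgroup.mem_centralizer_singleton_iff]
      exact congrArg Subtype.val (((IsCyclic.commGroup (α := H)).mul_comm ⟨y, hy⟩ ⟨x, hx⟩))
    exact congrArg Subtype.val
      ((inferInstance : IsMulCommutative (Subgroup.centralizer ({x} : Set G))).is_comm.comm ⟨y, hyx⟩ ⟨c, hc⟩)
  have hex : ∀ A : Subgroup G, A ≤ H → A ≠ ⊥ → ∃ x ∈ A, x ∈ H ∧ (orderOf x).Prime := by
    intro A hA hA1
    obtain ⟨p, hp, hpd⟩ := Nat.exists_prime_and_dvd (mt A.card_eq_one.1 hA1)
    haveI := Fact.mk hp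
    obtain ⟨x, hx⟩ := exists_prime_orderOf_dvd_card' p hpd
    exact ⟨x, x.2, hA x.2, by rw [Subgroup.orderOf_coe, hx]; exact hp⟩
  have hH1 : H ≠ ⊥ := fun e => hne (by rw [e, Subgroup.card_bot])
  obtain ⟨x, hx, -, hp⟩ := hex H le_rfl hH1
  refine ⟨key x hx hp ▸ (h x hx hp).1, fun A hA hA1 => ?_⟩
  obtain ⟨y, hyA, hyH, hyp⟩ := hex A hA hA1
  refine le_antisymm ?_ (Subgroup.centralizer_le hA)
  rw [← key y hyH hyp]
  exact Subgroup.centralizer_le (Set.singleton_subset_iff.2 hyA)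

variable {K : Type*} [Field K] [Fintype K] {m : ℕ} (hK : Fintype.card K = 3 ^ (2 * m + 1))

include hK

/-- the involution of the split torus -/
noncomputable def inv0 : ↥(twistedG2 K (3 ^ m)) := ⟨parHom hK (-1), parHom_mem hK _⟩

theorem inv0_spec : inv0 hK ≠ 1 ∧ inv0 hK * inv0 hK = 1 := by
  refine ⟨fun e => ?_, Subtype.ext (show parHom hK (-1) * parHom hK (-1) = 1 by rw [← map_mul]; simp)⟩
  have h0 : (-1 : Kˣ) = 1 := parHom_inj hK ((congrArg Subtype.val e).trans (map_one _).symm)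
  exact neg_one_not_sq hK ⟨1, by rw [mul_one]; exact congrArg Units.val h0⟩

set_option maxHeartbeats 1000000 in
/-- all involutions are conjugate -/
theorem invol_conj (hm : 1 ≤ m) {v : ↥(twistedG2 K (3 ^ m))} (hv1 : v ≠ 1) (hv : v * v = 1) :
    ∃ g, g * inv0 hK * g⁻¹ = v := by
  classical
  haveI : Fact (Nat.Prime 2) := ⟨Nat.prime_two⟩
  obtain ⟨ha1, ha2⟩ := inv0_spec hK
  set a := inv0 hK
  obtain ⟨-, hsyl⟩ := involution_centralizer hK a ((Torus.range_torusHom mem_data).le ⟨_, rfl⟩) ha1 ha2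
  have hle : ∀ w : ↥(twistedG2 K (3 ^ m)), w ≠ 1 → w * w = 1 → ∃ S : Sylow 2 ↥(twistedG2 K (3 ^ m)), w ∈ S := by
    intro w hw1 hw
    obtain ⟨S, hS⟩ := IsPGroup.exists_le_sylow (p := 2) (P := Subgroup.zpowers w)
      (IsPGroup.of_card (n := 1) (by rw [Nat.card_zpowers, pow_one]; exact orderOf_eq_prime (by rw [pow_two, hw]) hw1))
    exact ⟨S, hS (Subgroup.mem_zpowers w)⟩
  obtain ⟨S, haS⟩ := hle a ha1 ha2
  obtain ⟨T, hvT⟩ := hle v hv1 hv
  obtain ⟨g, rfl⟩ := MulAction.exists_smul_eq ↥(twistedG2 K (3 ^ m)) S T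
  have hwS : g⁻¹ * v * g ∈ S := by
    have h : v ∈ ((g • S : Sylow 2 ↥(twistedG2 K (3 ^ m))) : Subgroup ↥(twistedG2 K (3 ^ m))) := hvT
    rw [Sylow.coe_subgroup_smul, Subgroup.mem_pointwise_smul_iff_inv_smul_mem, ← map_inv, MulAut.smul_def,
      MulAut.conj_apply, inv_inv] at h
    exact h
  suffices ∃ n, n * a * n⁻¹ = g⁻¹ * v * g by
    obtain ⟨n, hn⟩ := this
    exact ⟨g * n, by rw [show g * n * a * (g * n)⁻¹ = g * (n * a * n⁻¹) * g⁻¹ by group, hn]; group⟩
  obtain ⟨hcent, h168⟩ := sylow_normalizer hK hm S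
  haveI : Fact (Nat.Prime 7) := ⟨by norm_num⟩
  obtain ⟨n, hn⟩ := exists_prime_orderOf_dvd_card'
    (G := ↥(Subgroup.normalizer ((S : Subgroup ↥(twistedG2 K (3 ^ m))) : Set ↥(twistedG2 K (3 ^ m))))) 7
    (by rw [h168]; norm_num)
  set N : ↥(twistedG2 K (3 ^ m)) := (n : ↥(twistedG2 K (3 ^ m)))
  have hN7 : orderOf N = 7 := by rw [Subgroup.orderOf_coe]; exact hn
  let σ : Equiv.Perm ↥(S : Subgroup ↥(twistedG2 K (3 ^ m))) :=
    Equiv.ofBijective (fun s => ⟨N * s * N⁻¹, (Subgroup.mem_normalizer_iff.1 n.2 s).1 s.2⟩)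
      (Finite.injective_iff_bijective.1 fun x y h => by
        have := congrArg Subtype.val h
        exact Subtype.ext (mul_left_cancel (mul_right_cancel this)))
  have hσ : ∀ (i : ℕ) s, ((σ ^ i) s : ↥(twistedG2 K (3 ^ m))) = N ^ i * s * (N ^ i)⁻¹ := by
    intro i
    induction i with
    | zero => simp
    | succ i ih =>
      intro s
      rw [pow_succ', Equiv.Perm.mul_apply]
      show N * ((σ ^ i) s : ↥(twistedG2 K (3 ^ m))) * N⁻¹ = _
      rw [ih, pow_succ', mul_inv_rev]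
      group
  have hS8 : Nat.card ↥(S : Subgroup ↥(twistedG2 K (3 ^ m))) = 8 := (hsyl S).1
  have hσ7 : σ ^ 7 = 1 := Equiv.ext fun s => Subtype.ext (by
    rw [hσ, show N ^ 7 = 1 by rw [← hN7]; exact pow_orderOf_eq_one N]; simp)
  have h1 : σ 1 = 1 := Subtype.ext (by
    show N * ((1 : ↥(S : Subgroup ↥(twistedG2 K (3 ^ m)))) : ↥(twistedG2 K (3 ^ m))) * N⁻¹ = _
    simp)
  have hσ1 : σ ≠ 1 := by
    intro e
    have hNC : N ∈ Subgroup.centralizer ((S : Subgroup ↥(twistedG2 K (3 ^ m))) : Set ↥(twistedG2 K (3 ^ m))) := by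
      refine Subgroup.mem_centralizer_iff.2 fun x hx => ?_
      exact (mul_inv_eq_iff_eq_mul.1 (congrArg Subtype.val (Equiv.ext_iff.1 e ⟨x, hx⟩))).symm
    rw [hcent] at hNC
    have : orderOf N ∣ 2 := orderOf_dvd_of_pow_eq_one (by rw [pow_two, (hsyl S).2 N hNC])
    rw [hN7] at this
    norm_num at this
  have h7 : orderOf σ = 7 := orderOf_eq_prime hσ7 hσ1
  obtain ⟨d, hd⟩ := Equiv.Perm.cycleType_prime_order (σ := σ) (h7.symm ▸ (by norm_num : Nat.Prime 7))
  have hsum := Equiv.Perm.sum_cycleType σ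
  rw [hd, Multiset.sum_replicate, h7, smul_eq_mul] at hsum
  have hsub : σ.support ⊆ Finset.univ.erase 1 := fun x hx => Finset.mem_erase.2
    ⟨fun e => Equiv.Perm.mem_support.1 hx (by rw [e, h1]), Finset.mem_univ _⟩
  have hec : (Finset.univ.erase (1 : ↥(S : Subgroup ↥(twistedG2 K (3 ^ m))))).card = 7 := by
    rw [Finset.card_erase_of_mem (Finset.mem_univ _), Finset.card_univ, ← Nat.card_eq_fintype_card, hS8]
  have hsupp : σ.support = Finset.univ.erase 1 := by
    refine Finset.eq_of_subset_of_card_le hsub ?_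
    have := Finset.card_le_card hsub
    omega
  have hfree : ∀ s : ↥(S : Subgroup ↥(twistedG2 K (3 ^ m))), s ≠ 1 → σ s ≠ s := fun s hs =>
    Equiv.Perm.mem_support.1 (hsupp ▸ Finset.mem_erase.2 ⟨hs, Finset.mem_univ _⟩)
  have hcyc : σ.IsCycle :=
    Equiv.Perm.isCycle_of_prime_order (by rw [h7]; norm_num) (by rw [hsupp, hec, h7]; norm_num)
  obtain ⟨i, hi⟩ := hcyc.exists_pow_eq (hfree ⟨a, haS⟩ fun e => ha1 (congrArg Subtype.val e))
    (hfree ⟨_, hwS⟩ fun e => hv1 (by
      have h := congrArg (fun z => g * z * g⁻¹) (congrArg Subtype.val e : g⁻¹ * v * g = 1)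
      simpa [mul_assoc] using h))
  exact ⟨N ^ i, by rw [← hσ i ⟨a, haS⟩, hi]⟩

/-- centraliser inside the centraliser of the involution -/
theorem cent_pair {r : ℕ} (hr : r.Prime) (hr2 : r ≠ 2) (hr3 : r ≠ 3) {x : ↥(twistedG2 K (3 ^ m))}
    (hx : orderOf x = r) (hxa : x ∈ Subgroup.centralizer {inv0 hK}) :
    IsMulCommutative (Subgroup.centralizer ({inv0 hK, x} : Set ↥(twistedG2 K (3 ^ m)))) ∧
      ((Nat.card (Subgroup.centralizer ({inv0 hK, x} : Set ↥(twistedG2 K (3 ^ m)))) = Fintype.card K - 1 ∧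
          r ∣ Fintype.card K - 1 ∧ IsCyclic (Subgroup.centralizer ({inv0 hK, x} : Set ↥(twistedG2 K (3 ^ m))))) ∨
        (Nat.card (Subgroup.centralizer ({inv0 hK, x} : Set ↥(twistedG2 K (3 ^ m)))) = Fintype.card K + 1 ∧
          r ∣ Fintype.card K + 1 ∧
          ∀ y ∈ Subgroup.centralizer ({inv0 hK, x} : Set ↥(twistedG2 K (3 ^ m))), orderOf y ≠ 4)) := by
  classical
  haveI := char_three hK
  obtain ⟨ha1, ha2⟩ := inv0_spec hK
  obtain ⟨⟨e⟩, -⟩ := involution_centralizer hK (inv0 hK) ((Torus.range_torusHom mem_data).le ⟨_, rfl⟩) ha1 ha2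
  set C := Subgroup.centralizer ({inv0 hK} : Set ↥(twistedG2 K (3 ^ m)))
  set z := e ⟨x, hxa⟩ with hz
  have hzo : orderOf z = r := by rw [hz, MulEquiv.orderOf_eq, ← Subgroup.orderOf_coe, hx]
  have hz1 : z.1 = 1 := by
    have h2 : z.1 ^ 2 = 1 := by rw [pow_two]; exact zmod_two_sq _
    have hrz : z.1 ^ r = 1 := by rw [← Prod.pow_fst, ← hzo, pow_orderOf_eq_one]; rfl
    obtain ⟨k, hk⟩ := hr.odd_of_ne_two hr2
    rwa [hk, pow_succ, pow_mul, h2, one_pow, one_mul] at hrz
  have hz2 : orderOf z.2 = r := by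
    rw [← hzo, Prod.orderOf z, hz1, orderOf_one, Nat.lcm_one_left]
  obtain ⟨hcyc, hcard⟩ := psl_cent hr hr2 hr3 hz2
  set T := Subgroup.centralizer ({z.2} : Set (Matrix.ProjectiveSpecialLinearGroup (Fin 2) K))
  let f : Multiplicative (ZMod 2) × ↥T →* ↥(twistedG2 K (3 ^ m)) :=
    (C.subtype.comp e.symm.toMonoidHom).comp ((MonoidHom.id _).prodMap T.subtype)
  have hf : Function.Injective f :=
    (Subtype.val_injective.comp e.symm.injective).comp
      (Prod.map_injective.2 ⟨Function.injective_id, Subtype.val_injective⟩)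
  have hrange : f.range = Subgroup.centralizer ({inv0 hK, x} : Set ↥(twistedG2 K (3 ^ m))) := by
    ext y
    constructor
    · rintro ⟨⟨s, t⟩, rfl⟩
      refine Subgroup.mem_centralizer_iff.2 ?_
      rintro w (rfl | hw)
      · exact Subgroup.mem_centralizer_iff.1 (e.symm (s, (t : Matrix.ProjectiveSpecialLinearGroup (Fin 2) K))).2 _ rfl
      · rw [Set.mem_singleton_iff.1 hw]
        have hc : Commute z (s, (t : Matrix.ProjectiveSpecialLinearGroup (Fin 2) K)) :=
          Prod.ext (by show z.1 * s = s * z.1; rw [hz1, one_mul, mul_one])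
            (Subgroup.mem_centralizer_singleton_iff.1 t.2).symm
        have h := (hc.map e.symm.toMonoidHom).map C.subtype
        rw [hz, MulEquiv.coe_toMonoidHom, e.symm_apply_apply] at h
        exact h
    · intro hy
      rw [Subgroup.mem_centralizer_iff] at hy
      have hyC : y ∈ C := Subgroup.mem_centralizer_singleton_iff.2 (hy _ (Set.mem_insert _ _)).symm
      have hc : Commute (⟨x, hxa⟩ : ↥C) ⟨y, hyC⟩ :=
        Subtype.ext (hy x (Set.mem_insert_of_mem _ rfl))
      have h := congrArg Prod.snd (hc.map e.toMonoidHom).eq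
      refine ⟨((e ⟨y, hyC⟩).1, ⟨(e ⟨y, hyC⟩).2, Subgroup.mem_centralizer_singleton_iff.2 h.symm⟩), ?_⟩
      show ((e.symm ((e ⟨y, hyC⟩).1, (e ⟨y, hyC⟩).2) : ↥C) : ↥(twistedG2 K (3 ^ m))) = y
      rw [Prod.mk.eta, e.symm_apply_apply]
  haveI := hcyc
  rw [← hrange]
  have hcardD : Nat.card f.range = 2 * Nat.card T := by
    rw [← Nat.card_congr (MonoidHom.ofInjective hf).toEquiv, Nat.card_prod,
      Nat.card_eq_fintype_card (α := Multiplicative (ZMod 2)),
      show Fintype.card (Multiplicative (ZMod 2)) = 2 from rfl]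
  refine ⟨⟨⟨?_⟩⟩, ?_⟩
  · rintro ⟨_, a, rfl⟩ ⟨_, b, rfl⟩
    refine Subtype.ext ?_
    show f a * f b = f b * f a
    rw [← map_mul, ← map_mul]
    exact congrArg f (Prod.ext (mul_comm _ _) ((IsCyclic.commGroup (α := T)).mul_comm _ _))
  · have hq : Fintype.card K % 8 = 3 := by
      rw [hK, pow_succ, pow_mul, Nat.mul_mod, Nat.pow_mod]; norm_num
    rcases hcard with ⟨hc, hd⟩ | ⟨hc, hd⟩
    · refine Or.inl ⟨by rw [hcardD, hc], hd, ?_⟩
      haveI : IsCyclic (Multiplicative (ZMod 2) × ↥T) := by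
        refine Group.isCyclic_prod_iff.2 ⟨inferInstance, hcyc, ?_⟩
        rw [Nat.card_eq_fintype_card (α := Multiplicative (ZMod 2)),
          show Fintype.card (Multiplicative (ZMod 2)) = 2 from rfl]
        exact Nat.coprime_two_left.2 (Nat.odd_iff.2 (by omega))
      exact isCyclic_of_surjective f.rangeRestrict f.rangeRestrict_surjective
    · refine Or.inr ⟨by rw [hcardD, hc], hd, ?_⟩
      rintro _ ⟨⟨s, t⟩, rfl⟩ h4
      rw [orderOf_injective f hf, Prod.orderOf] at h4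
      have hs2 : orderOf s ∣ 2 := orderOf_dvd_of_pow_eq_one (by rw [pow_two]; exact zmod_two_sq _)
      have ht : orderOf t ∣ Nat.card T := orderOf_dvd_natCard t
      have h := h4 ▸ Nat.lcm_dvd (hs2.mul_right (Nat.card T / 2)) (show orderOf t ∣ 2 * (Nat.card T / 2) by
        rwa [show 2 * (Nat.card T / 2) = Nat.card T by omega])
      omega

theorem card_eq' : Nat.card ↥(twistedG2 K (3 ^ m)) =
    Fintype.card K * (Fintype.card K ^ 2 - 1) * (Fintype.card K ^ 2 * (Fintype.card K ^ 2 - Fintype.card K + 1)) := by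
  rw [card_group hK, ← hK]
  obtain ⟨n, hn⟩ : ∃ n, Fintype.card K = n + 1 := ⟨Fintype.card K - 1, by have := Fintype.card_pos (α := K); omega⟩
  rw [hn, Nat.add_sub_cancel, show (n + 1) ^ 2 - 1 = n * (n + 2) from Nat.sub_eq_of_eq_add (by ring),
    show (n + 1) ^ 2 - (n + 1) = n * (n + 1) from Nat.sub_eq_of_eq_add (by ring)]
  ring

/-- elements of order `r` dividing `q ± 1` commute with a conjugate of the involution -/
theorem into_centralizer {r : ℕ} (hr : r.Prime) (hr3 : r ≠ 3) (hrd : r ∣ Fintype.card K - 1 ∨ r ∣ Fintype.card K + 1)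
    {x : ↥(twistedG2 K (3 ^ m))} (hx : orderOf x = r) : ∃ g, g * x * g⁻¹ ∈ Subgroup.centralizer {inv0 hK} := by
  classical
  haveI := Fact.mk hr
  obtain ⟨ha1, ha2⟩ := inv0_spec hK
  obtain ⟨⟨e⟩, -⟩ := involution_centralizer hK (inv0 hK) ((Torus.range_torusHom mem_data).le ⟨_, rfl⟩) ha1 ha2
  set C := Subgroup.centralizer ({inv0 hK} : Set ↥(twistedG2 K (3 ^ m)))
  set q := Fintype.card K
  have hq3 : 3 ≤ q := by rw [show q = 3 ^ (2 * m + 1) from hK]; exact Nat.le_self_pow (by omega) 3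
  have hCc : Nat.card C = q * (q ^ 2 - 1) := by
    have hodd : Fintype.card K % 2 = 1 := by have := card_mod hK; omega
    rw [Nat.card_congr e.toEquiv, Nat.card_prod, Nat.card_eq_fintype_card (α := Multiplicative (ZMod 2)),
      show Fintype.card (Multiplicative (ZMod 2)) = 2 from rfl, CfsgLib.PSL2Two.two_mul_card_PSL (F := K) hodd]
  have hnd : ¬ r ∣ q ^ 2 * (q ^ 2 - q + 1) := by
    intro h
    have hsq : q ≤ q ^ 2 := Nat.le_self_pow (by norm_num) q
    rcases hr.dvd_mul.1 h with h | h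
    · have h' := hr.dvd_of_dvd_pow h
      rw [show q = 3 ^ (2 * m + 1) from hK] at h'
      exact hr3 ((Nat.prime_dvd_prime_iff_eq hr (by norm_num)).1 (hr.dvd_of_dvd_pow h'))
    · rcases hrd with hd | hd
      · have h1 : r ∣ (q - 1) * q := hd.mul_right q
        rw [Nat.sub_mul, one_mul, ← sq] at h1
        exact hr.not_dvd_one ((Nat.dvd_add_right h1).1 h)
      · have h1 : r ∣ (q + 1) * (q - 2) := hd.mul_right _
        have h2 : q ^ 2 - q + 1 = (q + 1) * (q - 2) + 3 := by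
          obtain ⟨n, hn⟩ : ∃ n, q = n + 2 := ⟨q - 2, by omega⟩
          rw [hn, show (n + 2) ^ 2 - (n + 2) = (n + 2) * (n + 1) from Nat.sub_eq_of_eq_add (by ring),
            Nat.add_sub_cancel]
          ring
        rw [h2] at h
        exact hr3 ((Nat.prime_dvd_prime_iff_eq hr (by norm_num)).1 ((Nat.dvd_add_right h1).1 h))
  obtain ⟨P⟩ : Nonempty (Sylow r C) := inferInstance
  have hPc : Nat.card ((P : Subgroup C).map C.subtype) =
      r ^ (Nat.card ↥(twistedG2 K (3 ^ m))).factorization r := by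
    rw [Subgroup.card_map_of_injective C.subtype_injective, P.card_eq_multiplicity, hCc, card_eq' hK,
      Nat.factorization_mul (by rw [← hCc]; exact Nat.card_pos.ne' : q * (q ^ 2 - 1) ≠ 0)
        (fun e => hnd (by rw [e]; exact dvd_zero r) : q ^ 2 * (q ^ 2 - q + 1) ≠ 0), Finsupp.add_apply,
      Nat.factorization_eq_zero_of_not_dvd hnd, add_zero]
  let P' : Sylow r ↥(twistedG2 K (3 ^ m)) := Sylow.ofCard _ hPc
  obtain ⟨Q, hQ⟩ := IsPGroup.exists_le_sylow (p := r) (P := Subgroup.zpowers x)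
    (IsPGroup.of_card (n := 1) (by rw [Nat.card_zpowers, pow_one, hx]))
  obtain ⟨g, hg⟩ := MulAction.exists_smul_eq ↥(twistedG2 K (3 ^ m)) Q P'
  refine ⟨g, ?_⟩
  have h : g * x * g⁻¹ ∈ (P' : Subgroup ↥(twistedG2 K (3 ^ m))) := by
    rw [← hg, Sylow.coe_subgroup_smul]
    exact Subgroup.smul_mem_pointwise_smul x (MulAut.conj g) _ (hQ (Subgroup.mem_zpowers x))
  obtain ⟨y, -, hy⟩ := h
  rw [← hy]
  exact y.2

/-- the split torus -/
theorem split_cent {r : ℕ} (hr : r.Prime) (hr2 : r ≠ 2) (hr3 : r ≠ 3) (hrd : r ∣ Fintype.card K - 1)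
    {x : ↥(twistedG2 K (3 ^ m))} (hx : orderOf x = r) :
    IsCyclic (Subgroup.centralizer ({x} : Set ↥(twistedG2 K (3 ^ m)))) ∧
      Nat.card (Subgroup.centralizer ({x} : Set ↥(twistedG2 K (3 ^ m)))) = Fintype.card K - 1 := by
  classical
  haveI := Fact.mk hr
  -- an element of order `r` in the torus, conjugate to `x`
  set H := (chevG2.diagonalSubgroup K).subgroupOf (twistedG2 K (3 ^ m)) with hH
  have hHc : Nat.card H = Fintype.card K - 1 := by
    rw [hH, ← Subgroup.inf_subgroupOf_right, Nat.card_congr (Subgroup.subgroupOfEquivOfLe inf_le_right).toEquiv,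
      card_diag hK, hK]
  obtain ⟨P⟩ : Nonempty (Sylow r H) := inferInstance
  have hnd : ¬ r ∣ (3 ^ (2 * m + 1)) ^ 3 * ((3 ^ (2 * m + 1)) ^ 3 + 1) := by
    intro h
    rcases hr.dvd_mul.1 h with h | h
    · exact hr3 ((Nat.prime_dvd_prime_iff_eq hr (by norm_num)).1 (hr.dvd_of_dvd_pow (hr.dvd_of_dvd_pow h)))
    · rw [← hK] at h
      obtain ⟨n, hn⟩ : ∃ n, Fintype.card K = n + 1 := ⟨Fintype.card K - 1, by have := Fintype.card_pos (α := K); omega⟩
      rw [hn, Nat.add_sub_cancel] at hrd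
      rw [hn, show (n + 1) ^ 3 + 1 = n * (n ^ 2 + 3 * n + 3) + 2 by ring] at h
      exact hr2 ((Nat.prime_dvd_prime_iff_eq hr (by norm_num)).1 ((Nat.dvd_add_right (hrd.mul_right _)).1 h))
  have hPc : Nat.card ((P : Subgroup H).map H.subtype) =
      r ^ (Nat.card ↥(twistedG2 K (3 ^ m))).factorization r := by
    rw [Subgroup.card_map_of_injective H.subtype_injective, P.card_eq_multiplicity, hHc, card_group hK, hK,
      mul_right_comm, Nat.factorization_mul
        (fun e => hnd (by rw [e]; exact dvd_zero r) : (3 ^ (2 * m + 1)) ^ 3 * ((3 ^ (2 * m + 1)) ^ 3 + 1) ≠ 0) (by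
          have : 1 < 3 ^ (2 * m + 1) := Nat.one_lt_pow (by omega) (by norm_num)
          omega : 3 ^ (2 * m + 1) - 1 ≠ 0), Finsupp.add_apply, Nat.factorization_eq_zero_of_not_dvd hnd, zero_add]
  let P' : Sylow r ↥(twistedG2 K (3 ^ m)) := Sylow.ofCard _ hPc
  obtain ⟨Q, hQ⟩ := IsPGroup.exists_le_sylow (p := r) (P := Subgroup.zpowers x)
    (IsPGroup.of_card (n := 1) (by rw [Nat.card_zpowers, pow_one, hx]))
  obtain ⟨g, hg⟩ := MulAction.exists_smul_eq ↥(twistedG2 K (3 ^ m)) Q P'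
  set y := g * x * g⁻¹
  have hyH : y ∈ H := by
    have h : y ∈ (P' : Subgroup ↥(twistedG2 K (3 ^ m))) := by
      rw [← hg, Sylow.coe_subgroup_smul]
      exact Subgroup.smul_mem_pointwise_smul x (MulAut.conj g) _ (hQ (Subgroup.mem_zpowers x))
    obtain ⟨w, -, hw⟩ := h
    rw [← hw]; exact w.2
  have hyo : orderOf y = r := by
    rw [← hx]
    exact orderOf_injective (MulAut.conj g).toMonoidHom (MulAut.conj g).injective x
  suffices IsCyclic (Subgroup.centralizer ({y} : Set ↥(twistedG2 K (3 ^ m)))) ∧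
      Nat.card (Subgroup.centralizer ({y} : Set ↥(twistedG2 K (3 ^ m)))) = Fintype.card K - 1 by
    obtain ⟨h1, h2⟩ := this
    let e := (Subgroup.centralizer ({x} : Set ↥(twistedG2 K (3 ^ m)))).equivMapOfInjective
      (MulAut.conj g).toMonoidHom (MulAut.conj g).injective
    rw [cent_conj] at h1 h2
    exact ⟨isCyclic_of_surjective e.symm e.symm.surjective, (Nat.card_congr e.toEquiv).trans h2⟩
  -- the centraliser of `y` is the torus
  have hyd : (y : GL chevG2.Idx K) ∈ chevG2.diagonalSubgroup K := hyH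
  have hy1 : (y : GL chevG2.Idx K) ≠ 1 := fun e => hr.one_lt.ne' (by
    rw [← hyo, show y = 1 from Subtype.ext e, orderOf_one])
  have hyodd : Odd (orderOf (y : GL chevG2.Idx K)) := by
    rw [Subgroup.orderOf_coe, hyo]; exact hr.odd_of_ne_two hr2
  have hfree := (odd_fpf hK).2 _ (Subgroup.mem_inf.2 ⟨hyd, y.2⟩) hy1 hyodd
  have htor : ∀ h : ↥(twistedG2 K (3 ^ m)), h ∈ H → ∃ c, (h : GL chevG2.Idx K) = parHom hK c := fun h hh =>
    fixed_torus hK hh (le_fix hK h.2)
  have hHcomm : ∀ h ∈ H, ∀ k ∈ H, h * k = k * h := by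
    intro h hh k hk
    obtain ⟨c, hc⟩ := htor h hh
    obtain ⟨d, hd⟩ := htor k hk
    refine Subtype.ext ?_
    rw [Subgroup.coe_mul, Subgroup.coe_mul, hc, hd, ← map_mul, ← map_mul, mul_comm]
  have haH : inv0 hK ∈ H := (Torus.range_torusHom mem_data).le ⟨_, rfl⟩
  obtain ⟨hDc, hD⟩ := cent_pair hK hr hr2 hr3 hyo (Subgroup.mem_centralizer_singleton_iff.2 (hHcomm _ hyH _ haH))
  set D := Subgroup.centralizer ({inv0 hK, y} : Set ↥(twistedG2 K (3 ^ m)))
  have hHD : H ≤ D := fun h hh => Subgroup.mem_centralizer_iff.2 (by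
    rintro w (rfl | rfl)
    · exact hHcomm _ haH _ hh
    · exact hHcomm _ hyH _ hh)
  have hnot : ¬ r ∣ Fintype.card K + 1 := by
    intro h
    have h2 : r ∣ 2 := by
      have hs := Nat.dvd_sub h hrd
      rwa [show Fintype.card K + 1 - (Fintype.card K - 1) = 2 by have := Fintype.card_pos (α := K); omega] at hs
    exact hr2 ((Nat.prime_dvd_prime_iff_eq hr (by norm_num)).1 h2)
  obtain ⟨hDcard, -, hDcyc⟩ := hD.resolve_right fun h => hnot h.2.1
  have hDH : H = D := Subgroup.eq_of_le_of_card_ge hHD (by rw [hHc, hDcard])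
  obtain ⟨n, hnf, hnm, -, hnn, hform⟩ := rank_one hK
  have key : Subgroup.centralizer ({y} : Set ↥(twistedG2 K (3 ^ m))) = H := by
    refine le_antisymm (fun c hc => ?_) fun h hh => Subgroup.mem_centralizer_singleton_iff.2 (hHcomm _ hh _ hyH)
    have hcy : (c : GL chevG2.Idx K) * y = y * c :=
      congrArg Subtype.val (Subgroup.mem_centralizer_singleton_iff.1 hc)
    have hU : ∀ v ∈ chevG2.posUnipotent K, v ∈ (tw hK).fix → v * (y : GL chevG2.Idx K) = y * v → v = 1 := by
      intro v hv hvf hvy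
      rw [← eq_fix hK] at hvf
      refine Subgroup.mem_bot.1 (hfree.le (Subgroup.mem_inf.2 ⟨Subgroup.mem_inf.2 ⟨hv, hvf⟩, ?_⟩))
      exact Subgroup.mem_centralizer_singleton_iff.2 hvy
    have hnorm : ∀ v ∈ chevG2.posUnipotent K, (y : GL chevG2.Idx K)⁻¹ * v * y ∈ chevG2.posUnipotent K := by
      intro v hv
      have := borel_norm_pos (Subgroup.mem_sup_right (inv_mem hyd) : (y : GL chevG2.Idx K)⁻¹ ∈ chevG2.borelSubgroup K) hv
      rwa [inv_inv] at this
    have hdz : ∀ v ∈ chevG2.posUnipotent K, v ∈ chevG2.diagonalSubgroup K → v = 1 := fun v h1 h2 =>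
      Subgroup.mem_bot.1 ((BH.pos_inf_diagonal mem_data).le ⟨h1, h2⟩)
    rcases hform _ (le_fix hK c.2) with hB | ⟨b, hb, hbf, u, hu, huf, e⟩
    · obtain ⟨v, hv, hvf, k, hk, -, ek⟩ := (tw hK).borel_form hB (le_fix hK c.2)
      have hky : k * (y : GL chevG2.Idx K) = y * k := by
        obtain ⟨d, hd⟩ := (Torus.range_torusHom mem_data).ge hk
        obtain ⟨d', hd'⟩ := (Torus.range_torusHom mem_data).ge hyd
        rw [← hd, ← hd', ← map_mul, ← map_mul, mul_comm]
      have : v = 1 := hU v hv hvf (by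
        refine mul_right_cancel (b := k) ?_
        rw [mul_assoc, ← hky, ← mul_assoc, ← ek, hcy, ek, mul_assoc])
      show (c : GL chevG2.Idx K) ∈ chevG2.diagonalSubgroup K
      rw [ek, this, one_mul]; exact hk
    · obtain ⟨v, hv, hvf, k, hk, -, ek⟩ := (tw hK).borel_form hb hbf
      -- conjugate `y` through the decomposition
      set w := (y : GL chevG2.Idx K)⁻¹ * u * y * u⁻¹ with hw
      have hwU : w ∈ chevG2.posUnipotent K := mul_mem (hnorm u hu) (inv_mem hu)
      have e1 : n * ((y : GL chevG2.Idx K) * w) * n⁻¹ = b⁻¹ * y * b := by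
        have h0 : b * n * u * (y : GL chevG2.Idx K) = y * (b * n * u) := by rw [← e, hcy]
        calc n * ((y : GL chevG2.Idx K) * w) * n⁻¹ = b⁻¹ * (b * n * u * y) * u⁻¹ * n⁻¹ := by rw [hw]; group
          _ = b⁻¹ * (y * (b * n * u)) * u⁻¹ * n⁻¹ := by rw [h0]
          _ = b⁻¹ * y * b := by group
      have hd : n * (y : GL chevG2.Idx K) * n⁻¹ ∈ chevG2.diagonalSubgroup K := N.diagonal_normal mem_data hnm hyd
      have hbB : b⁻¹ * (y : GL chevG2.Idx K) * b ∈ chevG2.borelSubgroup K :=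
        mul_mem (mul_mem (inv_mem hb) (Subgroup.mem_sup_right hyd)) hb
      have hwB : n * w * n⁻¹ ∈ chevG2.borelSubgroup K := by
        rw [show n * w * n⁻¹ = (n * (y : GL chevG2.Idx K) * n⁻¹)⁻¹ * (n * ((y : GL chevG2.Idx K) * w) * n⁻¹) by group,
          e1]
        exact mul_mem (inv_mem (Subgroup.mem_sup_right hd)) hbB
      have hwd : n * w * n⁻¹ ∈ chevG2.diagonalSubgroup K :=
        (BH.borel_inf_negBorel mem_data).le (Subgroup.mem_inf.2 ⟨hwB, Subgroup.mem_sup_left (hnn w hwU)⟩)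
      have hw1 : w = 1 := hdz w hwU (by
        have := N.diagonal_normal mem_data (inv_mem hnm) hwd
        rwa [inv_inv, show n⁻¹ * (n * w * n⁻¹) * n = w by group] at this)
      have hu1 : u = 1 := hU u hu huf (by
        rw [hw, mul_inv_eq_one, mul_assoc, inv_mul_eq_iff_eq_mul] at hw1
        exact hw1)
      rw [hw1, mul_one] at e1
      have hv1 : v = 1 := by
        have h1 : v⁻¹ * (y : GL chevG2.Idx K) * v = k * (n * (y : GL chevG2.Idx K) * n⁻¹) * k⁻¹ := by
          rw [e1, ek]; group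
        have h2 : v⁻¹ * (y : GL chevG2.Idx K) * v ∈ chevG2.diagonalSubgroup K :=
          h1 ▸ mul_mem (mul_mem hk hd) (inv_mem hk)
        have h3 := hdz ((y : GL chevG2.Idx K)⁻¹ * v⁻¹ * y * v) (mul_mem (hnorm _ (inv_mem hv)) hv)
          (by rw [show (y : GL chevG2.Idx K)⁻¹ * v⁻¹ * y * v = (y : GL chevG2.Idx K)⁻¹ * (v⁻¹ * y * v) by group]
              exact mul_mem (inv_mem hyd) h2)
        refine hU v hv hvf ?_
        rw [mul_assoc, mul_assoc, inv_mul_eq_one, eq_comm, inv_mul_eq_iff_eq_mul] at h3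
        exact h3.symm
      have hcm : (c : GL chevG2.Idx K) = k * n := by rw [e, ek, hu1, hv1]; group
      have hca : c * inv0 hK * c⁻¹ = inv0 hK := by
        have hmem : c * inv0 hK * c⁻¹ ∈ H := by
          show ((c * inv0 hK * c⁻¹ : ↥(twistedG2 K (3 ^ m))) : GL chevG2.Idx K) ∈ chevG2.diagonalSubgroup K
          simp only [Subgroup.coe_mul, Subgroup.coe_inv]
          rw [hcm, show k * n * (inv0 hK : GL chevG2.Idx K) * (k * n)⁻¹ =
            k * (n * (inv0 hK : GL chevG2.Idx K) * n⁻¹) * k⁻¹ by group]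
          exact mul_mem (mul_mem hk (N.diagonal_normal mem_data hnm haH)) (inv_mem hk)
        obtain ⟨d, hd'⟩ := htor _ hmem
        obtain ⟨ha1, ha2⟩ := inv0_spec hK
        have hd2 : d * d = 1 := parHom_inj hK (by
          rw [map_mul, ← hd', map_one, ← Subgroup.coe_mul, ← Subgroup.coe_one]
          exact congrArg Subtype.val (show c * inv0 hK * c⁻¹ * (c * inv0 hK * c⁻¹) = 1 by
            rw [show c * inv0 hK * c⁻¹ * (c * inv0 hK * c⁻¹) = c * (inv0 hK * inv0 hK) * c⁻¹ by group, ha2,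
              mul_one, mul_inv_cancel]))
        have hd3 : (d : K) * d = 1 := by rw [← Units.val_mul, hd2, Units.val_one]
        rcases mul_self_eq_one_iff.1 hd3 with h | h
        · exfalso
          rw [show d = 1 from Units.ext h, map_one] at hd'
          exact ha1 (conj_eq_one_iff.1 (Subtype.ext hd'))
        · exact Subtype.ext (hd'.trans (by rw [show d = -1 from Units.ext (by simpa using h)]; rfl))
      rw [hDH]
      refine Subgroup.mem_centralizer_iff.2 ?_
      rintro z (rfl | rfl)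
      · exact (mul_inv_eq_iff_eq_mul.1 hca).symm
      · exact (Subgroup.mem_centralizer_singleton_iff.1 hc).symm
  rw [key, hDH]
  exact ⟨hDcyc, hDcard⟩

/-- the quarter torus -/
theorem quarter_cent (hm : 1 ≤ m) {r : ℕ} (hr : r.Prime) (hr2 : r ≠ 2) (hr3 : r ≠ 3)
    (hrd : r ∣ Fintype.card K + 1) {x : ↥(twistedG2 K (3 ^ m))} (hx : orderOf x = r) :
    IsMulCommutative (Subgroup.centralizer ({x} : Set ↥(twistedG2 K (3 ^ m)))) ∧
      Nat.card (Subgroup.centralizer ({x} : Set ↥(twistedG2 K (3 ^ m)))) = Fintype.card K + 1 ∧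
      ∀ y ∈ Subgroup.centralizer ({x} : Set ↥(twistedG2 K (3 ^ m))), orderOf y ≠ 4 := by
  classical
  haveI : Fact (Nat.Prime 2) := ⟨Nat.prime_two⟩
  haveI : Fact (Nat.Prime 3) := ⟨Nat.prime_three⟩
  obtain ⟨g, hgx⟩ := into_centralizer hK hr hr3 (Or.inr hrd) hx
  suffices h : ∀ y : ↥(twistedG2 K (3 ^ m)), orderOf y = r → y ∈ Subgroup.centralizer {inv0 hK} →
      Subgroup.centralizer ({y} : Set ↥(twistedG2 K (3 ^ m))) = Subgroup.centralizer {inv0 hK, y} ∧
      Nat.card (Subgroup.centralizer ({inv0 hK, y} : Set ↥(twistedG2 K (3 ^ m)))) = Fintype.card K + 1 ∧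
      IsMulCommutative (Subgroup.centralizer ({inv0 hK, y} : Set ↥(twistedG2 K (3 ^ m)))) ∧
      ∀ z ∈ Subgroup.centralizer ({inv0 hK, y} : Set ↥(twistedG2 K (3 ^ m))), orderOf z ≠ 4 by
    have hxo : orderOf (g * x * g⁻¹) = r := by
      rw [← hx]; exact orderOf_injective (MulAut.conj g).toMonoidHom (MulAut.conj g).injective x
    obtain ⟨h1, h2, h3, h4⟩ := h _ hxo hgx
    rw [← h1, cent_conj] at h2 h3 h4
    set C := Subgroup.centralizer ({x} : Set ↥(twistedG2 K (3 ^ m)))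
    let e := C.equivMapOfInjective (MulAut.conj g).toMonoidHom (MulAut.conj g).injective
    refine ⟨⟨⟨fun a b => e.injective ?_⟩⟩, (Nat.card_congr e.toEquiv).trans h2, fun y hy h => ?_⟩
    · rw [map_mul, map_mul, h3.is_comm.comm]
    · refine h4 _ (Subgroup.mem_map_of_mem _ hy) ?_
      rw [orderOf_injective (MulAut.conj g).toMonoidHom (MulAut.conj g).injective y, h]
  intro y hy hya
  have hnot : ¬ r ∣ Fintype.card K - 1 := by
    intro h
    have hs := Nat.dvd_sub hrd h
    rw [show Fintype.card K + 1 - (Fintype.card K - 1) = 2 by have := Fintype.card_pos (α := K); omega] at hs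
    exact hr2 ((Nat.prime_dvd_prime_iff_eq hr (by norm_num)).1 hs)
  obtain ⟨hDc, hD⟩ := cent_pair hK hr hr2 hr3 hy hya
  obtain ⟨hDcard, -, hD4⟩ := hD.resolve_left fun h => hnot h.2.1
  set D := Subgroup.centralizer ({inv0 hK, y} : Set ↥(twistedG2 K (3 ^ m))) with hDdef
  set C := Subgroup.centralizer ({y} : Set ↥(twistedG2 K (3 ^ m))) with hCdef
  refine ⟨?_, hDcard, hDc, hD4⟩
  have hDC : D ≤ C := Subgroup.centralizer_le (Set.singleton_subset_iff.2 (Set.mem_insert_of_mem _ rfl))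
  have hDcomm : ∀ a ∈ D, ∀ b ∈ D, a * b = b * a := fun a ha b hb =>
    congrArg Subtype.val (hDc.is_comm.comm ⟨a, ha⟩ ⟨b, hb⟩)
  obtain ⟨ha1, ha2⟩ := inv0_spec hK
  obtain ⟨-, hsyl⟩ := involution_centralizer hK (inv0 hK) ((Torus.range_torusHom mem_data).le ⟨_, rfl⟩) ha1 ha2
  have haD : inv0 hK ∈ D := Subgroup.mem_centralizer_iff.2 (by
    rintro w (rfl | hw)
    · rfl
    · rw [Set.mem_singleton_iff.1 hw]; exact (Subgroup.mem_centralizer_singleton_iff.1 hya))
  -- no element of order three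
  have h3 : ¬ 3 ∣ Nat.card C := by
    intro h
    obtain ⟨t, ht⟩ := exists_prime_orderOf_dvd_card' (G := C) 3 h
    obtain ⟨S, hS⟩ := exists_sylow hK
    obtain ⟨Q, hQ⟩ := IsPGroup.exists_le_sylow (p := 3) (P := Subgroup.zpowers (t : ↥(twistedG2 K (3 ^ m))))
      (IsPGroup.of_card (n := 1) (by rw [Nat.card_zpowers, pow_one, Subgroup.orderOf_coe, ht]))
    obtain ⟨c, hc⟩ := MulAction.exists_smul_eq ↥(twistedG2 K (3 ^ m)) Q S
    set u := c * (t : ↥(twistedG2 K (3 ^ m))) * c⁻¹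
    set z := c * y * c⁻¹
    have huU : (u : GL chevG2.Idx K) ∈ chevG2.posUnipotent K := by
      have h : u ∈ (S : Subgroup ↥(twistedG2 K (3 ^ m))) := by
        rw [← hc, Sylow.coe_subgroup_smul]
        exact Subgroup.smul_mem_pointwise_smul _ (MulAut.conj c) _ (hQ (Subgroup.mem_zpowers _))
      rw [hS, Subgroup.mem_subgroupOf] at h
      exact h
    have hu1 : (u : GL chevG2.Idx K) ≠ 1 := fun e => by
      have h1 : (t : ↥(twistedG2 K (3 ^ m))) = 1 := conj_eq_one_iff.1 (Subtype.ext e)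
      rw [← Subgroup.orderOf_coe, h1, orderOf_one] at ht
      norm_num at ht
    have hzo : orderOf z = r := by
      rw [← hy]; exact orderOf_injective (MulAut.conj c).toMonoidHom (MulAut.conj c).injective y
    have hzu : (z : GL chevG2.Idx K) * u * (z : GL chevG2.Idx K)⁻¹ = u := by
      rw [mul_inv_eq_iff_eq_mul]
      refine congrArg Subtype.val (show z * u = u * z from ?_)
      simp only [z, u]
      rw [show c * y * c⁻¹ * (c * t * c⁻¹) = c * (y * t) * c⁻¹ by group,
        show c * t * c⁻¹ * (c * y * c⁻¹) = c * (t * y) * c⁻¹ by group,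
        Subgroup.mem_centralizer_singleton_iff.1 t.2]
    have hzB : (z : GL chevG2.Idx K) ∈ chevG2.borelSubgroup K := by
      by_contra hzB
      exact hu1 (ti hK (le_fix hK z.2) hzB huU (by rw [hzu]; exact huU))
    obtain ⟨v, hv, hvf, k, hk, hkf, e⟩ := (tw hK).borel_form hzB (le_fix hK z.2)
    obtain ⟨d, hd⟩ := fixed_torus hK hk hkf
    have hpow : ∀ i : ℕ, (z : GL chevG2.Idx K) ^ i * (k ^ i)⁻¹ ∈ chevG2.posUnipotent K := by
      intro i
      induction i with
      | zero => simp [one_mem]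
      | succ i ih =>
        rw [pow_succ' (z : GL chevG2.Idx K), pow_succ' k]
        rw [show (z : GL chevG2.Idx K) * (z : GL chevG2.Idx K) ^ i * (k * k ^ i)⁻¹ =
          v * (k * ((z : GL chevG2.Idx K) ^ i * (k ^ i)⁻¹) * k⁻¹) by rw [e]; group]
        exact mul_mem hv (borel_norm_pos (Subgroup.mem_sup_right hk) ih)
    have hkq : k ^ (Fintype.card K - 1) = 1 := by
      rw [hd, ← map_pow, ← Fintype.card_units, pow_card_eq_one, map_one]
    have h1 := hpow (Fintype.card K - 1)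
    rw [hkq, inv_one, mul_one] at h1
    have h2 : z ^ (Fintype.card K - 1) ∈ (S : Subgroup ↥(twistedG2 K (3 ^ m))) := by
      rw [hS, Subgroup.mem_subgroupOf, Subgroup.coe_pow]; exact h1
    have h4 : orderOf z ∣ (Fintype.card K - 1) * Nat.card (S : Subgroup ↥(twistedG2 K (3 ^ m))) := by
      refine orderOf_dvd_of_pow_eq_one ?_
      rw [pow_mul]
      exact congrArg Subtype.val (pow_card_eq_one' (x := (⟨_, h2⟩ : (S : Subgroup ↥(twistedG2 K (3 ^ m))))))
    rw [hzo, S.card_eq_multiplicity] at h4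
    rcases hr.dvd_mul.1 h4 with h | h
    · exact hnot h
    · exact hr3 ((Nat.prime_dvd_prime_iff_eq hr Nat.prime_three).1 (hr.dvd_of_dvd_pow h))
  -- a Sylow `2`-subgroup of the centraliser
  have hq : Fintype.card K % 8 = 3 := by
    rw [hK, pow_succ, pow_mul, Nat.mul_mod, Nat.pow_mod]; norm_num
  obtain ⟨V⟩ : Nonempty (Sylow 2 D) := inferInstance
  set P₀ := (V : Subgroup D).map D.subtype with hP₀
  have hP₀c : Nat.card P₀ = 4 := by
    rw [hP₀, Subgroup.card_map_of_injective D.subtype_injective, V.card_eq_multiplicity, hDcard]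
    obtain ⟨k, hk⟩ : ∃ k, Fintype.card K + 1 = 4 * (2 * k + 1) := ⟨Fintype.card K / 8, by omega⟩
    rw [hk, Nat.factorization_mul (by norm_num) (by omega), Finsupp.add_apply,
      Nat.factorization_eq_zero_of_not_dvd (n := 2 * k + 1) (by omega), show (4 : ℕ) = 2 ^ 2 from rfl,
      Nat.Prime.factorization_pow Nat.prime_two, Finsupp.single_eq_same]
  have hP₀D : P₀ ≤ D := Subgroup.map_subtype_le _
  obtain ⟨P, hP⟩ := IsPGroup.exists_le_sylow (p := 2) (P := P₀.subgroupOf C)
    (IsPGroup.of_card (n := 2) (by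
      rw [Nat.card_congr (Subgroup.subgroupOfEquivOfLe (hP₀D.trans hDC)).toEquiv, hP₀c]; rfl))
  set P₁ := (P : Subgroup C).map C.subtype with hP₁
  obtain ⟨S, hS⟩ := IsPGroup.exists_le_sylow (p := 2) (P := P₁) (P.isPGroup'.map C.subtype)
  obtain ⟨hcentS, -⟩ := sylow_normalizer hK hm S
  have hP₁c : Nat.card P₁ = 4 := by
    have hle : Nat.card P₁ ∣ 8 := (hsyl S).1 ▸ Subgroup.card_dvd_of_le hS
    have hge : 4 ∣ Nat.card P₁ := hP₀c ▸ Subgroup.card_dvd_of_le (fun z hz =>
      ⟨⟨z, hDC (hP₀D hz)⟩, hP (Subgroup.mem_subgroupOf.2 hz), rfl⟩)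
    have hne : Nat.card P₁ ≠ 8 := fun h8 => by
      have hPS : P₁ = S := Subgroup.eq_of_le_of_card_ge hS (by rw [h8, (hsyl S).1])
      have hyS : y ∈ Subgroup.centralizer ((S : Subgroup ↥(twistedG2 K (3 ^ m))) : Set ↥(twistedG2 K (3 ^ m))) := by
        rw [← hPS]
        refine Subgroup.mem_centralizer_iff.2 ?_
        rintro _ ⟨w, -, rfl⟩
        exact Subgroup.mem_centralizer_singleton_iff.1 w.2
      rw [hcentS] at hyS
      have : orderOf y ∣ 2 := orderOf_dvd_of_pow_eq_one (by rw [pow_two, (hsyl S).2 y hyS])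
      rw [hy] at this
      exact hr2 ((Nat.prime_dvd_prime_iff_eq hr Nat.prime_two).1 this)
    obtain ⟨k, hk⟩ := hge
    have := Nat.le_of_dvd (by norm_num) hle
    rw [hk] at hle hne ⊢
    have : k ≤ 2 := by omega
    interval_cases k <;> omega
  have hP₁₀ : P₁ = P₀ := (Subgroup.eq_of_le_of_card_ge (show P₀ ≤ P₁ from fun z hz =>
    ⟨⟨z, hDC (hP₀D hz)⟩, hP (Subgroup.mem_subgroupOf.2 hz), rfl⟩) (by rw [hP₁c, hP₀c])).symm
  have haP : inv0 hK ∈ P₁ := by
    rw [hP₁₀]
    have h2 : IsPGroup 2 (Subgroup.zpowers (⟨inv0 hK, haD⟩ : D)) := IsPGroup.of_card (n := 1) (by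
      rw [Nat.card_zpowers, pow_one]
      exact orderOf_eq_prime (Subtype.ext (by simpa [pow_two] using ha2)) (fun e => ha1 (congrArg Subtype.val e)))
    haveI : Subsingleton (Sylow 2 D) := ⟨fun A B => by
      obtain ⟨g, rfl⟩ := MulAction.exists_smul_eq D A B
      refine Sylow.ext ?_
      rw [Sylow.coe_subgroup_smul]
      refine le_antisymm (fun z hz => Subgroup.mem_pointwise_smul_iff_inv_smul_mem.2 ?_) (fun z hz => ?_)
      · simpa [← map_inv, hDc.is_comm.comm g⁻¹ z] using hz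
      · have := Subgroup.mem_pointwise_smul_iff_inv_smul_mem.1 hz
        simpa [← map_inv, hDc.is_comm.comm g⁻¹ z] using this⟩
    obtain ⟨W, hW⟩ := h2.exists_le_sylow
    rw [hP₀]
    exact Subgroup.mem_map.2 ⟨⟨_, haD⟩, Subsingleton.elim W V ▸ hW (Subgroup.mem_zpowers _), rfl⟩
  -- centralisers of the involutions of `P`
  have hinv : ∀ v ∈ P₁, v ≠ 1 → ∀ z ∈ C, z * v = v * z → z ∈ D := by
    intro v hv hv1 z hz hzv
    obtain ⟨c, hc⟩ := invol_conj hK hm hv1 ((hsyl S).2 v (hS hv))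
    set y' := c⁻¹ * y * c
    have hy' : orderOf y' = r := by
      rw [← hy]
      simpa [y'] using orderOf_injective (MulAut.conj c⁻¹).toMonoidHom (MulAut.conj c⁻¹).injective y
    have hvD : v ∈ D := hP₀D (hP₁₀ ▸ hv)
    have hvy : y * v = v * y := (Subgroup.mem_centralizer_iff.1 hvD) y (Set.mem_insert_of_mem _ rfl)
    have hy'a : y' ∈ Subgroup.centralizer {inv0 hK} := by
      rw [Subgroup.mem_centralizer_singleton_iff, show inv0 hK = c⁻¹ * v * c by rw [← hc]; group]
      simp only [y']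
      rw [show c⁻¹ * y * c * (c⁻¹ * v * c) = c⁻¹ * (y * v) * c by group, hvy]
      group
    obtain ⟨hE, hE'⟩ := cent_pair hK hr hr2 hr3 hy' hy'a
    obtain ⟨hEc, -, -⟩ := hE'.resolve_left fun h => hnot h.2.1
    -- transport back
    set E := (Subgroup.centralizer ({inv0 hK, y'} : Set ↥(twistedG2 K (3 ^ m)))).map (MulAut.conj c).toMonoidHom
    have hmem : ∀ w, w * v = v * w → w * y = y * w → w ∈ E := by
      intro w h1 h2
      refine ⟨c⁻¹ * w * c, Subgroup.mem_centralizer_iff.2 ?_, by simp [mul_assoc]⟩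
      rintro s (rfl | hs)
      · rw [show inv0 hK = c⁻¹ * v * c by rw [← hc]; group,
          show c⁻¹ * v * c * (c⁻¹ * w * c) = c⁻¹ * (v * w) * c by group, ← h1]
        group
      · rw [Set.mem_singleton_iff.1 hs]
        simp only [y']
        rw [show c⁻¹ * y * c * (c⁻¹ * w * c) = c⁻¹ * (y * w) * c by group, ← h2]
        group
    have hDE : D ≤ E := fun w hw => hmem w (hDcomm w hw v hvD)
      ((Subgroup.mem_centralizer_iff.1 hw) y (Set.mem_insert_of_mem _ rfl)).symm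
    have hDE' : D = E := Subgroup.eq_of_le_of_card_ge hDE (by
      rw [Subgroup.card_map_of_injective (MulAut.conj c).injective, hEc, hDcard])
    rw [hDE']
    exact hmem z hzv (Subgroup.mem_centralizer_singleton_iff.1 hz)
  -- normal complement
  have hPsq : ∀ v : C, v ∈ (P : Subgroup C) → v * v = 1 := fun v hv =>
    Subtype.ext ((hsyl S).2 v (hS ⟨v, hv, rfl⟩))
  have hNC : Subgroup.normalizer ((P : Subgroup C) : Set C) ≤ Subgroup.centralizer ((P : Subgroup C) : Set C) := by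
    set N := Subgroup.normalizer ((P : Subgroup C) : Set C)
    let φ : N →* Equiv.Perm ↥(P : Subgroup C) :=
      (MulAut.toPerm (P : Subgroup C)).comp (P : Subgroup C).normalizerMonoidHom
    have hker : φ.ker = (Subgroup.centralizer ((P : Subgroup C) : Set C)).subgroupOf N := by
      rw [← Subgroup.normalizerMonoidHom_ker]
      ext n
      simp only [φ, MonoidHom.mem_ker, MonoidHom.comp_apply]
      exact ⟨fun h => MulEquiv.ext fun z => Equiv.ext_iff.1 h z, fun h => by rw [h, map_one]⟩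
    have h24 : Nat.card φ.range ∣ 24 := by
      have := Subgroup.card_subgroup_dvd_card φ.range
      rwa [Nat.card_perm, show Nat.card ↥(P : Subgroup C) = 4 by
        rw [← hP₁c, hP₁, Subgroup.card_map_of_injective C.subtype_injective]] at this
    have hPK : (P : Subgroup C).subgroupOf N ≤ φ.ker := fun n hn => by
      rw [hker, Subgroup.mem_subgroupOf, Subgroup.mem_centralizer_iff]
      intro v hv
      have hvn := hPsq _ (mul_mem hv (Subgroup.mem_subgroupOf.1 hn))
      exact comm_of_sq (hPsq v hv) (hPsq _ (Subgroup.mem_subgroupOf.1 hn)) hvn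
    have h1 : Nat.card φ.range = φ.ker.index := (Subgroup.index_ker φ).symm
    have h2 : ¬ 2 ∣ φ.ker.index := fun h => P.not_dvd_index
      ((h.trans (Subgroup.index_dvd_of_le hPK)).trans
        (Subgroup.relIndex_dvd_index_of_le Subgroup.le_normalizer))
    have h3' : ¬ 3 ∣ φ.ker.index := fun h => h3 ((h.trans φ.ker.index_dvd_card).trans
      (Subgroup.card_subgroup_dvd_card N))
    have hone : φ.ker.index = 1 := by
      have hd : φ.ker.index ∣ 24 := h1 ▸ h24
      have := Nat.le_of_dvd (by norm_num) hd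
      generalize φ.ker.index = j at hd h2 h3' this ⊢
      interval_cases j <;> omega
    intro n hn
    have : (⟨n, hn⟩ : N) ∈ φ.ker := by rw [Subgroup.index_eq_one.1 hone]; exact Subgroup.mem_top _
    rwa [hker, Subgroup.mem_subgroupOf] at this
  set M := (MonoidHom.transferSylow P hNC).ker
  have hcompl : Subgroup.IsComplement' M (P : Subgroup C) := MonoidHom.ker_transferSylow_isComplement' P hNC
  have hMc : (Nat.card (P : Subgroup C)).Coprime (Nat.card M) := by
    have hPc : Nat.card ↥(P : Subgroup C) = 2 ^ 2 := by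
      rw [show (2 : ℕ) ^ 2 = 4 from rfl, ← hP₁c, hP₁, Subgroup.card_map_of_injective C.subtype_injective]
    rw [hPc]
    refine Nat.Coprime.pow_left 2 (Nat.prime_two.coprime_iff_not_dvd.2 fun h => P.not_dvd_index ?_)
    rwa [hcompl.index_eq_card]
  haveI hPcomm : IsMulCommutative (P : Subgroup C) := ⟨⟨fun a b => Subtype.ext
    (comm_of_sq (hPsq a a.2) (hPsq b b.2) (hPsq _ (mul_mem a.2 b.2)))⟩⟩
  have hgen := CfsgLib.GroupB.CoprimeAbelian.iSup_centralizer_eq (A := (P : Subgroup C)) (G := M) hPcomm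
    (fun n _ => by rw [Subgroup.normalizer_eq_top]; exact Subgroup.mem_top n) hMc
  have hMD : M ≤ D.subgroupOf C := by
    rw [← hgen]
    refine iSup₂_le fun B hB => ?_
    obtain ⟨hBP, a, ha, hBa⟩ := hB
    have hB1 : B ≠ ⊥ := by
      rintro rfl
      rw [bot_sup_eq] at hBa
      have h1 := congrArg (fun H : Subgroup C => Nat.card H) hBa
      simp only [Nat.card_zpowers] at h1
      rw [show Nat.card ↥(P : Subgroup C) = 4 by
        rw [← hP₁c, hP₁, Subgroup.card_map_of_injective C.subtype_injective]] at h1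
      have : orderOf a ∣ 2 := orderOf_dvd_of_pow_eq_one (by rw [pow_two, hPsq a ha])
      rw [h1] at this
      norm_num at this
    obtain ⟨v, hvB, hv1⟩ := B.bot_or_exists_ne_one.resolve_left hB1
    rintro z ⟨-, hz⟩
    refine hinv v ⟨v, hBP hvB, rfl⟩ (fun e => hv1 (Subtype.ext e)) z z.2 ?_
    exact congrArg Subtype.val (Subgroup.mem_centralizer_iff.1 hz v hvB).symm
  refine le_antisymm (fun z hz => ?_) hDC
  have htop : M ⊔ (P : Subgroup C) ≤ D.subgroupOf C := sup_le hMD fun v hv => Subgroup.mem_subgroupOf.2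
    (hP₀D (hP₁₀ ▸ (⟨v, hv, rfl⟩ : (v : ↥(twistedG2 K (3 ^ m))) ∈ P₁)))
  rw [hcompl.sup_eq_top] at htop
  exact htop (Subgroup.mem_top (⟨z, hz⟩ : C))

theorem tori_centralizers (hm : 1 ≤ m) (H : Subgroup ↥(twistedG2 K (3 ^ m))) (hH : IsCyclic H) :
    (Nat.card H = (3 ^ (2 * m + 1) - 1) / 2 →
      IsCyclic ↥(Subgroup.centralizer (H : Set ↥(twistedG2 K (3 ^ m)))) ∧
        Nat.card ↥(Subgroup.centralizer (H : Set ↥(twistedG2 K (3 ^ m)))) = 3 ^ (2 * m + 1) - 1 ∧
        ∀ A : Subgroup ↥(twistedG2 K (3 ^ m)), A ≤ H → A ≠ ⊥ →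
          Subgroup.centralizer (A : Set ↥(twistedG2 K (3 ^ m))) = Subgroup.centralizer (H : Set ↥(twistedG2 K (3 ^ m)))) ∧
    (Nat.card H = (3 ^ (2 * m + 1) + 1) / 4 →
      IsMulCommutative ↥(Subgroup.centralizer (H : Set ↥(twistedG2 K (3 ^ m)))) ∧
        Nat.card ↥(Subgroup.centralizer (H : Set ↥(twistedG2 K (3 ^ m)))) = 3 ^ (2 * m + 1) + 1 ∧
        (∀ x ∈ Subgroup.centralizer (H : Set ↥(twistedG2 K (3 ^ m))), orderOf x ≠ 4) ∧
        ∀ A : Subgroup ↥(twistedG2 K (3 ^ m)), A ≤ H → A ≠ ⊥ →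
          Subgroup.centralizer (A : Set ↥(twistedG2 K (3 ^ m))) = Subgroup.centralizer (H : Set ↥(twistedG2 K (3 ^ m)))) := by
  have hq8 : 3 ^ (2 * m + 1) % 8 = 3 := by rw [pow_succ, pow_mul, Nat.mul_mod, Nat.pow_mod]; norm_num
  have hq3 : 3 ^ (2 * m + 1) % 3 = 0 := Nat.mod_eq_zero_of_dvd (dvd_pow_self 3 (by omega))
  have hq27 : 27 ≤ 3 ^ (2 * m + 1) := le_trans (by norm_num) (Nat.pow_le_pow_right (by norm_num) (show 3 ≤ 2 * m + 1 by omega))
  constructor
  · intro hc
    have hP := cyclic_cent (fun C : Subgroup ↥(twistedG2 K (3 ^ m)) => IsCyclic C ∧ Nat.card C = Fintype.card K - 1)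
      hH (by rw [hc]; omega) fun x hx hp => by
        have hd : orderOf x ∣ (3 ^ (2 * m + 1) - 1) / 2 := hc ▸ Subgroup.orderOf_dvd_natCard H hx
        have h2 : orderOf x ≠ 2 := fun e => by rw [e] at hd; omega
        have h3 : orderOf x ≠ 3 := fun e => by rw [e] at hd; omega
        have h := split_cent hK hp h2 h3 (by
          rw [hK]; exact hd.trans (Nat.div_dvd_of_dvd (by omega))) rfl
        exact ⟨h, ⟨⟨(@IsCyclic.commGroup _ _ h.1).mul_comm⟩⟩⟩
    rw [hK] at hP
    exact ⟨hP.1.1, hP.1.2, hP.2⟩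
  · intro hc
    have hP := cyclic_cent (fun C : Subgroup ↥(twistedG2 K (3 ^ m)) => IsMulCommutative C ∧
      Nat.card C = Fintype.card K + 1 ∧ ∀ x ∈ C, orderOf x ≠ 4)
      hH (by rw [hc]; omega) fun x hx hp => by
        have hd : orderOf x ∣ (3 ^ (2 * m + 1) + 1) / 4 := hc ▸ Subgroup.orderOf_dvd_natCard H hx
        have h2 : orderOf x ≠ 2 := fun e => by rw [e] at hd; omega
        have h3 : orderOf x ≠ 3 := fun e => by rw [e] at hd; omega
        have h := quarter_cent hK hm hp h2 h3 (by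
          rw [hK]; exact hd.trans (Nat.div_dvd_of_dvd (by omega))) rfl
        exact ⟨h, h.1⟩
    rw [hK] at hP
    exact ⟨hP.1.1, hP.1.2.1, hP.1.2.2, hP.2⟩

end CfsgLib.Chev.Twisted.ReeG2
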