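import Cfsg.Agent.Lib.Chev.Twisted.G2Count

/-! The four classes of maximal tori of the small Ree groups and the elements lying in them. -/

set_option autoImplicit false

open Cfsg Cfsg.Lie
open CfsgLib.Chev CfsgLib.Chev.Checks CfsgLib.Chev.Basic

namespace CfsgLib.Chev.Twisted.ReeG2

/-- counting the conjugates of the elements with prescribed orders of a self centralising subgroup -/
theorem tor_count {G : Type*} [Group G] [Finite G] (T : Subgroup G) (P : ℕ → Prop)
    (hT : ∀ x ∈ T, P (orderOf x) → Subgroup.centralizer {x} = T) :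
    Nat.card {y : G // ∃ g, ∃ x, (x ∈ T ∧ P (orderOf x)) ∧ g * x * g⁻¹ = y} *
      Nat.card (Subgroup.normalizer (T : Set G)) = Nat.card {x : T // P (orderOf x)} * Nat.card G := by
  have ho : ∀ g x : G, orderOf (g * x * g⁻¹) = orderOf x := fun g x =>
    orderOf_injective (MulAut.conj g).toMonoidHom (MulAut.conj g).injective x
  have h := ti_count (Subgroup.normalizer (T : Set G)) {x | x ∈ T ∧ P (orderOf x)}
    (fun n hn x hx => ⟨(Subgroup.mem_normalizer_iff.1 hn x).1 hx.1, by rw [ho]; exact hx.2⟩)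
    (fun x hx g hg => by
      have e : T.map (MulAut.conj g).toMonoidHom = T := by
        conv_lhs => rw [← hT x hx.1 hx.2]
        rw [← cent_conj, hT _ hg.1 hg.2]
      rw [Subgroup.mem_normalizer_iff]
      intro z
      constructor
      · intro hz
        exact e ▸ ⟨z, hz, rfl⟩
      · intro hz
        rw [← e] at hz
        obtain ⟨w, hw, he⟩ := hz
        obtain rfl : w = z := (MulAut.conj g).injective he
        exact hw)
  refine Eq.trans h ?_
  congr 1
  exact Nat.card_congr
    { toFun := fun x => ⟨⟨x.1, x.2.1⟩, by rw [← Subgroup.orderOf_coe]; exact x.2.2⟩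
      invFun := fun x => ⟨x.1.1, x.1.2, by rw [Subgroup.orderOf_coe]; exact x.2⟩
      left_inv := fun _ => rfl
      right_inv := fun _ => rfl }

/-- the centraliser of a semisimple element of `PSL₂` is a torus -/
theorem psl_torus {K : Type*} [Field K] [Fintype K] [CharP K 3] {r : ℕ} (hr : r.Prime) (hr2 : r ≠ 2) (hr3 : r ≠ 3)
    {x : Matrix.ProjectiveSpecialLinearGroup (Fin 2) K} (hx : orderOf x = r) :
    SL2Torus.IsTorus (Subgroup.centralizer {x}) := by
  haveI := Fact.mk (show Nat.Prime 3 by norm_num)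
  have hodd : Fintype.card K % 2 = 1 := by
    by_contra h
    have h2 : ((2 : ℕ) : K) = 0 := by exact_mod_cast SL2Torus.two_eq_of_even (F := K) (by omega)
    rw [CharP.cast_eq_zero_iff K 3] at h2
    norm_num at h2
  rcases SL2Torus.trichotomy x with h | ⟨g, rfl, hg⟩ | ⟨g, rfl, hs, ht⟩
  · exact absurd (by rw [← hx, h, orderOf_one]) hr.one_lt.ne'
  · have h0 : SL2Torus.tr g ≠ 0 := fun h0 => hr2 (hx ▸ (by
      rw [CfsgLib.PSL2Klein.orderOf_π hodd, CfsgLib.PSL2Two.sq_eq_neg_one_iff hodd]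
      rwa [SL2Torus.tr, Matrix.trace_fin_two] at h0 : orderOf (PSL2Klein.π g) = 2))
    rw [SL2Torus.centralizer_π (Or.inl h0)]
    exact ⟨g, hg, rfl⟩
  · exfalso
    obtain ⟨y, b, -, hb⟩ := SL2Torus.π_u_of_unip hs ht
    have h3 : PSL2Klein.π g ^ 3 = 1 := by
      have e : PSL2Klein.π g = y * PSL2Klein.π (SL2Torus.u b) * y⁻¹ := by rw [← hb]; group
      rw [e, conj_pow, SL2Torus.π_u_pow_char 3, mul_one, mul_inv_cancel]
    exact hr3 ((Nat.prime_dvd_prime_iff_eq hr (by norm_num)).1 (hx ▸ orderOf_dvd_of_pow_eq_one h3))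

theorem tor_conj_card {F : Type*} [Field F] [Fintype F] {T T' : Subgroup (Matrix.ProjectiveSpecialLinearGroup (Fin 2) F)} (hT : SL2Torus.IsTorus T) (hT' : SL2Torus.IsTorus T') (h : Nat.card T = Nat.card T') :
    ∃ y : Matrix.ProjectiveSpecialLinearGroup (Fin 2) F, T.map (MulAut.conj y).toMonoidHom = T' := by
  obtain ⟨g, hg, rfl⟩ := hT
  obtain ⟨g', hg', rfl⟩ := hT'
  have hc : Nat.card (SL2Torus.cent g) = Nat.card (SL2Torus.cent g') := by
    rw [← SL2Torus.card_map_π (SL2Torus.neg_one_mem_cent g), ← SL2Torus.card_map_π (SL2Torus.neg_one_mem_cent g'), h]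
  obtain ⟨c, hc⟩ := SL2Torus.cent_conj hg hg' hc
  refine ⟨PSL2Klein.π c, ?_⟩
  rw [← hc, Subgroup.map_map, Subgroup.map_map]
  congr 1

/-- the data of a maximal torus of order `t` -/
structure TorData (K : Type*) [Field K] (m t : ℕ) where
  T : Subgroup ↥(twistedG2 K (3 ^ m))
  comm : IsMulCommutative T
  card : Nat.card T = t
  cent : ∀ x ∈ T, ¬ orderOf x ∣ 2 → Subgroup.centralizer {x} = T

variable {K : Type*} [Field K] [Fintype K] {m : ℕ} (hK : Fintype.card K = 3 ^ (2 * m + 1))

include hK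

theorem q_facts (hm : 1 ≤ m) : 27 ≤ Fintype.card K ∧ Fintype.card K % 8 = 3 ∧ Fintype.card K % 3 = 0 := by
  rw [hK]
  exact ⟨le_trans (by norm_num) (Nat.pow_le_pow_right (by norm_num) (show 3 ≤ 2 * m + 1 by omega)),
    by rw [pow_succ, pow_mul, Nat.mul_mod, Nat.pow_mod]; norm_num,
    Nat.mod_eq_zero_of_dvd (dvd_pow_self 3 (by omega))⟩

/-- no element of order four -/
theorem not_four (g : ↥(twistedG2 K (3 ^ m))) : ¬ 4 ∣ orderOf g := by
  intro h
  haveI := Fact.mk Nat.prime_two
  obtain ⟨ha1, ha2⟩ := inv0_spec hK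
  obtain ⟨-, hsyl⟩ := involution_centralizer hK (inv0 hK) ((Torus.range_torusHom mem_data).le ⟨_, rfl⟩) ha1 ha2
  set y := g ^ (orderOf g / 4)
  have hy : orderOf y = 4 := orderOf_pow_orderOf_div (orderOf_pos g).ne' h
  obtain ⟨S, hS⟩ := IsPGroup.exists_le_sylow (p := 2) (P := Subgroup.zpowers y)
    (IsPGroup.of_card (n := 2) (by rw [Nat.card_zpowers, hy]; rfl))
  have : orderOf y ∣ 2 := orderOf_dvd_of_pow_eq_one (by
    rw [pow_two, (hsyl S).2 y (hS (Subgroup.mem_zpowers y))])
  rw [hy] at this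
  norm_num at this

/-- subgroups of order `p` are conjugate -/
theorem prime_conj (hm : 1 ≤ m) {p : ℕ} [Fact p.Prime] (hp : 3 < p) {x y : ↥(twistedG2 K (3 ^ m))}
    (hx : orderOf x = p) (hy : orderOf y = p) : ∃ g, g * x * g⁻¹ ∈ Subgroup.zpowers y := by
  obtain ⟨P, hP⟩ := IsPGroup.exists_le_sylow (p := p) (P := Subgroup.zpowers x)
    (IsPGroup.of_card (n := 1) (by rw [Nat.card_zpowers, pow_one, hx]))
  obtain ⟨Q, hQ⟩ := IsPGroup.exists_le_sylow (p := p) (P := Subgroup.zpowers y)
    (IsPGroup.of_card (n := 1) (by rw [Nat.card_zpowers, pow_one, hy]))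
  obtain ⟨g, hg⟩ := MulAction.exists_smul_eq ↥(twistedG2 K (3 ^ m)) P Q
  refine ⟨g, ?_⟩
  haveI := sylow_cyclic hK hm hp Q
  have hgQ : g * x * g⁻¹ ∈ (Q : Subgroup ↥(twistedG2 K (3 ^ m))) := by
    rw [← hg, Sylow.coe_subgroup_smul]
    exact Subgroup.smul_mem_pointwise_smul x (MulAut.conj g) _ (hP (Subgroup.mem_zpowers x))
  have h := cyc_eq (A := (Q : Subgroup ↥(twistedG2 K (3 ^ m))))
    (H := Subgroup.zpowers ⟨_, hgQ⟩) (K := Subgroup.zpowers ⟨y, hQ (Subgroup.mem_zpowers y)⟩) (by
      rw [Nat.card_zpowers, Nat.card_zpowers]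
      refine (orderOf_injective (Q : Subgroup ↥(twistedG2 K (3 ^ m))).subtype (Subgroup.subtype_injective _) _).symm.trans
        (Eq.trans ?_ (orderOf_injective (Q : Subgroup ↥(twistedG2 K (3 ^ m))).subtype (Subgroup.subtype_injective _) _))
      exact ((orderOf_injective (MulAut.conj g).toMonoidHom (MulAut.conj g).injective x).trans hx).trans hy.symm)
  obtain ⟨i, hi⟩ := Subgroup.mem_zpowers_iff.1 (h.le (Subgroup.mem_zpowers _))
  exact Subgroup.mem_zpowers_iff.2 ⟨i, by simpa using congrArg Subtype.val hi⟩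

/-- abelian subgroups whose order has only prime divisors above three are cyclic -/
theorem cyclic_of_primes (hm : 1 ≤ m) (U : Subgroup ↥(twistedG2 K (3 ^ m))) [hU : IsMulCommutative U]
    (h : ∀ l : ℕ, l.Prime → l ∣ Nat.card U → 3 < l) : IsCyclic U := by
  letI : CommGroup U := { (inferInstance : Group U) with mul_comm := fun a b => hU.is_comm.comm a b }
  haveI : IsZGroup U := ⟨fun l hl S => by
    haveI := Fact.mk hl
    rcases (S : Subgroup U).bot_or_exists_ne_one with hb | ⟨u, hu, hu1⟩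
    · rw [hb]; infer_instance
    obtain ⟨k, hk⟩ := IsPGroup.iff_card.1 S.isPGroup'
    have hld : l ∣ Nat.card U := by
      refine (dvd_pow_self l fun e => hu1 ?_).trans (hk ▸ Subgroup.card_subgroup_dvd_card _)
      rw [e, pow_zero, Subgroup.card_eq_one] at hk
      exact Subgroup.mem_bot.1 (hk ▸ hu)
    obtain ⟨T, hT⟩ := (S.isPGroup'.map U.subtype).exists_le_sylow
    haveI := sylow_cyclic hK hm (h l hl hld) T
    haveI : IsCyclic ((S : Subgroup U).map U.subtype) :=
      isCyclic_of_injective (Subgroup.inclusion hT) (Subgroup.inclusion_injective hT)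
    exact isCyclic_of_surjective _
      ((S : Subgroup U).equivMapOfInjective U.subtype U.subtype_injective).symm.surjective⟩
  haveI : Group.IsNilpotent U := CommGroup.isNilpotent
  infer_instance

theorem tor_mk (hm : 1 ≤ m) {r : ℕ} (hr : r.Prime) (hr3 : 3 < r)
    (hrd : r ∣ Fintype.card K - 1 ∨ r ∣ Fintype.card K + 1) {y : ↥(twistedG2 K (3 ^ m))} (hy : orderOf y = r) :
    IsMulCommutative (Subgroup.centralizer ({y} : Set ↥(twistedG2 K (3 ^ m)))) ∧
    (r ∣ Fintype.card K - 1 → Nat.card (Subgroup.centralizer ({y} : Set ↥(twistedG2 K (3 ^ m)))) = Fintype.card K - 1) ∧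
    (r ∣ Fintype.card K + 1 → Nat.card (Subgroup.centralizer ({y} : Set ↥(twistedG2 K (3 ^ m)))) = Fintype.card K + 1) ∧
    ∀ x ∈ Subgroup.centralizer ({y} : Set ↥(twistedG2 K (3 ^ m))), ¬ orderOf x ∣ 2 →
      Subgroup.centralizer {x} = Subgroup.centralizer ({y} : Set ↥(twistedG2 K (3 ^ m))) := by
  obtain ⟨h27, h8, h3⟩ := q_facts hK hm
  have key : ∀ (s : ℕ) (z : ↥(twistedG2 K (3 ^ m))), s.Prime → 3 < s → orderOf z = s →
      (s ∣ Fintype.card K - 1 → IsMulCommutative (Subgroup.centralizer ({z} : Set ↥(twistedG2 K (3 ^ m)))) ∧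
        Nat.card (Subgroup.centralizer ({z} : Set ↥(twistedG2 K (3 ^ m)))) = Fintype.card K - 1) ∧
      (s ∣ Fintype.card K + 1 → IsMulCommutative (Subgroup.centralizer ({z} : Set ↥(twistedG2 K (3 ^ m)))) ∧
        Nat.card (Subgroup.centralizer ({z} : Set ↥(twistedG2 K (3 ^ m)))) = Fintype.card K + 1) := by
    intro s z hs hs3 hz
    refine ⟨fun h => ?_, fun h => ?_⟩
    · obtain ⟨h1, h2⟩ := split_cent hK hs (by omega) (by omega) h hz
      exact ⟨⟨⟨(@IsCyclic.commGroup _ _ h1).mul_comm⟩⟩, h2⟩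
    · obtain ⟨h1, h2, -⟩ := quarter_cent hK hm hs (by omega) (by omega) h hz
      exact ⟨h1, h2⟩
  obtain ⟨hk1, hk2⟩ := key r y hr hr3 hy
  set T := Subgroup.centralizer ({y} : Set ↥(twistedG2 K (3 ^ m)))
  have hcomm : IsMulCommutative T := hrd.elim (fun h => (hk1 h).1) fun h => (hk2 h).1
  refine ⟨hcomm, fun h => (hk1 h).2, fun h => (hk2 h).2, fun x hx hx2 => ?_⟩
  have hTle : ∀ z ∈ T, T ≤ Subgroup.centralizer {z} := fun z hz w hw =>
    Subgroup.mem_centralizer_singleton_iff.2 (congrArg Subtype.val (hcomm.is_comm.comm ⟨w, hw⟩ ⟨z, hz⟩))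
  obtain ⟨s, hs, hsd, hs2⟩ : ∃ s, s.Prime ∧ s ∣ orderOf x ∧ s ≠ 2 := by
    by_contra hall
    push Not at hall
    have hj := Nat.eq_prime_pow_of_unique_prime_dvd (orderOf_pos x).ne' (fun {d} hd hdd => hall d hd hdd)
    have hn4 := not_four hK x
    generalize (orderOf x).primeFactorsList.length = j at hj
    rw [hj] at hn4 hx2
    rcases j with - | - | j
    · exact hx2 (by norm_num)
    · exact hx2 (by norm_num)
    · exact hn4 ⟨2 ^ j, by ring⟩
  set z := x ^ (orderOf x / s)
  have hzo : orderOf z = s := orderOf_pow_orderOf_div (orderOf_pos x).ne' hsd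
  have hzT : z ∈ T := pow_mem hx _
  have hsT : s ∣ Nat.card T := hzo ▸ Subgroup.orderOf_dvd_natCard T hzT
  have hs3 : 3 < s := by
    by_contra hle
    have := hs.two_le
    have he : s = 3 := by omega
    subst he
    rcases hrd with h | h
    · rw [(hk1 h).2] at hsT; omega
    · rw [(hk2 h).2] at hsT; omega
  have hzc : Nat.card (Subgroup.centralizer ({z} : Set ↥(twistedG2 K (3 ^ m)))) = Nat.card T := by
    rcases hrd with h | h
    · rw [(hk1 h).2] at hsT ⊢; exact ((key s z hs hs3 hzo).1 hsT).2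
    · rw [(hk2 h).2] at hsT ⊢; exact ((key s z hs hs3 hzo).2 hsT).2
  have hzT' : T = Subgroup.centralizer {z} := Subgroup.eq_of_le_of_card_ge (hTle z hzT) hzc.le
  refine le_antisymm ?_ (hTle x hx)
  rw [hzT']
  intro w hw
  rw [Subgroup.mem_centralizer_singleton_iff] at hw ⊢
  exact ((show Commute w x from hw).pow_right _).eq

set_option maxHeartbeats 1000000 in
/-- the split and quarter tori and their normalisers -/
theorem small_tori (hm : 1 ≤ m) :
    (∃ D : TorData K m (Fintype.card K - 1), IsCyclic D.T ∧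
      Nat.card (Subgroup.normalizer (D.T : Set ↥(twistedG2 K (3 ^ m)))) = 2 * (Fintype.card K - 1)) ∧
    ∃ D : TorData K m (Fintype.card K + 1),
      Nat.card {x : D.T // x * x = 1} = 4 ∧
      Nat.card (Subgroup.normalizer (D.T : Set ↥(twistedG2 K (3 ^ m)))) = 6 * (Fintype.card K + 1) := by
  classical
  haveI := char_three hK
  obtain ⟨h27, h8, h3⟩ := q_facts hK hm
  obtain ⟨ha1, ha2⟩ := inv0_spec hK
  obtain ⟨⟨e⟩, -⟩ := involution_centralizer hK (inv0 hK) ((Torus.range_torusHom mem_data).le ⟨_, rfl⟩) ha1 ha2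
  set C := Subgroup.centralizer ({inv0 hK} : Set ↥(twistedG2 K (3 ^ m)))
  let π₂ : C →* Matrix.ProjectiveSpecialLinearGroup (Fin 2) K := (MonoidHom.snd _ _).comp e.toMonoidHom
  have hπ : Function.Surjective π₂ := fun s => ⟨e.symm (1, s), by simp [π₂]⟩
  have hπker : Nat.card π₂.ker = 2 := by
    have h := Subgroup.card_mul_index π₂.ker
    rw [Subgroup.index_ker, MonoidHom.range_eq_top.2 hπ, Subgroup.card_top, Nat.card_congr e.toEquiv, Nat.card_prod,
      Nat.card_eq_fintype_card (α := Multiplicative (ZMod 2)),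
      show Fintype.card (Multiplicative (ZMod 2)) = 2 from rfl] at h
    exact Nat.eq_of_mul_eq_mul_right Nat.card_pos h
  have hcomap : ∀ H : Subgroup (Matrix.ProjectiveSpecialLinearGroup (Fin 2) K),
      Nat.card (H.comap π₂) = 2 * Nat.card H := by
    intro H
    have h1 := Subgroup.card_mul_index (H.comap π₂)
    rw [Subgroup.index_comap_of_surjective _ hπ, Nat.card_congr e.toEquiv, Nat.card_prod,
      Nat.card_eq_fintype_card (α := Multiplicative (ZMod 2)),
      show Fintype.card (Multiplicative (ZMod 2)) = 2 from rfl, ← Subgroup.card_mul_index H, ← mul_assoc] at h1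
    exact Nat.eq_of_mul_eq_mul_right (Nat.pos_of_ne_zero Subgroup.index_ne_zero_of_finite) h1
  -- a torus through the involution
  have build : ∀ r : ℕ, r.Prime → 3 < r → (r ∣ Fintype.card K - 1 ∨ r ∣ Fintype.card K + 1) → ∀ y : ↥(twistedG2 K (3 ^ m)),
      orderOf y = r → y ∈ C →
      ∃ Tb : Subgroup (Matrix.ProjectiveSpecialLinearGroup (Fin 2) K), SL2Torus.IsTorus Tb ∧
        Subgroup.centralizer ({y} : Set ↥(twistedG2 K (3 ^ m))) = (Tb.comap π₂).map C.subtype := by
    intro r hr hr3 hrd y hy hyC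
    set zb := π₂ ⟨y, hyC⟩
    have hz1 : (e ⟨y, hyC⟩).1 = 1 := by
      set u := (e ⟨y, hyC⟩).1
      have h2 : u ^ 2 = 1 := by rw [pow_two]; exact zmod_two_sq _
      have hur : u ^ r = 1 := by
        show (e ⟨y, hyC⟩).1 ^ r = 1
        rw [← Prod.pow_fst, ← map_pow, show (⟨y, hyC⟩ : C) ^ r = 1 from Subtype.ext (by
          show y ^ r = 1; rw [← hy, pow_orderOf_eq_one]), map_one]
        rfl
      obtain ⟨k, hk⟩ := hr.odd_of_ne_two (by omega)
      rwa [hk, pow_succ, pow_mul, h2, one_pow, one_mul] at hur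
    have hzo : orderOf zb = r := by
      rw [← hy, ← Subgroup.orderOf_mk y hyC, ← MulEquiv.orderOf_eq e (⟨y, hyC⟩ : C), Prod.orderOf, hz1, orderOf_one,
        Nat.lcm_one_left]
      rfl
    refine ⟨Subgroup.centralizer {zb}, psl_torus hr (by omega) (by omega) hzo, ?_⟩
    have hle : ((Subgroup.centralizer {zb}).comap π₂).map C.subtype ≤ Subgroup.centralizer {y} := by
      rintro _ ⟨w, hw, rfl⟩
      rw [Subgroup.mem_centralizer_singleton_iff]
      refine congrArg Subtype.val (show w * ⟨y, hyC⟩ = (⟨y, hyC⟩ : C) * w from e.injective ?_)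
      rw [map_mul, map_mul]
      exact Prod.ext (mul_comm _ _) (Subgroup.mem_centralizer_singleton_iff.1 hw)
    refine (Subgroup.eq_of_le_of_card_ge hle ?_).symm
    rw [Subgroup.card_map_of_injective C.subtype_injective, hcomap]
    obtain ⟨-, hc⟩ := psl_cent hr (by omega) (by omega) hzo
    obtain ⟨-, hc1, hc2, -⟩ := tor_mk hK hm hr hr3 hrd hy
    rcases hc with ⟨hc, hd⟩ | ⟨hc, hd⟩
    · rw [hc1 hd, hc]
    · rw [hc2 hd, hc]
  -- existence of elements of suitable prime order in the centraliser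
  have exist : ∀ n : ℕ, 1 < n → Odd n → (∀ r : ℕ, r.Prime → r ∣ n → r ≠ 3) →
      (n ∣ Fintype.card K - 1 ∨ n ∣ Fintype.card K + 1) →
      ∃ r, r.Prime ∧ 3 < r ∧ r ∣ n ∧ ∃ y : ↥(twistedG2 K (3 ^ m)), orderOf y = r ∧ y ∈ C := by
    intro n hn hodd hn3 hd
    obtain ⟨r, hr, hrn⟩ := Nat.exists_prime_and_dvd hn.ne'
    have hr2 : r ≠ 2 := by rintro rfl; exact (Nat.not_even_iff_odd.2 hodd) (even_iff_two_dvd.2 hrn)
    have hr3 := hn3 r hr hrn
    have := hr.two_le
    refine ⟨r, hr, by omega, hrn, ?_⟩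
    haveI := Fact.mk hr
    have hdiv : r ∣ Nat.card C := by
      rw [card_cent_inv hK]
      refine Dvd.dvd.mul_left ?_ _
      rw [show Fintype.card K ^ 2 - 1 = (Fintype.card K + 1) * (Fintype.card K - 1) by
        simpa using Nat.sq_sub_sq (Fintype.card K) 1]
      exact hd.elim (fun h => (hrn.trans h).mul_left _) fun h => (hrn.trans h).mul_right _
    obtain ⟨y, hy⟩ := exists_prime_orderOf_dvd_card' (G := C) r hdiv
    exact ⟨y, by rw [Subgroup.orderOf_coe, hy], y.2⟩
  -- normalisers inside the centraliser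
  have hnC : ∀ Tb : Subgroup (Matrix.ProjectiveSpecialLinearGroup (Fin 2) K),
      (Subgroup.normalizer (((Tb.comap π₂).map C.subtype : Subgroup ↥(twistedG2 K (3 ^ m))) : Set _)).subgroupOf C =
        (Subgroup.normalizer (Tb : Set _)).comap π₂ := by
    intro Tb
    rw [Subgroup.comap_normalizer_eq_of_surjective _ hπ]
    ext n
    rw [Subgroup.mem_subgroupOf, Subgroup.mem_normalizer_iff, Subgroup.mem_normalizer_iff]
    constructor
    · intro h w
      have h1 : ∀ u : C, (u : ↥(twistedG2 K (3 ^ m))) ∈ (Tb.comap π₂).map C.subtype ↔ π₂ u ∈ Tb := fun u =>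
        (Subgroup.mem_map_iff_mem C.subtype_injective).trans Subgroup.mem_comap
      simpa [map_mul] using (h1 w).symm.trans ((h w).trans (h1 (n * w * n⁻¹)))
    · intro h z
      constructor
      · rintro ⟨w, hw, rfl⟩
        exact ⟨n * w * n⁻¹, (h w).1 hw, by simp⟩
      · rintro ⟨w, hw, he⟩
        refine ⟨n⁻¹ * w * n, (h _).2 ?_, ?_⟩
        · rw [show n * (n⁻¹ * w * n) * n⁻¹ = w by group]; exact hw
        · simp only [Subgroup.coe_subtype, Subgroup.coe_mul, Subgroup.coe_inv] at he ⊢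
          rw [he]; group
  constructor
  · obtain ⟨r, hr, hr3, hrn, y, hy, hyC⟩ := exist ((Fintype.card K - 1) / 2) (by omega) (Nat.odd_iff.2 (by omega))
      (fun r _ hrd e => by subst e; omega) (Or.inl (Nat.div_dvd_of_dvd (by omega)))
    have hrd : r ∣ Fintype.card K - 1 := hrn.trans (Nat.div_dvd_of_dvd (by omega))
    obtain ⟨hc, hcard, -, hcent⟩ := tor_mk hK hm hr hr3 (Or.inl hrd) hy
    obtain ⟨Tb, hTb, hT⟩ := build r hr hr3 (Or.inl hrd) y hy hyC
    set T := Subgroup.centralizer ({y} : Set ↥(twistedG2 K (3 ^ m)))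
    refine ⟨⟨T, hc, hcard hrd, hcent⟩, (split_cent hK hr (by omega) (by omega) hrd hy).1, ?_⟩
    show Nat.card (Subgroup.normalizer (T : Set ↥(twistedG2 K (3 ^ m)))) = _
    have hTc : T ≤ C := hT ▸ Subgroup.map_subtype_le _
    have haT : inv0 hK ∈ T := Subgroup.mem_centralizer_singleton_iff.2 (Subgroup.mem_centralizer_singleton_iff.1 hyC).symm
    have hNC : Subgroup.normalizer (T : Set ↥(twistedG2 K (3 ^ m))) ≤ C := by
      intro g hg
      have hmem := (Subgroup.mem_normalizer_iff.1 hg _).1 haT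
      haveI := (split_cent hK hr (by omega) (by omega) hrd hy).1
      haveI := Fact.mk Nat.prime_two
      have ho : orderOf (g * inv0 hK * g⁻¹) = 2 :=
        orderOf_eq_prime (by rw [conj_pow, pow_two, ha2, mul_one, mul_inv_cancel]) (by simp [conj_eq_one_iff, ha1])
      have h := cyc_eq (A := T) (H := Subgroup.zpowers ⟨_, hmem⟩) (K := Subgroup.zpowers ⟨_, haT⟩) (by
        rw [Nat.card_zpowers, Nat.card_zpowers]
        refine (orderOf_injective T.subtype T.subtype_injective _).symm.trans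
          (Eq.trans ?_ (orderOf_injective T.subtype T.subtype_injective _))
        exact ho.trans (orderOf_eq_prime (p := 2) (by rw [pow_two, ha2]) ha1).symm)
      obtain ⟨i, hi⟩ := Subgroup.mem_zpowers_iff.1 (h.le (Subgroup.mem_zpowers _))
      have hi' : inv0 hK ^ i = g * inv0 hK * g⁻¹ := by simpa using congrArg Subtype.val hi
      rcases Int.even_or_odd i with ⟨j, rfl⟩ | ⟨j, rfl⟩
      · exfalso
        rw [← two_mul, zpow_mul, zpow_two, ha2, one_zpow] at hi'
        rw [← hi', orderOf_one] at ho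
        norm_num at ho
      · rw [zpow_add_one, zpow_mul, zpow_two, ha2, one_zpow, one_mul] at hi'
        exact Subgroup.mem_centralizer_singleton_iff.2 (mul_inv_eq_iff_eq_mul.1 hi'.symm)
    rw [← Nat.card_congr (Subgroup.subgroupOfEquivOfLe hNC).toEquiv, hT, hnC, hcomap,
      SL2Torus.torus_normalizer_card hTb, ← hcard hrd, hT, Subgroup.card_map_of_injective C.subtype_injective, hcomap]
  · obtain ⟨r, hr, hr3, hrn, y, hy, hyC⟩ := exist ((Fintype.card K + 1) / 4) (by omega) (Nat.odd_iff.2 (by omega))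
      (fun r _ hrd e => by subst e; omega) (Or.inr (Nat.div_dvd_of_dvd (by omega)))
    have hrd : r ∣ Fintype.card K + 1 := hrn.trans (Nat.div_dvd_of_dvd (by omega))
    obtain ⟨hc, -, hcard, hcent⟩ := tor_mk hK hm hr hr3 (Or.inr hrd) hy
    obtain ⟨Tb, hTb, hT⟩ := build r hr hr3 (Or.inr hrd) y hy hyC
    set T := Subgroup.centralizer ({y} : Set ↥(twistedG2 K (3 ^ m))) with hTdef
    have hTc : T ≤ C := hT ▸ Subgroup.map_subtype_le _
    have haT : inv0 hK ∈ T := Subgroup.mem_centralizer_singleton_iff.2 (Subgroup.mem_centralizer_singleton_iff.1 hyC).symm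
    have hTbc : 2 * Nat.card Tb = Fintype.card K + 1 := by
      rw [← hcard hrd, hT, Subgroup.card_map_of_injective C.subtype_injective, hcomap]
    -- the four group
    have hinv4 : Nat.card {x : T // x * x = 1} = 4 := by
      haveI := SL2Torus.torus_cyclic hTb
      let f : Multiplicative (ZMod 2) × Tb →* ↥(twistedG2 K (3 ^ m)) :=
        (C.subtype.comp e.symm.toMonoidHom).comp ((MonoidHom.id _).prodMap Tb.subtype)
      have hf : Function.Injective f :=
        (Subtype.val_injective.comp e.symm.injective).comp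
          (Prod.map_injective.2 ⟨Function.injective_id, Subtype.val_injective⟩)
      have hfT : ∀ p, f p ∈ T := fun p => by
        rw [hT]; exact ⟨e.symm (p.1, (p.2 : Matrix.ProjectiveSpecialLinearGroup (Fin 2) K)), by simp [π₂], rfl⟩
      have hfs : ∀ x ∈ T, ∃ p, f p = x := fun x hx => by
        rw [hT] at hx
        obtain ⟨w, hw, rfl⟩ := hx
        exact ⟨((e w).1, ⟨(e w).2, hw⟩), congrArg Subtype.val (e.symm_apply_apply w)⟩
      haveI : Fact (Nat.Prime 2) := ⟨Nat.prime_two⟩
      haveI : Fintype Tb := Fintype.ofFinite Tb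
      have hsq : Nat.card {t : Tb // t ^ 2 = 1} = 2 := by
        obtain ⟨t, ht⟩ := exists_prime_orderOf_dvd_card' (G := Tb) 2 (Nat.dvd_of_mod_eq_zero (by omega))
        rw [Nat.card_eq_fintype_card, Fintype.card_subtype]
        refine le_antisymm (IsCyclic.card_pow_eq_one_le (by norm_num)) ?_
        have hsub : ({1, t} : Finset Tb) ⊆ Finset.univ.filter fun u : Tb => u ^ 2 = 1 := by
          intro u hu
          simp only [Finset.mem_insert, Finset.mem_singleton] at hu
          rcases hu with rfl | rfl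
          · simp
          · simp [← ht, pow_orderOf_eq_one]
        refine le_of_eq_of_le ?_ (Finset.card_le_card hsub)
        rw [Finset.card_pair (fun e1 => by rw [← e1, orderOf_one] at ht; norm_num at ht)]
      rw [show Nat.card {x : T // x * x = 1} =
          Nat.card (Multiplicative (ZMod 2) × {t : Tb // t ^ 2 = 1}) from (Nat.card_congr (Equiv.ofBijective
        (fun p : Multiplicative (ZMod 2) × {t : Tb // t ^ 2 = 1} => (⟨⟨f (p.1, p.2.1), hfT _⟩, Subtype.ext (by
          show f (p.1, p.2.1) * f (p.1, p.2.1) = 1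
          rw [← map_mul, Prod.mk_mul_mk, zmod_two_sq, ← pow_two, p.2.2, Prod.mk_one_one, map_one])⟩ :
          {x : T // x * x = 1}))
        ⟨fun p p' h => by
          have h' := hf (congrArg (fun z => z.1.1) h)
          have e1 : p.1 = p'.1 := congrArg (fun z : Multiplicative (ZMod 2) × Tb => z.1) h'
          have e2 : p.2.1 = p'.2.1 := congrArg (fun z : Multiplicative (ZMod 2) × Tb => z.2) h'
          exact Prod.ext e1 (Subtype.ext e2),
         fun x => by
          obtain ⟨p, hp⟩ := hfs x.1.1 x.1.2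
          have hp2 : p * p = 1 := hf (by rw [map_mul, hp, map_one]; exact congrArg Subtype.val x.2)
          exact ⟨(p.1, ⟨p.2, by rw [pow_two]; exact congrArg Prod.snd hp2⟩), Subtype.ext (Subtype.ext hp)⟩⟩)).symm,
        Nat.card_prod, hsq, Nat.card_eq_fintype_card (α := Multiplicative (ZMod 2)),
        show Fintype.card (Multiplicative (ZMod 2)) = 2 from rfl]
    refine ⟨⟨T, hc, hcard hrd, hcent⟩, hinv4, ?_⟩
    show Nat.card (Subgroup.normalizer (T : Set ↥(twistedG2 K (3 ^ m)))) = _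
    set N := Subgroup.normalizer (T : Set ↥(twistedG2 K (3 ^ m)))
    letI : MulAction N ↥(twistedG2 K (3 ^ m)) :=
      MulAction.compHom _ (ConjAct.toConjAct.toMonoidHom.comp N.subtype)
    have hsmul : ∀ (n : N) (v : ↥(twistedG2 K (3 ^ m))), n • v = (n : ↥(twistedG2 K (3 ^ m))) * v * (n : ↥(twistedG2 K (3 ^ m)))⁻¹ :=
      fun _ _ => rfl
    have hstab : MulAction.stabilizer N (inv0 hK) = C.subgroupOf N := by
      ext n
      rw [MulAction.mem_stabilizer_iff, hsmul, Subgroup.mem_subgroupOf, Subgroup.mem_centralizer_singleton_iff,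
        mul_inv_eq_iff_eq_mul]
    have horb : MulAction.orbit N (inv0 hK) = {v | v ∈ T ∧ v ≠ 1 ∧ v * v = 1} := by
      ext v
      constructor
      · rintro ⟨n, rfl⟩
        show n • inv0 hK ∈ T ∧ n • inv0 hK ≠ 1 ∧ (n • inv0 hK) * (n • inv0 hK) = 1
        rw [hsmul]
        refine ⟨(Subgroup.mem_normalizer_iff.1 n.2 _).1 haT, by simp [conj_eq_one_iff, ha1], ?_⟩
        rw [← pow_two, conj_pow, pow_two, ha2, mul_one, mul_inv_cancel]
      · rintro ⟨hvT, hv1, hv2⟩
        obtain ⟨c, hc'⟩ := invol_conj hK hm hv1 hv2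
        set y' := c⁻¹ * y * c
        have hy' : orderOf y' = r := by
          rw [← hy]
          simpa [y'] using orderOf_injective (MulAut.conj c⁻¹).toMonoidHom (MulAut.conj c⁻¹).injective y
        have hvy : v * y = y * v := Subgroup.mem_centralizer_singleton_iff.1 hvT
        have hy'C : y' ∈ C := by
          rw [Subgroup.mem_centralizer_singleton_iff, show inv0 hK = c⁻¹ * v * c by rw [← hc']; group]
          simp only [y']
          rw [show c⁻¹ * y * c * (c⁻¹ * v * c) = c⁻¹ * (y * v) * c by group, ← hvy]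
          group
        obtain ⟨Tb', hTb', hT'⟩ := build r hr hr3 (Or.inr hrd) y' hy' hy'C
        have hcard' : Nat.card Tb' = Nat.card Tb := by
          have h := (tor_mk hK hm hr hr3 (Or.inr hrd) hy').2.2.1 hrd
          rw [hT', Subgroup.card_map_of_injective C.subtype_injective, hcomap] at h
          omega
        obtain ⟨s, hs⟩ := tor_conj_card hTb' hTb hcard'
        obtain ⟨h, rfl⟩ := hπ s
        have hconj : Subgroup.map (MulAut.conj (h : ↥(twistedG2 K (3 ^ m)))).toMonoidHom
            (Subgroup.centralizer ({y'} : Set ↥(twistedG2 K (3 ^ m)))) = T := by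
          rw [hT', hT, ← hs]
          ext z
          constructor
          · rintro ⟨_, ⟨w, hw, rfl⟩, rfl⟩
            exact ⟨h * w * h⁻¹, ⟨π₂ w, hw, by simp [map_mul]⟩, by simp⟩
          · rintro ⟨w, ⟨u, hu, hwu⟩, rfl⟩
            refine ⟨_, ⟨h⁻¹ * w * h, ?_, rfl⟩, by simp [mul_assoc]⟩
            show π₂ (h⁻¹ * w * h) ∈ Tb'
            rw [map_mul, map_mul, map_inv, show π₂ w = π₂ h * u * (π₂ h)⁻¹ from hwu.symm]
            simpa [mul_assoc] using hu
        set g := c * (h : ↥(twistedG2 K (3 ^ m)))⁻¹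
        have hgT : T.map (MulAut.conj g).toMonoidHom = T := by
          conv_lhs => rw [← hconj]
          rw [show y' = c⁻¹ * y * (c⁻¹)⁻¹ by rw [inv_inv], cent_conj, Subgroup.map_map, Subgroup.map_map, ← hTdef]
          refine Eq.trans (congrArg (T.map ·) (?_ : _ = MonoidHom.id _)) (Subgroup.map_id T)
          refine MonoidHom.ext fun z => ?_
          simp [g, mul_assoc]
        have hgN : g ∈ N := by
          rw [Subgroup.mem_normalizer_iff]
          intro z
          constructor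
          · intro hz; exact hgT ▸ ⟨z, hz, rfl⟩
          · intro hz
            rw [← hgT] at hz
            obtain ⟨w, hw, he⟩ := hz
            obtain rfl : w = z := (MulAut.conj g).injective he
            exact hw
        refine ⟨⟨g, hgN⟩, ?_⟩
        show (⟨g, hgN⟩ : N) • inv0 hK = v
        rw [hsmul, ← hc']
        simp only [g]
        rw [show c * (h : ↥(twistedG2 K (3 ^ m)))⁻¹ * inv0 hK * (c * (h : ↥(twistedG2 K (3 ^ m)))⁻¹)⁻¹ =
          c * ((h : ↥(twistedG2 K (3 ^ m)))⁻¹ * (inv0 hK * h)) * c⁻¹ by group,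
          ← Subgroup.mem_centralizer_singleton_iff.1 h.2, inv_mul_cancel_left]
    have h3' : (MulAction.orbit N (inv0 hK)).ncard = 3 := by
      rw [horb]
      have e4 : {v | v ∈ T ∧ v * v = 1}.ncard = 4 := by
        rw [← hinv4, ← Nat.card_coe_set_eq]
        exact Nat.card_congr
          { toFun := fun x => ⟨⟨x.1, x.2.1⟩, Subtype.ext x.2.2⟩
            invFun := fun x => ⟨x.1.1, x.1.2, congrArg Subtype.val x.2⟩
            left_inv := fun _ => rfl
            right_inv := fun _ => rfl }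
      rw [show {v | v ∈ T ∧ v ≠ 1 ∧ v * v = 1} = {v | v ∈ T ∧ v * v = 1} \ {1} by ext v; simp; tauto,
        Set.ncard_sdiff_singleton_of_mem (show (1 : ↥(twistedG2 K (3 ^ m))) ∈ {v | v ∈ T ∧ v * v = 1} from ⟨one_mem T, one_mul 1⟩), e4]
    rw [← Subgroup.card_mul_index (MulAction.stabilizer N (inv0 hK)), MulAction.index_stabilizer, h3', hstab,
      Nat.card_congr (show ↥(C.subgroupOf N) ≃ ↥(N.subgroupOf C) from
        ⟨fun x => ⟨⟨x.1.1, x.2⟩, x.1.2⟩, fun x => ⟨⟨x.1.1, x.2⟩, x.1.2⟩, fun _ => rfl, fun _ => rfl⟩)]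
    rw [show N.subgroupOf C = (Subgroup.normalizer (Tb : Set _)).comap π₂ by rw [← hnC, ← hT], hcomap,
      SL2Torus.torus_normalizer_card hTb, hTbc]
    ring

end CfsgLib.Chev.Twisted.ReeG2
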