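import Cfsg.Agent.Lib.Chev.Twisted.Rank
import Cfsg.Agent.Lib.Chev.Group.BN

/-! Structure of the fixed group: generation, families by conjugation, cells, the (B, N)-pair. -/
set_option autoImplicit false
open Cfsg.Lie
open scoped Matrix MatrixGroups

namespace CfsgLib.Chev.Twisted

open CfsgLib.Chev CfsgLib.Chev.Checks CfsgLib.Chev.Basic

variable {D : ChevalleyDatum} {F : Type*} [Field F] {hD : D ∈ dataList}

/-- representatives of the classes in `T` -/
def Lifts {S : Twist hD F} (C : Classes S) (T : Subgroup (GL D.Idx F)) : Prop :=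
  ∀ j, ∃ k ∈ D.diagonalSubgroup F, N.nW hD F (C.w j) * k ∈ T

namespace Classes

variable {S : Twist hD F} (C : Classes S)

theorem flat_cons (j : Fin C.k) (L : List (Fin C.k)) : C.flat (j :: L) = C.w j ++ C.flat L := rfl

theorem word_lift {T : Subgroup (GL D.Idx F)} (hlift : Lifts C T) :
    ∀ L : List (Fin C.k), ∃ k ∈ D.diagonalSubgroup F, N.nW hD F (C.flat L) * k ∈ T
  | [] => ⟨1, one_mem _, by simp [flat, N.nW, one_mem]⟩
  | j :: L => by
    obtain ⟨k, hk, h1⟩ := hlift j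
    obtain ⟨k', hk', h2⟩ := word_lift hlift L
    refine ⟨(N.nW hD F (C.flat L))⁻¹ * k * N.nW hD F (C.flat L) * k',
      mul_mem (N.diag_nW hD (C.flat_lt L) hk) hk', ?_⟩
    have e := mul_mem h1 h2
    rw [flat_cons, N.nW_append]
    convert e using 1
    group

theorem word_conj {T : Subgroup (GL D.Idx F)} (hlift : Lifts C T) (L : List (Fin C.k)) :
    ∃ k ∈ D.diagonalSubgroup F, ∀ x ∈ T,
      N.nW hD F (C.flat L) * k * x * (N.nW hD F (C.flat L) * k)⁻¹ ∈ T := by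
  obtain ⟨k, hk, h⟩ := C.word_lift hlift L
  exact ⟨k, hk, fun x hx => mul_mem (mul_mem h hx) (inv_mem h)⟩

theorem comm_class {T : Subgroup (GL D.Idx F)} (hlift : Lifts C T) (hT : T ≤ S.fix) (j : Fin C.k) :
    S.Comm (C.w j) := by
  obtain ⟨k, hk, h⟩ := hlift j
  exact S.comm_of_fix (C.w_lt j) hk (hT h)

theorem comm_flat {T : Subgroup (GL D.Idx F)} (hlift : Lifts C T) (hT : T ≤ S.fix) (L : List (Fin C.k)) :
    S.Comm (C.flat L) := by
  obtain ⟨k, hk, h⟩ := C.word_lift hlift L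
  exact S.comm_of_fix (C.flat_lt L) hk (hT h)

/-- a product of root elements with one distinguished parameter -/
noncomputable def prodE (hD : D ∈ dataList) (l : List (ℕ × (F → F))) (s : F) : GL D.Idx F :=
  (l.map fun e => xGL hD F e.1 (e.2 s)).prod

/-- the conjugate of a parametrised element gives the leading coordinates at one representative -/
theorem fam_conj (O : Orbits S) {T : Subgroup (GL D.Idx F)} (hT : T ≤ S.fix)
    {a : ℕ} (ha : a ∈ O.reps) {l : List ℕ} (hl : ∀ i ∈ l, i < D.rank)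
    (hn : ∃ k ∈ D.diagonalSubgroup F, ∀ x ∈ T, N.nW hD F l * k * x * (N.nW hD F l * k)⁻¹ ∈ T)
    (pre post : List (ℕ × (F → F))) (r0 : ℕ)
    (hr0 : r0 < D.nroots) (hmem : ∀ s, O.Adm a s → prodE hD (pre ++ (r0, id) :: post) s ∈ T)
    (himg : N.act D l r0 = a)
    (hrest : ∀ e ∈ pre ++ post, e.1 < D.nroots ∧ D.IsPosRoot (N.act D l e.1) ∧
      O.lev a ≤ O.lev (N.act D l e.1) ∧
      (O.lev (N.act D l e.1) = O.lev a → N.act D l e.1 ∉ O.reps)) :
    ∀ s, O.Adm a s → ∃ x ∈ T, x ∈ S.fix ∧ x ∈ RootGen.gen D F (O.PL D.IsPosRoot (O.lev a)) ∧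
      coord hD x a = s ∧ ∀ b ∈ O.reps, b ≠ a → O.lev b = O.lev a → coord hD x b = 0 := by
  obtain ⟨k, hk, hn⟩ := hn
  set n := N.nW hD F l * k with hn'
  set es := pre ++ (r0, id) :: post with hes
  have hap := O.reps_pos a ha
  have hmemes : ∀ e ∈ es, e = (r0, id) ∨ e ∈ pre ++ post := fun e he => by
    simp only [hes, List.mem_append, List.mem_cons] at he ⊢
    tauto
  have hlt : ∀ e ∈ es, e.1 < D.nroots := fun e he => by
    rcases hmemes e he with rfl | h
    exacts [hr0, (hrest e h).1]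
  have hpl : ∀ e ∈ es, O.PL D.IsPosRoot (O.lev a) (N.act D l e.1) := fun e he => by
    rcases hmemes e he with rfl | h
    · exact ⟨himg ▸ hap, by rw [himg]⟩
    · exact ⟨(hrest e h).2.1, (hrest e h).2.2.1⟩
  obtain ⟨b0, hb0, hconj⟩ := Twist.nk_conj (hD := hD) hl hk hr0
  have hcl := O.pl_cl (cl_pos hD) (O.lev a)
  have key : ∀ s, O.Adm a s → n * prodE hD es s * n⁻¹ ∈ T ∧ n * prodE hD es s * n⁻¹ ∈ S.fix ∧
      n * prodE hD es s * n⁻¹ ∈ RootGen.gen D F (O.PL D.IsPosRoot (O.lev a)) ∧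
      coord hD (n * prodE hD es s * n⁻¹) a = b0 * s ∧
      ∀ b ∈ O.reps, b ≠ a → O.lev b = O.lev a → coord hD (n * prodE hD es s * n⁻¹) b = 0 := by
    intro s hs
    have hxT : n * prodE hD es s * n⁻¹ ∈ T := hn _ (hmem s hs)
    refine ⟨hxT, hT hxT, ?_⟩
    have e : n * prodE hD es s * n⁻¹ = (es.map fun e => n * xGL hD F e.1 (e.2 s) * n⁻¹).prod := by
      rw [← MulAut.conj_apply, prodE, map_list_prod, List.map_map]
      rfl
    have hgen : ∀ e ∈ es, n * xGL hD F e.1 (e.2 s) * n⁻¹ ∈ RootGen.gen D F (O.PL D.IsPosRoot (O.lev a)) :=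
      fun e he => by
        obtain ⟨c, -, hc⟩ := Twist.nk_conj (hD := hD) hl hk (hlt e he)
        rw [hc]
        exact RootGen.xGL_mem_gen hD (hpl e he) _
    have hgen' : ∀ x ∈ es.map (fun e => n * xGL hD F e.1 (e.2 s) * n⁻¹),
        x ∈ RootGen.gen D F (O.PL D.IsPosRoot (O.lev a)) := fun x hx => by
      obtain ⟨e, he, rfl⟩ := List.mem_map.1 hx
      exact hgen e he
    refine ⟨e ▸ Subgroup.list_prod_mem _ hgen', ?_⟩
    have hcoord : ∀ b ∈ O.reps, O.lev b = O.lev a → coord hD (n * prodE hD es s * n⁻¹) b =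
        if b = a then b0 * s else 0 := by
      intro b hb hbl
      have hbp := O.reps_pos b hb
      have hlead := O.pl_lead (cl_pos hD) (L := O.lev a) hbl
      rw [e, coord_list_prod hD hcl ⟨hbp, hbl.ge⟩ hlead hgen', List.map_map]
      have hzero : ∀ e ∈ pre ++ post,
          ((fun x => coord hD x b) ∘ fun e => n * xGL hD F e.1 (e.2 s) * n⁻¹) e = 0 := by
        intro e he
        obtain ⟨h1, h2, h3, h4⟩ := hrest e he
        obtain ⟨c, -, hc⟩ := Twist.nk_conj (hD := hD) hl hk h1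
        simp only [Function.comp_apply]
        rw [hc, coord_x hD h2, if_neg]
        intro eb
        exact h4 (eb ▸ hbl) (eb ▸ hb)
      rw [hes, List.map_append, List.sum_append, List.map_cons, List.sum_cons,
        List.sum_eq_zero (l := pre.map _) (fun x hx => by
          obtain ⟨e, he, rfl⟩ := List.mem_map.1 hx; exact hzero e (List.mem_append_left _ he)),
        List.sum_eq_zero (l := post.map _) (fun x hx => by
          obtain ⟨e, he, rfl⟩ := List.mem_map.1 hx; exact hzero e (List.mem_append_right _ he)),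
        zero_add, add_zero]
      simp only [Function.comp_apply, id_eq]
      rw [hconj, himg, coord_x hD hap]
    exact ⟨by rw [hcoord a ha rfl, if_pos rfl], fun b hb hba hbl => by rw [hcoord b hb hbl, if_neg hba]⟩
  intro s hs
  have hadm : O.Adm a (b0⁻¹ * s) := by
    rcases hs with h | h
    · exact Or.inl h
    · obtain ⟨-, h2, h3, h4, -⟩ := key 1 (Or.inr (map_one _))
      rcases h4 ▸ O.adm_coord ha rfl h3 h2 with h5 | h5
      · exact Or.inl h5
      · rw [mul_one] at h5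
        exact Or.inr (by rw [map_mul, map_inv₀, h, h5])
  obtain ⟨h1, h2, h3, h4, h5⟩ := key _ hadm
  exact ⟨_, h1, h2, h3, by rw [h4, mul_inv_cancel_left₀ hb0], h5⟩

/-- fixed elements of `N` -/
theorem monomial_word {T : Subgroup (GL D.Idx F)} (hlift : Lifts C T) (hT : T ≤ S.fix) {l : List ℕ}
    (hl : ∀ i ∈ l, i < D.rank) {k : GL D.Idx F} (hk : k ∈ D.diagonalSubgroup F) (h : N.nW hD F l * k ∈ S.fix) :
    ∃ L, Weyl.Same D l (C.flat L) ∧ ∃ n ∈ T, ∃ c ∈ D.diagonalSubgroup F, c ∈ S.fix ∧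
      n ∈ D.monomialSubgroup F ∧ N.nW hD F l * k = n * c := by
  obtain ⟨L, hL⟩ := C.exists_flat (C.comm_class hlift hT) l hl (S.comm_of_fix hl hk h)
  obtain ⟨k', hk', hn⟩ := C.word_lift hlift L
  refine ⟨L, hL, _, hn, (N.nW hD F (C.flat L) * k')⁻¹ * (N.nW hD F l * k), ?_, mul_mem (inv_mem (hT hn)) h,
    mul_mem (N.nW_mem hD (C.flat_lt L)) (Subgroup.mem_sup_left hk'), by group⟩
  have e : (N.nW hD F (C.flat L) * k')⁻¹ * (N.nW hD F l * k) =
      k'⁻¹ * ((N.nW hD F (C.flat L))⁻¹ * N.nW hD F l) * k := by group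
  rw [e]
  exact mul_mem (mul_mem (inv_mem hk') (coset_of_same hD hl (C.flat_lt L) hL)) hk

/-- `T` is the whole fixed group once it contains enough -/
theorem eq_fix {T : Subgroup (GL D.Idx F)} (hlift : Lifts C T) (hT : T ≤ S.fix)
    (hU : ∀ g ∈ D.posUnipotent F, g ∈ S.fix → g ∈ T) (hH : ∀ h ∈ D.diagonalSubgroup F, h ∈ S.fix → h ∈ T) :
    T = S.fix := by
  refine le_antisymm hT fun g hg => ?_
  obtain ⟨v, hv, hvf, l, hl, k, hk, hmf, u, hu, huf, rfl⟩ := S.fix_form hg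
  obtain ⟨L, -, n, hn, c, hc, hcf, -, e⟩ := C.monomial_word hlift hT hl hk hmf
  rw [e]
  exact mul_mem (mul_mem (hU v hv hvf) (mul_mem hn (hH c hc hcf)))
    (hU u (RootGen.gen_le hD (fun r hr t => xGL_mem_pos hD hr.1 t) hu) huf)

end Classes

/-- a twist with all its data -/
structure Setup (S : Twist hD F) where
  O : Orbits S
  C : Classes S
  lift : Lifts C S.fix
  fam : O.Fam S.fix

namespace Setup

variable {S : Twist hD F} (E : Setup S)

theorem comm (L : List (Fin E.C.k)) : S.Comm (E.C.flat L) := E.C.comm_flat E.lift le_rfl L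

/-- the representative of a class -/
noncomputable def n (j : Fin E.C.k) : GL D.Idx F := N.nW hD F (E.C.w j) * (E.lift j).choose

theorem n_fix (j : Fin E.C.k) : E.n j ∈ S.fix := (E.lift j).choose_spec.2

theorem n_diag (j : Fin E.C.k) : (E.lift j).choose ∈ D.diagonalSubgroup F := (E.lift j).choose_spec.1

theorem n_monomial (j : Fin E.C.k) : E.n j ∈ D.monomialSubgroup F :=
  mul_mem (N.nW_mem hD (E.C.w_lt j)) (Subgroup.mem_sup_left (E.n_diag j))

theorem n_sq (j : Fin E.C.k) : E.n j * E.n j ∈ D.diagonalSubgroup F := by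
  have hw := E.C.w_lt j
  have hww : N.nW hD F (E.C.w j ++ E.C.w j) ∈ D.diagonalSubgroup F :=
    N.nW_mem_diagonal hD _ _ le_rfl (Weyl.mem_append_lt hw hw) fun r hr => by
      rw [N.act_append, E.C.invol j r hr.1]; exact hr
  rw [N.nW_append] at hww
  set c := (E.lift j).choose
  have e : E.n j * E.n j = (N.nW hD F (E.C.w j) * N.nW hD F (E.C.w j)) *
      ((N.nW hD F (E.C.w j))⁻¹ * c * N.nW hD F (E.C.w j)) * c := by simp only [n, c]; group
  rw [e]
  exact mul_mem (mul_mem hww (N.diag_nW hD hw (E.n_diag j))) (E.n_diag j)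

/-- conjugation carrying the roots of a class into the positive roots -/
theorem conj_inv_pos {l : List ℕ} (hl : ∀ i ∈ l, i < D.rank) {k : GL D.Idx F} (hk : k ∈ D.diagonalSubgroup F)
    {P : ℕ → Prop} (hP : ∀ r, P r → r < D.nroots ∧ D.IsPosRoot (N.act D l.reverse r)) {q : GL D.Idx F}
    (hq : q ∈ RootGen.gen D F P) :
    (N.nW hD F l * k)⁻¹ * q * (N.nW hD F l * k) ∈ D.posUnipotent F := by
  have h : RootGen.gen D F P ≤ (D.posUnipotent F).comap (MulAut.conj (N.nW hD F l * k)⁻¹).toMonoidHom :=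
    RootGen.gen_le hD fun r hr t => by
      obtain ⟨hrl, hrp⟩ := hP r hr
      obtain ⟨a, ha, hc⟩ := Twist.nk_conj (hD := hD) hl hk hrp.1
      rw [BN.act_reverse hD hl hrl] at hc
      rw [Subgroup.mem_comap, MulEquiv.coe_toMonoidHom, MulAut.conj_apply, inv_inv]
      have := hc (a⁻¹ * t)
      rw [mul_inv_cancel_left₀ ha] at this
      rw [← this, show (N.nW hD F l * k)⁻¹ * (N.nW hD F l * k * xGL hD F (N.act D l.reverse r) (a⁻¹ * t) *
        (N.nW hD F l * k)⁻¹) * (N.nW hD F l * k) = xGL hD F (N.act D l.reverse r) (a⁻¹ * t) by group]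
      exact xGL_mem_pos hD hrp _
  have h' := h hq
  rwa [Subgroup.mem_comap, MulEquiv.coe_toMonoidHom, MulAut.conj_apply, inv_inv] at h'

theorem reverse_comm {l : List ℕ} (hl : ∀ i ∈ l, i < D.rank) (hc : S.Comm l) : S.Comm l.reverse := fun r hr => by
  have hl' : ∀ i ∈ l.reverse, i < D.rank := fun i hi => hl i (List.mem_reverse.1 hi)
  refine BN.act_inj hD hl (S.ρ_lt (N.act_lt hD hl' hr)) (N.act_lt hD hl' (S.ρ_lt hr)) ?_
  rw [← hc _ (N.act_lt hD hl' hr), BN.act_reverse hD hl hr, BN.act_reverse hD hl (S.ρ_lt hr)]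

/-- elements of the fixed Borel subgroup -/
theorem borel_split (j : Fin E.C.k) {b : GL D.Idx F} (hb : b ∈ D.borelSubgroup F) (hbf : b ∈ S.fix) :
    ∃ h ∈ D.diagonalSubgroup F, h ∈ S.fix ∧ ∃ p ∈ RootGen.gen D F (Canonical.Plus D (E.C.w j)), p ∈ S.fix ∧
      ∃ q ∈ RootGen.gen D F (Canonical.Minus D (E.C.w j)), q ∈ S.fix ∧ b = h * p * q := by
  obtain ⟨v, hv, hvf, h, hh, hhf, rfl⟩ := S.borel_form hb hbf
  have hv' : h⁻¹ * v * h ∈ D.posUnipotent F :=
    (Subgroup.mem_normalizer_iff''.1 (BH.diagonal_normalizes_pos hD hh) v).1 hv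
  obtain ⟨p, hp, hpf, q, hq, hqf, e⟩ := S.split_fix (E.C.w_lt j) (E.C.comm_class E.lift le_rfl j) hv'
    (mul_mem (mul_mem (inv_mem hhf) hvf) hhf)
  exact ⟨h, hh, hhf, p, hp, hpf, q, hq, hqf, by rw [mul_assoc, ← e]; group⟩

/-- the double coset condition -/
theorem union_mul (j : Fin E.C.k) {b m : GL D.Idx F} (hb : b ∈ D.borelSubgroup F) (hbf : b ∈ S.fix)
    (hm : m ∈ D.monomialSubgroup F) (hmf : m ∈ S.fix) :
    ∃ c ∈ D.borelSubgroup F, c ∈ S.fix ∧ ∃ c' ∈ D.borelSubgroup F, c' ∈ S.fix ∧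
      (E.n j * b * m = c * (E.n j * m) * c' ∨ E.n j * b * m = c * m * c') := by
  obtain ⟨l, hl, k, hk, rfl⟩ := N.exists_word hD hm
  have hc := S.comm_of_fix hl hk hmf
  obtain ⟨h, hh, hhf, p, hp, hpf, q, hq, hqf, rfl⟩ := E.borel_split j hb hbf
  have hw := E.C.w_lt j
  have hnf := E.n_fix j
  set nj := E.n j with hnj
  set m := N.nW hD F l * k with hm'
  have hc1 : nj * h * nj⁻¹ ∈ D.diagonalSubgroup F := N.diagonal_normal hD (E.n_monomial j) hh
  have hc1f : nj * h * nj⁻¹ ∈ S.fix := mul_mem (mul_mem hnf hhf) (inv_mem hnf)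
  have hc2 : nj * p * nj⁻¹ ∈ D.borelSubgroup F := Subgroup.mem_sup_left (Canonical.conj_plus hD hw (E.n_diag j) hp)
  have hc2f : nj * p * nj⁻¹ ∈ S.fix := mul_mem (mul_mem hnf hpf) (inv_mem hnf)
  set c0 := nj * h * nj⁻¹ * (nj * p * nj⁻¹) with hc0
  have hc0B : c0 ∈ D.borelSubgroup F := mul_mem (Subgroup.mem_sup_right hc1) hc2
  have hc0f : c0 ∈ S.fix := mul_mem hc1f hc2f
  have e0 : nj * (h * p * q) * m = c0 * (nj * q * m) := by rw [hc0]; group
  suffices key : ∃ c ∈ D.borelSubgroup F, c ∈ S.fix ∧ ∃ c' ∈ D.borelSubgroup F, c' ∈ S.fix ∧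
      (nj * q * m = c * (nj * m) * c' ∨ nj * q * m = c * m * c') by
    obtain ⟨c, h1, h2, c', h3, h4, he⟩ := key
    refine ⟨c0 * c, mul_mem hc0B h1, mul_mem hc0f h2, c', h3, h4, ?_⟩
    rcases he with he | he
    · left; rw [e0, he]; group
    · right; rw [e0, he]; group
  have hlr : ∀ i ∈ l.reverse, i < D.rank := fun i hi => hl i (List.mem_reverse.1 hi)
  rcases E.C.class_sign hlr (reverse_comm hl hc) j with hpos | hneg
  · have hq' : m⁻¹ * q * m ∈ D.posUnipotent F := conj_inv_pos (hD := hD) hl hk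
      (fun r hr => ⟨hr.1.1, (E.C.sub_sign hlr j hr.1 ((E.C.minus_iff j r).1 hr).2).1 hpos⟩) hq
    exact ⟨1, one_mem _, one_mem _, m⁻¹ * q * m, Subgroup.mem_sup_left hq',
      mul_mem (mul_mem (inv_mem hmf) hqf) hmf, Or.inl (by group)⟩
  · by_cases hq1 : q = 1
    · exact ⟨1, one_mem _, one_mem _, 1, one_mem _, one_mem _, Or.inl (by rw [hq1]; group)⟩
    set v := nj * q * nj⁻¹ with hv
    have hvf : v ∈ S.fix := mul_mem (mul_mem hnf hqf) (inv_mem hnf)
    have hvn : v ∈ RootGen.gen D F fun r => D.IsNegRoot r ∧ E.C.In j r :=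
      Canonical.conj_gen hD hw (E.n_diag j) (fun r hr => hr.1.1) (fun r hr t => by
        obtain ⟨h1, h2⟩ := (E.C.minus_iff j r).1 hr
        exact RootGen.xGL_mem_gen hD (E.C.flip j r h1 h2) t) hq
    obtain ⟨p', hp', hp'f, k', hk', hmm, u, hu, huf, e⟩ :=
      E.C.neg_cell j hvf (fun h1 => hq1 (by rwa [hv, conj_eq_one_iff] at h1)) hvn
    set nw := N.nW hD F (E.C.w j) * k' with hnw
    have hd : nj⁻¹ * nw = (E.lift j).choose⁻¹ * k' := by rw [hnj, hnw, n]; group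
    have hdH : nj⁻¹ * nw ∈ D.diagonalSubgroup F := hd ▸ mul_mem (inv_mem (E.n_diag j)) hk'
    have hdf : nj⁻¹ * nw ∈ S.fix := mul_mem (inv_mem hnf) hmm
    have hnn := E.n_sq j
    set d := nj⁻¹ * nw with hd'
    -- `nj q m = p' (nj d u nj) m`
    have hlwl : ∀ i ∈ E.C.w j ++ l, i < D.rank := Weyl.mem_append_lt hw hl
    have hlw' : ∀ i ∈ (E.C.w j ++ l).reverse, i < D.rank := fun i hi => hlwl i (List.mem_reverse.1 hi)
    obtain ⟨k2, hk2, ek2⟩ : ∃ k2 ∈ D.diagonalSubgroup F, nj * m = N.nW hD F (E.C.w j ++ l) * k2 := by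
      refine ⟨(N.nW hD F l)⁻¹ * (E.lift j).choose * N.nW hD F l * k,
        mul_mem (N.diag_nW hD hl (E.n_diag j)) hk, ?_⟩
      rw [hnj, n, hm', N.nW_append]; group
    have hu' : (nj * m)⁻¹ * u * (nj * m) ∈ D.posUnipotent F := by
      rw [ek2]
      refine conj_inv_pos (hD := hD) hlwl hk2 (fun r hr => ?_) hu
      obtain ⟨h1, h2⟩ := (E.C.minus_iff j r).1 hr
      obtain ⟨f1, f2⟩ := E.C.flip j r h1 h2
      refine ⟨h1.1, ?_⟩
      rw [List.reverse_append, N.act_append]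
      have hwr : N.act D (E.C.w j).reverse r = N.act D (E.C.w j) r := by
        refine BN.act_inj hD hw (N.act_lt hD (fun i hi => hw i (List.mem_reverse.1 hi)) h1.1)
          (N.act_lt hD hw h1.1) ?_
        rw [BN.act_reverse hD hw h1.1, E.C.invol j r h1.1]
      rw [hwr]
      have hs := Checks.neg_pos_of_neg hD f1.1 f1
      have h3 := (E.C.sub_sign hlr j hs (Parabolic.neg_inSub hD f2)).2 hneg
      rw [N.act_neg hD hlr f1.1] at h3
      have h4 := Checks.neg_pos_of_neg hD h3.1 h3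
      rwa [Checks.neg_neg_root hD (N.act_lt hD hlr f1.1)] at h4
    refine ⟨p' * (nj * d * nj⁻¹) * (nj * nj),
      mul_mem (mul_mem (Subgroup.mem_sup_left hp') (Subgroup.mem_sup_right (N.diagonal_normal hD (E.n_monomial j) hdH)))
        (Subgroup.mem_sup_right hnn),
      mul_mem (mul_mem hp'f (mul_mem (mul_mem hnf hdf) (inv_mem hnf))) (mul_mem hnf hnf),
      (nj * m)⁻¹ * u * (nj * m), Subgroup.mem_sup_left hu',
      mul_mem (mul_mem (inv_mem (mul_mem hnf hmf)) huf) (mul_mem hnf hmf), Or.inr ?_⟩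
    have eq1 : nj * q * m = v * (nj * m) := by rw [hv]; group
    rw [eq1, e, hd']
    group

/-- a non-trivial fixed element moved out of `B` by a class -/
theorem exists_moved (j : Fin E.C.k) {i : ℕ} (hi : i ∈ E.C.J j) (hex : ∀ a ∈ E.O.reps, ∃ s, E.O.Adm a s ∧ s ≠ 0) :
    ∃ x ∈ D.posUnipotent F, x ∈ S.fix ∧ E.n j * x * (E.n j)⁻¹ ∉ D.borelSubgroup F := by
  have hil := E.C.J_lt j i hi
  have hw := E.C.w_lt j
  have hneg : D.IsNegRoot (N.act D (E.C.w j) (D.simple i)) :=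
    (E.C.flip j _ (N.simple_pos hD hil) ((Parabolic.simple_inSub hD hil).2 hi)).1
  have hmem : D.simple i ∈ Weyl.invSet D (E.C.w j) := (Weyl.mem_invSet hD hw).2 ⟨N.simple_pos hD hil, hneg⟩
  obtain ⟨a, ha, n', hn'⟩ := E.O.cover (D.simple i) (N.simple_pos hD hil)
  obtain ⟨s, hs, hs0⟩ := hex a ha
  obtain ⟨x, -, hxf, hx, hxc, -⟩ := E.fam a ha (E.O.reps_pos a ha) s hs
  have hxU := gen_le_pos hD (E.O.pl_cl (cl_pos hD) _) hx
  obtain ⟨p, hp, hpf, q, hq, hqf, e⟩ := S.split_fix hw (E.C.comm_class E.lift le_rfl j) hxU hxf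
  refine ⟨x, hxU, hxf, fun hB => ?_⟩
  have h1 : E.n j * q * (E.n j)⁻¹ ∈ D.borelSubgroup F := by
    have h2 : E.n j * p * (E.n j)⁻¹ ∈ D.borelSubgroup F :=
      Subgroup.mem_sup_left (Canonical.conj_plus hD hw (E.n_diag j) hp)
    have e3 : E.n j * q * (E.n j)⁻¹ = (E.n j * p * (E.n j)⁻¹)⁻¹ * (E.n j * x * (E.n j)⁻¹) := by rw [e]; group
    rw [e3]; exact mul_mem (inv_mem h2) hB
  have h2 : E.n j * q * (E.n j)⁻¹ = 1 := Subgroup.mem_bot.1 ((BH.borel_inf_neg hD).le
    (Subgroup.mem_inf.2 ⟨h1, Canonical.conj_minus hD hw (E.n_diag j) hq⟩))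
  rw [conj_eq_one_iff] at h2
  rw [h2, mul_one] at e
  subst e
  refine hs0 ?_
  rw [← hxc]
  refine coord_off hD (cl_of_closed (Canonical.plus_closed hD hw)) hp fun hpl => ?_
  have h3 := (E.C.iterate_pos (E.C.comm_class E.lift le_rfl j) hpl.1 n').2 hpl.2
  rw [hn'] at h3
  exact N.not_pos_neg hD h3 (Checks.neg_pos_of_neg hD hneg.1 hneg)

end Setup

end CfsgLib.Chev.Twisted
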