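import Cfsg.Agent.Lib.Chev.Twisted.Fix

/-! Fixed points in `U`, layer by layer. -/
set_option autoImplicit false
open Cfsg.Lie
open scoped Matrix MatrixGroups

namespace CfsgLib.Chev.Twisted

open CfsgLib.Chev CfsgLib.Chev.Checks CfsgLib.Chev.Basic

variable {D : ChevalleyDatum} {F : Type*} [Field F] {hD : D ∈ dataList}

/-- the orbits on positive roots with a level function -/
structure Orbits (S : Twist hD F) where
  lev : ℕ → ℕ
  top : ℕ
  reps : List ℕ
  free : ℕ → Bool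
  lev_lt : ∀ r, D.IsPosRoot r → lev r < top
  lev_ρ : ∀ r, D.IsPosRoot r → lev (S.ρ r) = lev r
  lev_comm : ∀ r s, D.IsPosRoot r → D.IsPosRoot s → ∀ c ∈ D.commTerms r s, (c.2.1 : F) ≠ 0 →
    lev r < lev c.1 ∧ lev s < lev c.1
  reps_pos : ∀ a ∈ reps, D.IsPosRoot a
  cover : ∀ r, D.IsPosRoot r → ∃ a ∈ reps, ∃ i : ℕ, S.ρ^[i] a = r
  fixed : ∀ a ∈ reps, free a = false → S.ρ a = a ∧ S.c a = 1

namespace Orbits

variable {S : Twist hD F} (O : Orbits S)

/-- possible coordinates at a representative -/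
def Adm (a : ℕ) (s : F) : Prop := O.free a = true ∨ S.π a s = s

/-- roots of `P` of level at least `L` -/
def PL (P : ℕ → Prop) (L : ℕ) (r : ℕ) : Prop := P r ∧ L ≤ O.lev r

theorem pl_cl {P : ℕ → Prop} (hP : Cl D F P) (L : ℕ) : Cl D F (O.PL P L) :=
  ⟨fun r h => hP.pos r h.1, fun r s hr hs c hc h0 => ⟨hP.comm r s hr.1 hs.1 c hc h0,
    hr.2.trans (O.lev_comm r s (hP.pos r hr.1) (hP.pos s hs.1) c hc h0).1.le⟩⟩

theorem pl_lead {P : ℕ → Prop} (hP : Cl D F P) {L r : ℕ} (hr : O.lev r = L) : Lead D F (O.PL P L) r :=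
  fun a b ha hb c hc h0 e => by
    have h1 := (O.lev_comm a b (hP.pos a ha.1) (hP.pos b hb.1) c hc h0).1
    have h2 := ha.2
    rw [e, hr] at h1
    omega

theorem lev_iterate {a : ℕ} (ha : D.IsPosRoot a) :
    ∀ i, D.IsPosRoot (S.ρ^[i] a) ∧ O.lev (S.ρ^[i] a) = O.lev a
  | 0 => ⟨ha, rfl⟩
  | i + 1 => by
    obtain ⟨h1, h2⟩ := lev_iterate ha i
    rw [Function.iterate_succ_apply']
    exact ⟨S.ρ_pos _ h1, (O.lev_ρ _ h1).trans h2⟩

theorem zero_layer {L : ℕ} {g : GL D.Idx F} (hg : g ∈ RootGen.gen D F (O.PL D.IsPosRoot L)) (hgf : g ∈ S.fix)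
    (h : ∀ a ∈ O.reps, O.lev a = L → coord hD g a = 0) {r : ℕ} (hr : D.IsPosRoot r) (hrL : O.lev r = L) :
    coord hD g r = 0 := by
  obtain ⟨a, ha, i, hi⟩ := O.cover r hr
  subst hi
  have hap := O.reps_pos a ha
  rw [(O.lev_iterate hap i).2] at hrL
  clear hr
  induction i with
  | zero => exact h a ha hrL
  | succ i ih =>
    obtain ⟨h1, h2⟩ := O.lev_iterate hap i
    rw [Function.iterate_succ_apply', fix_coord' h1 (h2.trans hrL) hg hgf, ih, map_zero, mul_zero]
where
  fix_coord' {L r : ℕ} {g : GL D.Idx F} (hr : D.IsPosRoot r) (hrL : O.lev r = L)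
      (hg : g ∈ RootGen.gen D F (O.PL D.IsPosRoot L)) (hgf : g ∈ S.fix) :
      coord hD g (S.ρ r) = S.c r * S.π r (coord hD g r) :=
    S.fix_coord (O.pl_cl (cl_pos hD) L)
      (fun s hs => ⟨S.ρ_pos s hs.1, (O.lev_ρ s hs.1).symm ▸ hs.2⟩)
      ⟨hr, hrL.ge⟩ (O.pl_lead (cl_pos hD) hrL) (O.pl_lead (cl_pos hD) ((O.lev_ρ r hr).trans hrL)) hg hgf

theorem adm_coord {L a : ℕ} {g : GL D.Idx F} (ha : a ∈ O.reps) (haL : O.lev a = L)
    (hg : g ∈ RootGen.gen D F (O.PL D.IsPosRoot L)) (hgf : g ∈ S.fix) : O.Adm a (coord hD g a) := by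
  cases hfree : O.free a with
  | true => exact Or.inl hfree
  | false =>
    obtain ⟨h1, h2⟩ := O.fixed a ha hfree
    have := zero_layer.fix_coord' O (O.reps_pos a ha) haL hg hgf
    rw [h1, h2, one_mul] at this
    exact Or.inr this.symm

theorem next_layer {P : ℕ → Prop} (hP : Cl D F P) {L : ℕ} {g : GL D.Idx F}
    (hg : g ∈ RootGen.gen D F (O.PL P L)) (hgf : g ∈ S.fix)
    (h : ∀ a ∈ O.reps, O.lev a = L → P a → coord hD g a = 0) : g ∈ RootGen.gen D F (O.PL P (L + 1)) := by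
  have hgT : g ∈ RootGen.gen D F (O.PL D.IsPosRoot L) :=
    RootGen.gen_mono (fun r hr => show O.PL D.IsPosRoot L r from ⟨hP.pos r hr.1, hr.2⟩) hg
  refine mem_gen_of_coord hD (gen_le_pos hD (O.pl_cl hP L) hg) fun r hr => ?_
  by_cases h1 : O.PL P L r
  · have hrL : O.lev r = L := by
      have h2 := h1.2
      have h3 : ¬ L + 1 ≤ O.lev r := fun h3 => hr ⟨h1.1, h3⟩
      omega
    refine O.zero_layer hgT hgf (fun a ha haL => ?_) (hP.pos r h1.1) hrL
    by_cases hPa : P a
    · exact h a ha haL hPa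
    · exact coord_off hD (O.pl_cl hP L) hg fun hh => hPa hh.1
  · exact coord_off hD (O.pl_cl hP L) hg h1

theorem top_layer {P : ℕ → Prop} (hP : Cl D F P) {L : ℕ} (hL : O.top ≤ L) {g : GL D.Idx F}
    (hg : g ∈ RootGen.gen D F (O.PL P L)) : g = 1 :=
  eq_one_of_coord hD (gen_le_pos hD (O.pl_cl hP L) hg) fun r hr =>
    coord_off hD (O.pl_cl hP L) hg fun h => absurd (O.lev_lt r hr) (not_lt.2 (hL.trans h.2))

/-- representatives in one layer of `P` -/
noncomputable def layer (P : ℕ → Prop) (L : ℕ) : Finset ℕ :=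
  haveI := Classical.decPred P
  O.reps.toFinset.filter fun a => O.lev a = L ∧ P a

/-- representatives of `P` of level at least `L` -/
noncomputable def above (P : ℕ → Prop) (L : ℕ) : Finset ℕ :=
  haveI := Classical.decPred P
  O.reps.toFinset.filter fun a => L ≤ O.lev a ∧ P a

theorem mem_layer {P : ℕ → Prop} {L a : ℕ} : a ∈ O.layer P L ↔ a ∈ O.reps ∧ O.lev a = L ∧ P a := by
  simp [layer]

theorem mem_above {P : ℕ → Prop} {L a : ℕ} : a ∈ O.above P L ↔ a ∈ O.reps ∧ L ≤ O.lev a ∧ P a := by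
  simp [above]

/-- number of possible coordinates -/
noncomputable def num (a : ℕ) : ℕ := Nat.card {s : F // O.Adm a s}

/-- elements of `M` in `P` with prescribed leading coordinate -/
def FamOn (P : ℕ → Prop) (M : Subgroup (GL D.Idx F)) : Prop :=
  ∀ a ∈ O.reps, P a → ∀ s, O.Adm a s → ∃ x ∈ M, x ∈ S.fix ∧ x ∈ RootGen.gen D F (O.PL P (O.lev a)) ∧
    coord hD x a = s ∧ ∀ b ∈ O.reps, b ≠ a → O.lev b = O.lev a → P b → coord hD x b = 0

/-- a family of elements of `M` with prescribed leading coordinate -/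
def Fam (M : Subgroup (GL D.Idx F)) : Prop := O.FamOn D.IsPosRoot M

theorem fam_layer {P : ℕ → Prop} (hP : Cl D F P) {M : Subgroup (GL D.Idx F)} (hM : O.FamOn P M) (L : ℕ) (f : ℕ → F)
    (hf : ∀ a ∈ O.reps, O.lev a = L → P a → O.Adm a (f a)) :
    ∃ x ∈ M, x ∈ S.fix ∧ x ∈ RootGen.gen D F (O.PL P L) ∧
      ∀ a ∈ O.reps, O.lev a = L → P a → coord hD x a = f a := by
  classical
  suffices h : ∀ R : Finset ℕ, (∀ a ∈ R, a ∈ O.reps ∧ O.lev a = L ∧ P a) →
      ∃ x ∈ M, x ∈ S.fix ∧ x ∈ RootGen.gen D F (O.PL P L) ∧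
        ∀ b ∈ O.reps, O.lev b = L → P b → coord hD x b = if b ∈ R then f b else 0 by
    obtain ⟨x, h1, h2, h3, h4⟩ := h (O.reps.toFinset.filter fun a => O.lev a = L ∧ P a) (by simp)
    exact ⟨x, h1, h2, h3, fun a ha haL hPa => by rw [h4 a ha haL hPa, if_pos (by simp [ha, haL, hPa])]⟩
  intro R
  induction R using Finset.induction with
  | empty => exact fun _ => ⟨1, one_mem _, one_mem _, one_mem _, fun b _ _ _ => by simp [coord_one]⟩
  | insert a R haR ih =>
    intro hR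
    obtain ⟨ha, haL, hPa⟩ := hR a (Finset.mem_insert_self _ _)
    obtain ⟨x, h1, h2, h3, h4⟩ := ih fun b hb => hR b (Finset.mem_insert_of_mem hb)
    obtain ⟨y, k1, k2, k3, k4, k5⟩ := hM a ha hPa (f a) (hf a ha haL hPa)
    rw [haL] at k3
    refine ⟨x * y, mul_mem h1 k1, mul_mem h2 k2, mul_mem h3 k3, fun b hb hbL hPb => ?_⟩
    rw [coord_mul hD (O.pl_cl hP L) ⟨hPb, hbL.ge⟩ (O.pl_lead hP hbL) h3 k3, h4 b hb hbL hPb]
    by_cases hba : b = a
    · subst hba; rw [if_neg haR, k4, if_pos (Finset.mem_insert_self _ _), zero_add]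
    · rw [k5 b hb hba (hbL.trans haL.symm) hPb, add_zero]; simp [Finset.mem_insert, hba]

theorem mem_of_famOn {P : ℕ → Prop} (hP : Cl D F P) {M : Subgroup (GL D.Idx F)} (hM : O.FamOn P M)
    {g : GL D.Idx F} (hg : g ∈ RootGen.gen D F P) (hgf : g ∈ S.fix) : g ∈ M := by
  have key : ∀ n L, O.top ≤ L + n → ∀ g ∈ RootGen.gen D F (O.PL P L), g ∈ S.fix → g ∈ M := by
    intro n
    induction n with
    | zero => intro L hL g hg _; rw [O.top_layer hP (by omega) hg]; exact one_mem _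
    | succ n ih =>
      intro L hL g hg hgf
      have hgT : g ∈ RootGen.gen D F (O.PL D.IsPosRoot L) :=
        RootGen.gen_mono (fun r hr => show O.PL D.IsPosRoot L r from ⟨hP.pos r hr.1, hr.2⟩) hg
      obtain ⟨x, h1, h2, h3, h4⟩ := O.fam_layer hP hM L (fun a => coord hD g a) fun a ha haL _ =>
        O.adm_coord ha haL hgT hgf
      have h5 : x⁻¹ * g ∈ RootGen.gen D F (O.PL P (L + 1)) := by
        refine O.next_layer hP (mul_mem (inv_mem h3) hg) (mul_mem (inv_mem h2) hgf) fun a ha haL hap => ?_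
        rw [coord_mul hD (O.pl_cl hP L) ⟨hap, haL.ge⟩ (O.pl_lead hP haL) (inv_mem h3) hg,
          coord_inv hD (O.pl_cl hP L) ⟨hap, haL.ge⟩ (O.pl_lead hP haL) h3, h4 a ha haL hap, neg_add_cancel]
      have := mul_mem h1 (ih (L + 1) (by omega) _ h5 (mul_mem (inv_mem h2) hgf))
      rwa [mul_inv_cancel_left] at this
  exact key O.top 0 (by omega) g
    (RootGen.gen_mono (fun r hr => show O.PL P 0 r from ⟨hr, Nat.zero_le _⟩) hg) hgf

theorem mem_of_fam {M : Subgroup (GL D.Idx F)} (hM : O.Fam M) {g : GL D.Idx F} (hg : g ∈ D.posUnipotent F)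
    (hgf : g ∈ S.fix) : g ∈ M :=
  O.mem_of_famOn (cl_pos hD) hM hg hgf

section Count

variable {P : ℕ → Prop} (hP : Cl D F P) (L : ℕ)

/-- fixed elements of a layer -/
abbrev fixPL (O : Orbits S) (P : ℕ → Prop) (L : ℕ) : Subgroup (GL D.Idx F) :=
  S.fix ⊓ RootGen.gen D F (O.PL P L)

/-- coordinates in the layer -/
noncomputable def layerHom : ↥(O.fixPL P L) →* Multiplicative (↥(O.layer P L) → F) where
  toFun g := Multiplicative.ofAdd fun a => coord hD (g : GL D.Idx F) a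
  map_one' := by
    refine Multiplicative.toAdd.injective (funext fun a => ?_)
    simp [coord_one]
  map_mul' g h := by
    refine Multiplicative.toAdd.injective (funext fun a => ?_)
    obtain ⟨-, h2, h3⟩ := O.mem_layer.1 a.2
    simp only [Subgroup.coe_mul, toAdd_ofAdd, toAdd_mul, Pi.add_apply]
    exact coord_mul hD (O.pl_cl hP L) ⟨h3, h2.ge⟩ (O.pl_lead hP h2) g.2.2 h.2.2

theorem layerHom_ker [Finite F] :
    Nat.card (O.layerHom hP L).ker = Nat.card ↥(O.fixPL P (L + 1)) := by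
  have hle : O.fixPL P (L + 1) ≤ O.fixPL P L :=
    inf_le_inf_left _ (RootGen.gen_mono fun r hr => show O.PL P L r from ⟨hr.1, le_trans (Nat.le_succ _) hr.2⟩)
  have heq : (O.layerHom hP L).ker = (O.fixPL P (L + 1)).subgroupOf (O.fixPL P L) := by
    ext g
    rw [MonoidHom.mem_ker, Subgroup.mem_subgroupOf]
    constructor
    · intro h
      refine ⟨g.2.1, O.next_layer hP g.2.2 g.2.1 fun a ha haL hPa => ?_⟩
      exact congrFun (congrArg Multiplicative.toAdd h) ⟨a, O.mem_layer.2 ⟨ha, haL, hPa⟩⟩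
    · intro h
      refine Multiplicative.toAdd.injective (funext fun a => ?_)
      obtain ⟨-, h2, -⟩ := O.mem_layer.1 a.2
      exact coord_off hD (O.pl_cl hP (L + 1)) h.2 fun hh => by have := hh.2; omega
  rw [heq]
  exact Nat.card_congr (Subgroup.subgroupOfEquivOfLe hle).toEquiv

theorem card_split [Finite F] : Nat.card ↥(O.fixPL P L) =
    Nat.card ↥(O.layerHom hP L).range * Nat.card ↥(O.fixPL P (L + 1)) := by
  rw [← O.layerHom_ker hP L, ← Subgroup.index_ker, mul_comm, Subgroup.card_mul_index]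

theorem range_le [Finite F] : Nat.card ↥(O.layerHom hP L).range ≤ ∏ a ∈ O.layer P L, O.num a := by
  let f : ↥(O.layerHom hP L).range → ∀ a : ↥(O.layer P L), {s : F // O.Adm a s} := fun x a =>
    ⟨Multiplicative.toAdd x.1 a, by
      obtain ⟨x, g, rfl⟩ := x
      obtain ⟨h1, h2, h3⟩ := O.mem_layer.1 a.2
      exact O.adm_coord h1 h2 (RootGen.gen_mono (fun r hr =>
        show O.PL D.IsPosRoot L r from ⟨hP.pos r hr.1, hr.2⟩) g.2.2) g.2.1⟩
  have hf : Function.Injective f := fun x y h => by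
    refine Subtype.ext (Multiplicative.toAdd.injective (funext fun a => ?_))
    exact congrArg Subtype.val (congrFun h a)
  refine (Nat.card_le_card_of_injective f hf).trans_eq ?_
  rw [Nat.card_pi, ← Finset.prod_coe_sort (O.layer P L) O.num]
  rfl

theorem prod_above (L : ℕ) : ∏ a ∈ O.above P L, O.num a =
    (∏ a ∈ O.layer P L, O.num a) * ∏ a ∈ O.above P (L + 1), O.num a := by
  classical
  rw [← Finset.prod_union]
  · refine Finset.prod_congr ?_ fun _ _ => rfl
    ext a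
    simp only [Finset.mem_union, mem_layer, mem_above]
    constructor
    · rintro ⟨h1, h2, h3⟩
      rcases eq_or_lt_of_le h2 with h | h
      exacts [Or.inl ⟨h1, h.symm, h3⟩, Or.inr ⟨h1, h, h3⟩]
    · rintro (⟨h1, h2, h3⟩ | ⟨h1, h2, h3⟩)
      exacts [⟨h1, h2.ge, h3⟩, ⟨h1, by omega, h3⟩]
  · rw [Finset.disjoint_left]
    intro a h1 h2
    have := (O.mem_layer.1 h1).2.1
    have := (O.mem_above.1 h2).2.1
    omega

include hP in
theorem above_top {L : ℕ} (hL : O.top ≤ L) : ∏ a ∈ O.above P L, O.num a = 1 := by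
  rw [show O.above P L = ∅ from Finset.eq_empty_of_forall_notMem fun a ha => by
    have := O.lev_lt a (hP.pos a (O.mem_above.1 ha).2.2)
    have := (O.mem_above.1 ha).2.1
    omega, Finset.prod_empty]

include hP in
theorem card_top {L : ℕ} (hL : O.top ≤ L) : Nat.card ↥(O.fixPL P L) = 1 := by
  rw [Nat.card_eq_one_iff_unique]
  exact ⟨⟨fun a b => Subtype.ext ((O.top_layer hP hL a.2.2).trans (O.top_layer hP hL b.2.2).symm)⟩, ⟨1⟩⟩

include hP in
theorem card_le [Finite F] : ∀ n L, O.top ≤ L + n → Nat.card ↥(O.fixPL P L) ≤ ∏ a ∈ O.above P L, O.num a := by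
  intro n
  induction n with
  | zero => intro L hL; rw [O.card_top hP (by omega), O.above_top hP (by omega)]
  | succ n ih =>
    intro L hL
    rw [O.card_split hP L, O.prod_above L]
    exact Nat.mul_le_mul (O.range_le hP L) (ih (L + 1) (by omega))

end Count

theorem num_pos [Finite F] (a : ℕ) : 0 < O.num a :=
  haveI : Nonempty {s : F // O.Adm a s} := ⟨⟨0, Or.inr (map_zero _)⟩⟩
  Nat.card_pos

theorem range_full [Finite F] {M : Subgroup (GL D.Idx F)} (hM : O.Fam M) (L : ℕ) :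
    ∏ a ∈ O.layer D.IsPosRoot L, O.num a ≤ Nat.card ↥(O.layerHom (cl_pos hD) L).range := by
  classical
  have key : ∀ f : (∀ a : ↥(O.layer D.IsPosRoot L), {s : F // O.Adm a s}),
      Multiplicative.ofAdd (fun a : ↥(O.layer D.IsPosRoot L) => (f a : F)) ∈ (O.layerHom (cl_pos hD) L).range := by
    intro f
    obtain ⟨x, -, h2, h3, h4⟩ := O.fam_layer (cl_pos hD) hM L
      (fun a => if h : a ∈ O.layer D.IsPosRoot L then (f ⟨a, h⟩ : F) else 0)
      (fun a ha haL _ => by rw [dif_pos (O.mem_layer.2 ⟨ha, haL, O.reps_pos a ha⟩)]; exact (f ⟨a, _⟩).2)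
    refine ⟨⟨x, h2, h3⟩, Multiplicative.toAdd.injective (funext fun a => ?_)⟩
    obtain ⟨k1, k2, -⟩ := O.mem_layer.1 a.2
    exact (h4 a k1 k2 (O.reps_pos a k1)).trans (dif_pos a.2)
  rw [← Finset.prod_coe_sort (O.layer D.IsPosRoot L) O.num]
  refine le_of_eq_of_le (Nat.card_pi (β := fun a : ↥(O.layer D.IsPosRoot L) => {s : F // O.Adm a s})).symm ?_
  refine Nat.card_le_card_of_injective (fun f => (⟨_, key f⟩ : ↥(O.layerHom (cl_pos hD) L).range)) fun f g h => ?_
  funext a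
  exact Subtype.ext (congrFun (congrArg Multiplicative.toAdd (congrArg Subtype.val h)) a)

theorem card_fixU [Finite F] {M : Subgroup (GL D.Idx F)} (hM : O.Fam M) :
    Nat.card ↥(S.fix ⊓ D.posUnipotent F) = ∏ a ∈ O.reps.toFinset, O.num a := by
  classical
  have key : ∀ n L, O.top ≤ L + n →
      Nat.card ↥(O.fixPL D.IsPosRoot L) = ∏ a ∈ O.above D.IsPosRoot L, O.num a := by
    intro n
    induction n with
    | zero => intro L hL; rw [O.card_top (cl_pos hD) (by omega), O.above_top (cl_pos hD) (by omega)]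
    | succ n ih =>
      intro L hL
      rw [O.card_split (cl_pos hD) L, O.prod_above L, ih (L + 1) (by omega),
        le_antisymm (O.range_le (cl_pos hD) L) (O.range_full hM L)]
  have e : O.PL D.IsPosRoot 0 = D.IsPosRoot := funext fun r => propext ⟨fun h => h.1, fun h => ⟨h, Nat.zero_le _⟩⟩
  have h := key O.top 0 (by omega)
  unfold fixPL at h
  rw [e] at h
  rw [show D.posUnipotent F = RootGen.gen D F D.IsPosRoot from rfl, h]
  refine Finset.prod_congr ?_ fun _ _ => rfl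
  ext a
  simp only [mem_above, List.mem_toFinset, Nat.zero_le, true_and]
  exact ⟨fun h => h.1, fun h => ⟨h, O.reps_pos a h⟩⟩

/-- the two halves of a splitting have full size -/
theorem card_minus [Finite F] {M : Subgroup (GL D.Idx F)} (hM : O.Fam M) {l : List ℕ}
    (hl : ∀ i ∈ l, i < D.rank) (hc : S.Comm l) :
    Nat.card ↥(S.fix ⊓ RootGen.gen D F (Canonical.Minus D l)) =
      ∏ a ∈ O.above (Canonical.Minus D l) 0, O.num a := by
  classical
  have hp := cl_of_closed (F := F) (Canonical.plus_closed hD hl)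
  have hm := cl_of_closed (F := F) (Canonical.minus_closed hD hl)
  have e : ∀ {P : ℕ → Prop}, O.fixPL P 0 = S.fix ⊓ RootGen.gen D F P := fun {P} => by
    unfold fixPL
    rw [show O.PL P 0 = P from funext fun r => propext ⟨fun h => h.1, fun h => ⟨h, Nat.zero_le _⟩⟩]
  have b1 := O.card_le hp O.top 0 (by omega)
  have b2 := O.card_le hm O.top 0 (by omega)
  rw [e] at b1 b2
  refine le_antisymm b2 ?_
  let A := S.fix ⊓ RootGen.gen D F (Canonical.Plus D l)
  let B := S.fix ⊓ RootGen.gen D F (Canonical.Minus D l)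
  have hsur : Function.Surjective fun p : A × B =>
      (⟨(p.1 : GL D.Idx F) * p.2, mul_mem p.1.2.1 p.2.2.1, mul_mem (gen_le_pos hD hp p.1.2.2)
        (gen_le_pos hD hm p.2.2.2)⟩ : ↥(S.fix ⊓ D.posUnipotent F)) := fun g => by
    obtain ⟨p, hp', hpf, q, hq', hqf, e⟩ := S.split_fix hl hc g.2.2 g.2.1
    exact ⟨(⟨p, hpf, hp'⟩, ⟨q, hqf, hq'⟩), Subtype.ext e.symm⟩
  have h := Nat.card_le_card_of_surjective _ hsur
  rw [Nat.card_prod, O.card_fixU hM] at h
  have hsplit : ∏ a ∈ O.reps.toFinset, O.num a =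
      (∏ a ∈ O.above (Canonical.Plus D l) 0, O.num a) * ∏ a ∈ O.above (Canonical.Minus D l) 0, O.num a := by
    rw [← Finset.prod_union]
    · refine Finset.prod_congr ?_ fun _ _ => rfl
      ext a
      simp only [Finset.mem_union, mem_above, List.mem_toFinset, Nat.zero_le, true_and]
      refine ⟨fun ha => ?_, fun h => h.elim (·.1) (·.1)⟩
      rcases Checks.pos_or_neg hD (N.act_lt hD hl (O.reps_pos a ha).1) with h | h
      exacts [Or.inl ⟨ha, O.reps_pos a ha, h⟩, Or.inr ⟨ha, O.reps_pos a ha, h⟩]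
    · rw [Finset.disjoint_left]
      intro a h1 h2
      have h1' := (O.mem_above.1 h1).2.2.2
      have h2' := (O.mem_above.1 h2).2.2.2
      exact N.not_pos_neg hD h1' (Checks.neg_pos_of_neg hD h2'.1 h2')
  rw [hsplit] at h
  exact Nat.le_of_mul_le_mul_left (h.trans (Nat.mul_le_mul_right _ b1))
    (Finset.prod_pos fun a _ => O.num_pos a)

end Orbits

end CfsgLib.Chev.Twisted
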