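import Cfsg.Agent.Lib.Chev.Twisted.Layers
import Cfsg.Agent.Lib.Chev.Group.Parabolic
import Cfsg.Agent.Lib.Chev.Weyl.Action

/-! Classes of fundamental roots: representatives in a twisted subgroup, and the twisted Weyl group. -/
set_option autoImplicit false
open Cfsg.Lie
open scoped Matrix MatrixGroups

namespace CfsgLib.Chev.Twisted

open CfsgLib.Chev CfsgLib.Chev.Checks CfsgLib.Chev.Basic

variable {D : ChevalleyDatum} {F : Type*} [Field F] {hD : D ∈ dataList}

/-- the classes of fundamental roots -/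
structure Classes (S : Twist hD F) where
  k : ℕ
  J : Fin k → List ℕ
  w : Fin k → List ℕ
  w_mem : ∀ j, ∀ i ∈ w j, i ∈ J j
  J_lt : ∀ j, ∀ i ∈ J j, i < D.rank
  cover : ∀ i < D.rank, ∃ j, i ∈ J j
  disj : ∀ i j, ∀ a ∈ J i, a ∈ J j → i = j
  J_ne : ∀ j, J j ≠ []
  orbit : ∀ j, ∀ i ∈ J j, ∀ i' ∈ J j, ∃ n : ℕ, S.ρ^[n] (D.simple i) = D.simple i'
  flip : ∀ j r, D.IsPosRoot r → D.InRootSub {i | i ∈ J j} r →
    D.IsNegRoot (N.act D (w j) r) ∧ D.InRootSub {i | i ∈ J j} (N.act D (w j) r)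
  keep : ∀ j r, D.IsPosRoot r → ¬ D.InRootSub {i | i ∈ J j} r →
    D.IsPosRoot (N.act D (w j) r) ∧ ¬ D.InRootSub {i | i ∈ J j} (N.act D (w j) r)
  invol : ∀ j r, r < D.nroots → N.act D (w j) (N.act D (w j) r) = r

namespace Classes

variable {S : Twist hD F} (C : Classes S)

/-- membership in the subsystem of a class -/
abbrev In (j : Fin C.k) (r : ℕ) : Prop := D.InRootSub {i | i ∈ C.J j} r

theorem w_lt (j : Fin C.k) : ∀ i ∈ C.w j, i < D.rank := fun i hi => C.J_lt j i (C.w_mem j i hi)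

theorem minus_iff (j : Fin C.k) (r : ℕ) : Canonical.Minus D (C.w j) r ↔ D.IsPosRoot r ∧ C.In j r := by
  refine ⟨fun h => ⟨h.1, ?_⟩, fun h => ⟨h.1, (C.flip j r h.1 h.2).1⟩⟩
  by_contra h'
  exact N.not_pos_neg hD (C.keep j r h.1 h').1 (Checks.neg_pos_of_neg hD h.2.1 h.2)

theorem plus_iff (j : Fin C.k) (r : ℕ) :
    Canonical.Plus D (C.w j) r ↔ Parabolic.Rad D {i | i ∈ C.J j} r := by
  refine ⟨fun h => ⟨h.1, fun h' => ?_⟩, fun h => ⟨h.1, (C.keep j r h.1 h.2).1⟩⟩
  have := (C.flip j r h.1 h').1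
  exact N.not_pos_neg hD h.2 (Checks.neg_pos_of_neg hD this.1 this)

include C in
theorem iterate_pos {l : List ℕ} (hc : S.Comm l) {r : ℕ} (hr : D.IsPosRoot r) (n : ℕ) :
    D.IsPosRoot (S.ρ^[n] r) ∧ (D.IsPosRoot (N.act D l r) → D.IsPosRoot (N.act D l (S.ρ^[n] r))) := by
  induction n with
  | zero => exact ⟨hr, id⟩
  | succ n ih =>
    rw [Function.iterate_succ_apply']
    exact ⟨S.ρ_pos _ ih.1, fun h => hc _ ih.1.1 ▸ S.ρ_pos _ (ih.2 h)⟩

/-- a commuting word has one sign on the fundamental roots of a class -/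
theorem class_sign {l : List ℕ} (hl : ∀ i ∈ l, i < D.rank) (hc : S.Comm l) (j : Fin C.k) :
    (∀ i ∈ C.J j, D.IsPosRoot (N.act D l (D.simple i))) ∨ (∀ i ∈ C.J j, D.IsNegRoot (N.act D l (D.simple i))) := by
  by_cases h : ∃ i ∈ C.J j, D.IsPosRoot (N.act D l (D.simple i))
  · obtain ⟨i, hi, hp⟩ := h
    refine Or.inl fun i' hi' => ?_
    obtain ⟨n, hn⟩ := C.orbit j i hi i' hi'
    rw [← hn]
    exact (C.iterate_pos hc (N.simple_pos hD (C.J_lt j i hi)) n).2 hp
  · push Not at h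
    exact Or.inr fun i hi => (Checks.pos_or_neg hD
      (N.act_lt hD hl (Rel.simple_lt hD (C.J_lt j i hi)))).resolve_left (h i hi)

/-- the sign on a class extends to its subsystem -/
theorem sub_sign {l : List ℕ} (hl : ∀ i ∈ l, i < D.rank) (j : Fin C.k) {r : ℕ} (hr : D.IsPosRoot r)
    (hin : C.In j r) :
    ((∀ i ∈ C.J j, D.IsPosRoot (N.act D l (D.simple i))) → D.IsPosRoot (N.act D l r)) ∧
      ((∀ i ∈ C.J j, D.IsNegRoot (N.act D l (D.simple i))) → D.IsNegRoot (N.act D l r)) := by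
  have hzero := ((Parabolic.inSub_iff hD).1 hin).2
  refine ⟨fun h => Weyl.pos_of_simple_pos hD hl hr fun a ha hne => h a ?_, fun h => ?_⟩
  · by_contra ha'; exact hne (hzero a ha ha')
  · refine (Checks.pos_or_neg hD (N.act_lt hD hl hr.1)).resolve_left fun hp => ?_
    obtain ⟨m, hm, hmp⟩ := Weyl.exists_coef_pos hD hp
    rw [Weyl.coef_act hD hl hm hr.1] at hmp
    refine absurd hmp (not_lt.2 (Finset.sum_nonpos fun a ha => ?_))
    have ha' := Finset.mem_range.1 ha
    by_cases haJ : a ∈ C.J j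
    · exact mul_nonpos_of_nonneg_of_nonpos (Weight.coef_nonneg hD ha' hr) (RootGen.coef_nonpos hD hm (h a haJ))
    · simp [hzero a ha' haJ]

/-- flattened word -/
def flat (L : List (Fin C.k)) : List ℕ := L.flatMap C.w

theorem flat_lt (L : List (Fin C.k)) : ∀ i ∈ C.flat L, i < D.rank := fun i hi => by
  obtain ⟨j, -, hij⟩ := List.mem_flatMap.1 hi
  exact C.w_lt j i hij

theorem comm_append {l m : List ℕ} (hm : ∀ i ∈ m, i < D.rank) (h1 : S.Comm l) (h2 : S.Comm m) :
    S.Comm (l ++ m) := fun r hr => by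
  rw [N.act_append, N.act_append, h1 _ (N.act_lt hD hm hr), h2 r hr]

/-- every commuting word comes from the classes -/
theorem exists_flat (hcw : ∀ j, S.Comm (C.w j)) :
    ∀ l : List ℕ, (∀ i ∈ l, i < D.rank) → S.Comm l → ∃ L, Weyl.Same D l (C.flat L) := by
  intro l
  induction hn : (Weyl.invSet D l).card using Nat.strong_induction_on generalizing l with
  | _ n ih =>
  intro hl hc
  by_cases h : ∀ a < D.rank, D.IsPosRoot (N.act D l (D.simple a))
  · exact ⟨[], Weyl.same_nil_of_pos hD hl fun r hr => Weyl.pos_of_simple_pos hD hl hr fun a ha _ => h a ha⟩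
  push Not at h
  obtain ⟨a, ha, hna⟩ := h
  obtain ⟨j, haj⟩ := C.cover a ha
  have hall : ∀ i ∈ C.J j, D.IsNegRoot (N.act D l (D.simple i)) :=
    (C.class_sign hl hc j).resolve_left fun h => hna (h a haj)
  have hlw : ∀ i ∈ l ++ C.w j, i < D.rank := Weyl.mem_append_lt hl (C.w_lt j)
  have hsub : (Weyl.invSet D (l ++ C.w j)).image (N.act D (C.w j)) ⊆ (Weyl.invSet D l).erase (D.simple a) := by
    intro s hs
    obtain ⟨r, hr, rfl⟩ := Finset.mem_image.1 hs
    rw [Weyl.mem_invSet hD hlw, N.act_append] at hr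
    obtain ⟨hrp, hrn⟩ := hr
    by_cases hin : C.In j r
    · exfalso
      obtain ⟨h1, h2⟩ := C.flip j r hrp hin
      set s := N.act D (C.w j) r with hs'
      have hsp := Checks.neg_pos_of_neg hD h1.1 h1
      have hneg := (C.sub_sign hl j hsp (Parabolic.neg_inSub hD h2)).2 hall
      rw [N.act_neg hD hl h1.1] at hneg
      exact N.not_pos_neg hD (Checks.neg_pos_of_neg hD hrn.1 hrn)
        (by rw [Checks.neg_neg_root hD hrn.1]
            have := Checks.neg_pos_of_neg hD hneg.1 hneg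
            rwa [Checks.neg_neg_root hD hrn.1] at this)
    · obtain ⟨h1, h2⟩ := C.keep j r hrp hin
      refine Finset.mem_erase.2 ⟨fun e => h2 ?_, (Weyl.mem_invSet hD hl).2 ⟨h1, hrn⟩⟩
      show C.In j _
      rw [e]
      exact (Parabolic.simple_inSub hD ha).2 haj
  have hmem : D.simple a ∈ Weyl.invSet D l := (Weyl.mem_invSet hD hl).2 ⟨N.simple_pos hD ha, hall a haj⟩
  have hcard : (Weyl.invSet D (l ++ C.w j)).card < n := by
    rw [← Finset.card_image_of_injOn (f := N.act D (C.w j)) (fun x hx y hy e =>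
      Weyl.act_inj hD (C.w_lt j) ((Weyl.mem_invSet hD hlw).1 hx).1.1 ((Weyl.mem_invSet hD hlw).1 hy).1.1 e)]
    refine (Finset.card_le_card hsub).trans_lt ?_
    rw [Finset.card_erase_of_mem hmem, ← hn]
    exact Nat.sub_lt (Finset.card_pos.2 ⟨_, hmem⟩) one_pos
  obtain ⟨L, hL⟩ := ih _ hcard (l ++ C.w j) rfl hlw (comm_append (C.w_lt j) hc (hcw j))
  refine ⟨L ++ [j], fun s hs => ?_⟩
  have h3 := hL _ (N.act_lt hD (C.w_lt j) hs)
  rw [N.act_append, C.invol j s hs] at h3
  rw [h3]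
  simp [flat, N.act_append]

/-- same action gives the same coset of `H` -/
theorem coset_of_same (hD : D ∈ dataList) {l m : List ℕ} (hl : ∀ i ∈ l, i < D.rank) (hm : ∀ i ∈ m, i < D.rank)
    (h : Weyl.Same D l m) : (N.nW hD F m)⁻¹ * N.nW hD F l ∈ D.diagonalSubgroup F := by
  obtain ⟨p, hp, c, hc, e⟩ := N.exists_word hD (F := F)
    (mul_mem (inv_mem (N.nW_mem (F := F) hD hm)) (N.nW_mem hD hl))
  rw [e]
  refine mul_mem (N.nW_mem_diagonal hD p.length p le_rfl hp fun r hr => ?_) hc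
  have e2 : N.nW hD F l = N.nW hD F (m ++ p) * c := by
    rw [N.nW_append, mul_assoc, ← e, mul_inv_cancel_left]
  have e3 := N.act_congr hD hl (Weyl.mem_append_lt hm hp) hc e2 hr.1
  rw [N.act_append, h r hr.1] at e3
  rw [← Weyl.act_inj hD hm hr.1 (N.act_lt hD hp hr.1) e3]
  exact hr

/-- the cell of a negative fixed element of a class -/
theorem neg_cell (j : Fin C.k) {v : GL D.Idx F} (hv : v ∈ S.fix) (hv1 : v ≠ 1)
    (hvn : v ∈ RootGen.gen D F fun r => D.IsNegRoot r ∧ C.In j r) :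
    ∃ p ∈ D.posUnipotent F, p ∈ S.fix ∧ ∃ k ∈ D.diagonalSubgroup F, N.nW hD F (C.w j) * k ∈ S.fix ∧
      ∃ u ∈ RootGen.gen D F (Canonical.Minus D (C.w j)), u ∈ S.fix ∧ v = p * (N.nW hD F (C.w j) * k) * u := by
  set J : Set ℕ := {i | i ∈ C.J j} with hJ
  have hJlev : RootGen.gen D F (fun r => D.InRootSub J r) ≤ D.leviSubgroup F J :=
    (le_sup_right : _ ≤ D.leviSubgroup F J)
  have hvL : v ∈ D.leviSubgroup F J := hJlev (RootGen.gen_mono (fun r hr => hr.2) hvn)
  have hvV : v ∈ D.negUnipotent F := RootGen.gen_le hD (fun r hr t => xGL_mem_neg hD hr.1 t) hvn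
  have hLP : D.leviSubgroup F J ≤ D.parabolicSubgroup F J := le_sup_right.trans (Parabolic.sup_levi hD J).le
  obtain ⟨p, hp, hpf, l, hl, k, hk, hmf, u, hu, huf, e⟩ := S.fix_form hv
  have hc := S.comm_of_fix hl hk hmf
  have hpB : p ∈ D.parabolicSubgroup F J := Subgroup.mem_sup_left (Subgroup.mem_sup_left hp)
  have huU : u ∈ D.posUnipotent F := RootGen.gen_le hD (fun r hr t => xGL_mem_pos hD hr.1 t) hu
  have huB : u ∈ D.parabolicSubgroup F J := Subgroup.mem_sup_left (Subgroup.mem_sup_left huU)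
  have hmP : N.nW hD F l * k ∈ D.parabolicSubgroup F J := by
    have : N.nW hD F l * k = p⁻¹ * v * u⁻¹ := by rw [e]; group
    rw [this]
    exact mul_mem (mul_mem (inv_mem hpB) (hLP hvL)) (inv_mem huB)
  have hrad : ∀ r, Parabolic.Rad D J r → Parabolic.Rad D J (N.act D l r) := by
    intro r hr
    obtain ⟨a, ha, h1⟩ := Twist.nk_conj (hD := hD) hl hk hr.1.1
    have h2 := (Subgroup.mem_normalizer_iff.1 (Parabolic.le_normalizer hD J hmP) (xGL hD F r 1)).1
      (by rw [Parabolic.unipotentRadical_eq]; exact RootGen.xGL_mem_gen hD hr 1)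
    rw [h1, Parabolic.unipotentRadical_eq] at h2
    by_contra hne
    have hU : RootGen.gen D F (Parabolic.Rad D J) ≤ D.posUnipotent F :=
      RootGen.gen_le hD fun s hs t => xGL_mem_pos hD hs.1 t
    have hp' : D.IsPosRoot (N.act D l r) := by
      refine (Checks.pos_or_neg hD (N.act_lt hD hl hr.1.1)).resolve_right fun hn => ?_
      have := BN.borel_not_neg hD hn (Subgroup.mem_sup_left (hU h2) :
        xGL hD F (N.act D l r) (a * 1) ∈ D.borelSubgroup F)
      simp [ha] at this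
    have hcl : Cl D F (Parabolic.Rad D J) := by
      have := cl_of_closed (F := F) (Canonical.plus_closed hD (C.w_lt j))
      rwa [show Canonical.Plus D (C.w j) = Parabolic.Rad D J from funext fun r => propext (C.plus_iff j r)] at this
    have h3 := coord_off hD hcl h2 hne
    rw [coord_x hD hp', if_pos rfl, mul_one] at h3
    exact ha h3
  have hout : ∀ r, D.IsPosRoot r → ¬ C.In j r → D.IsPosRoot (N.act D l r) := fun r hr hin =>
    (hrad r ⟨hr, hin⟩).1
  rcases C.class_sign hl hc j with hpos | hneg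
  · exfalso
    have hpp : ∀ r, D.IsPosRoot r → D.IsPosRoot (N.act D l r) := fun r hr => by
      by_cases hin : C.In j r
      exacts [(C.sub_sign hl j hr hin).1 hpos, hout r hr hin]
    have hnH := N.nW_mem_diagonal (F := F) hD l.length l le_rfl hl hpp
    have hvB : v ∈ D.borelSubgroup F := by
      rw [e]
      exact mul_mem (mul_mem (Subgroup.mem_sup_left hp) (Subgroup.mem_sup_right (mul_mem hnH hk)))
        (Subgroup.mem_sup_left huU)
    exact hv1 (Subgroup.mem_bot.1 ((BH.borel_inf_neg hD).le (Subgroup.mem_inf.2 ⟨hvB, hvV⟩)))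
  · have hminus : ∀ r, Canonical.Minus D l r ↔ Canonical.Minus D (C.w j) r := fun r => by
      rw [C.minus_iff]
      refine ⟨fun h => ⟨h.1, ?_⟩, fun h => ⟨h.1, (C.sub_sign hl j h.1 h.2).2 hneg⟩⟩
      by_contra hin
      exact N.not_pos_neg hD (hout r h.1 hin) (Checks.neg_pos_of_neg hD h.2.1 h.2)
    have hsame : Weyl.Same D l (C.w j) := by
      have hlw : ∀ i ∈ l ++ C.w j, i < D.rank := Weyl.mem_append_lt hl (C.w_lt j)
      have h0 : Weyl.Same D (l ++ C.w j) [] := Weyl.same_nil_of_pos hD hlw fun r hr => by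
        rw [N.act_append]
        by_cases hin : C.In j r
        · obtain ⟨h1, h2⟩ := C.flip j r hr hin
          have hsp := Checks.neg_pos_of_neg hD h1.1 h1
          have h3 := (C.sub_sign hl j hsp (Parabolic.neg_inSub hD h2)).2 hneg
          rw [N.act_neg hD hl h1.1] at h3
          have h4 := Checks.neg_pos_of_neg hD h3.1 h3
          rwa [Checks.neg_neg_root hD (N.act_lt hD hl h1.1)] at h4
        · exact hout _ (C.keep j r hr hin).1 (C.keep j r hr hin).2
      intro s hs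
      have := h0 _ (N.act_lt hD (C.w_lt j) hs)
      rw [N.act_append, C.invol j s hs] at this
      exact this
    have hh := coset_of_same (F := F) hD hl (C.w_lt j) hsame
    have e2 : N.nW hD F (C.w j) * ((N.nW hD F (C.w j))⁻¹ * N.nW hD F l * k) = N.nW hD F l * k := by group
    exact ⟨p, hp, hpf, _, mul_mem hh hk, e2.symm ▸ hmf, u, RootGen.gen_mono (fun r hr => (hminus r).1 hr) hu, huf,
      by rw [e2]; exact e⟩

/-- a representative of a class in `T` -/
theorem exists_lift (O : Orbits S) (T : Subgroup (GL D.Idx F)) (hT : T ≤ S.fix) (j : Fin C.k)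
    (hU : O.FamOn (Canonical.Minus D (C.w j)) T) {v : GL D.Idx F} (hv : v ∈ T) (hv1 : v ≠ 1)
    (hvn : v ∈ RootGen.gen D F fun r => D.IsNegRoot r ∧ C.In j r) :
    ∃ k ∈ D.diagonalSubgroup F, N.nW hD F (C.w j) * k ∈ T := by
  obtain ⟨p, hp, hpf, k, hk, -, u, hu', huf, e⟩ := C.neg_cell j (hT hv) hv1 hvn
  refine ⟨k, hk, ?_⟩
  set J : Set ℕ := {i | i ∈ C.J j} with hJ
  have hJlev : RootGen.gen D F (fun r => D.InRootSub J r) ≤ D.leviSubgroup F J :=
    (le_sup_right : _ ≤ D.leviSubgroup F J)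
  have hvL : v ∈ D.leviSubgroup F J := hJlev (RootGen.gen_mono (fun r hr => hr.2) hvn)
  set m := N.nW hD F (C.w j) * k with hm
  have hwcl := cl_of_closed (F := F) (Canonical.minus_closed hD (C.w_lt j))
  have huT : u ∈ T := O.mem_of_famOn hwcl hU hu' huf
  have hwL : N.nW hD F (C.w j) ∈ D.leviSubgroup F J := by
    refine Subgroup.list_prod_mem _ fun g hg => ?_
    obtain ⟨i, hi, rfl⟩ := List.mem_map.1 hg
    have hiJ := C.w_mem j i hi
    have hir := C.J_lt j i hiJ
    have h1 : D.InRootSub J (D.simple i) := (Parabolic.simple_inSub hD hir).2 hiJ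
    exact hJlev (mul_mem (mul_mem (RootGen.xGL_mem_gen hD h1 _)
      (RootGen.xGL_mem_gen hD (Parabolic.neg_inSub hD h1) _)) (RootGen.xGL_mem_gen hD h1 _))
  have huL : u ∈ D.leviSubgroup F J :=
    hJlev (RootGen.gen_mono (fun r hr => ((C.minus_iff j r).1 hr).2) hu')
  have hpL : p ∈ D.leviSubgroup F J := by
    have : p = v * u⁻¹ * m⁻¹ := by rw [e]; group
    rw [this]
    exact mul_mem (mul_mem hvL (inv_mem huL)) (inv_mem (mul_mem hwL (Subgroup.mem_sup_left hk)))
  obtain ⟨a, ha, b, hb, eab⟩ := Canonical.split hD (C.w_lt j) hp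
  have hbL : b ∈ D.leviSubgroup F J :=
    hJlev (RootGen.gen_mono (fun r hr => ((C.minus_iff j r).1 hr).2) hb)
  have ha1 : a = 1 := by
    refine Subgroup.mem_bot.1 ((Parabolic.inf_levi hD J).le (Subgroup.mem_inf.2 ⟨?_, ?_⟩))
    · rw [Parabolic.unipotentRadical_eq]
      exact RootGen.gen_mono (fun r hr => (C.plus_iff j r).1 hr) ha
    · have : a = p * b⁻¹ := by rw [eab]; group
      rw [this]; exact mul_mem hpL (inv_mem hbL)
  rw [ha1, one_mul] at eab
  have hpT : p ∈ T := O.mem_of_famOn hwcl hU (eab ▸ hb) hpf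
  have : m = p⁻¹ * v * u⁻¹ := by rw [e]; group
  rw [this]
  exact mul_mem (mul_mem (inv_mem hpT) hv) (inv_mem huT)

end Classes

end CfsgLib.Chev.Twisted
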