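import Cfsg.Agent.Lib.Chev.Twisted.Group
import Cfsg.Agent.Lib.Chev.Group.Simple
import Cfsg.Agent.Lib.BNPair.Coxeter

/-! The fixed group: (B, N)-pair, Weyl group, order, core, simplicity. -/
set_option autoImplicit false
open Cfsg.Lie
open scoped Matrix MatrixGroups

namespace CfsgLib.Chev.Twisted

open CfsgLib.Chev CfsgLib.Chev.Checks CfsgLib.Chev.Basic CfsgLib.BNPair

/-- the exchange condition for a renamed index set -/
theorem exchange_comp {B B' W : Type*} [Group W] {s : B → W} (g : B' ≃ B) (h : Coxeter.Exchange s) :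
    Coxeter.Exchange (s ∘ g) := by
  have hmap : ∀ l : List B, ((l.map g.symm).map (s ∘ g)).prod = (l.map s).prod := fun l => by
    rw [List.map_map]; congr 1; exact List.map_congr_left fun x _ => by simp
  have hmap' : ∀ l : List B', ((l.map g).map s).prod = (l.map (s ∘ g)).prod := fun l => by rw [List.map_map]
  refine ⟨fun i => h.sq _, fun w => ?_, fun l i hr hd => ?_⟩
  · obtain ⟨l, hl⟩ := h.gen w
    exact ⟨l.map g.symm, (hmap l).trans hl⟩
  · obtain ⟨m, hm, hml⟩ := hd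
    obtain ⟨p, c, e, h1, h2⟩ := h.exchange (l.map g) (g i)
      (fun x hx => by
        have := hr (x.map g.symm) ((hmap x).trans (hx.trans (hmap' l)))
        simpa using this)
      ⟨m.map g, by rw [hmap', hm, hmap']; rfl, by simpa using hml⟩
    refine ⟨p.map g.symm, c.map g.symm, g.symm e, ?_, ?_⟩
    · have e' := congrArg (List.map g.symm) h1
      rw [List.map_map, List.map_append, List.map_cons] at e'
      simpa using e'
    · rw [← List.map_append, hmap, h2, hmap']; rfl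

variable {D : ChevalleyDatum} {F : Type*} [Field F] {hD : D ∈ dataList}

/-- a torus element centralising all positive root subgroups is trivial -/
theorem torus_eq_one (hD : D ∈ dataList) {g : GL D.Idx F} (hg : g ∈ D.diagonalSubgroup F)
    (h : ∀ r, D.IsPosRoot r → ∀ t : F, g * xGL hD F r t * g⁻¹ = xGL hD F r t) : g = 1 := by
  obtain ⟨d, rfl⟩ := (Torus.range_torusHom hD (F := F)).ge hg
  have hneg : ∀ r, D.IsPosRoot r → ∀ hlt : D.neg r < D.nroots,
      Torus.torusChar D F d (Sum.inr ⟨D.neg r, hlt⟩) = 1 := fun r hr hlt => by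
    obtain ⟨i, hi⟩ := U.exists_coroot_ne (F := F) hD hr.1
    have e := congrArg (fun x : GL D.Idx F => (x : Matrix D.Idx D.Idx F) (Sum.inl i)
      (Sum.inr ⟨D.neg r, hlt⟩)) (mul_inv_eq_iff_eq_mul.1 (h r hr 1))
    simp only [Units.val_mul, Torus.torusHom_val, Matrix.diagonal_mul, Matrix.mul_diagonal, xGL_val,
      U.x_e_neg_inl hD hr.1, mul_one] at e
    refine Units.val_eq_one.1 (mul_left_cancel₀ hi ?_)
    rw [mul_one, ← e]
    simp [Torus.torusChar]
  refine Units.ext ?_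
  rw [Torus.torusHom_val, Units.val_one, ← Matrix.diagonal_one]
  congr 1
  funext k
  rcases k with k | s
  · simp [Torus.torusChar]
  · refine Units.val_eq_one.2 ?_
    rcases Checks.pos_or_neg hD s.2 with hp | hn
    · have h1 := hneg s hp (Checks.neg_lt hD hp.1)
      simp only [Torus.torusChar, MonoidHom.coe_mk, OneHom.coe_mk, Sum.elim_inr] at h1 ⊢
      have e : ∏ i, d i ^ D.cartan i (D.neg s.val) = (∏ i, d i ^ D.cartan i s.val)⁻¹ := by
        rw [← Finset.prod_inv_distrib]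
        exact Finset.prod_congr rfl fun i _ => by rw [Weight.cartan_neg hD i.2 hp.1, zpow_neg]
      rw [e, inv_eq_one] at h1
      exact h1
    · have h1 := hneg (D.neg s) (Checks.neg_pos_of_neg hD s.2 hn) (Checks.neg_lt hD (Checks.neg_lt hD s.2))
      have e : (⟨D.neg (D.neg s.val), Checks.neg_lt hD (Checks.neg_lt hD s.2)⟩ : Fin D.nroots) = s :=
        Fin.ext (Checks.neg_neg_root hD s.2)
      rw [e] at h1
      exact h1

namespace Setup

variable {S : Twist hD F} (E : Setup S)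

/-- the representative as an element of the fixed group -/
noncomputable def nf (j : Fin E.C.k) : ↥S.fix := ⟨E.n j, E.n_fix j⟩

theorem same_of_nB (i j : Fin E.C.k) (h : (E.n i)⁻¹ * E.n j ∈ D.borelSubgroup F) :
    Weyl.Same D (E.C.w j) (E.C.w i) := fun s hs => by
  have hH := (BN.inf_monomial hD).le (Subgroup.mem_inf.2 ⟨h, mul_mem (inv_mem (E.n_monomial i)) (E.n_monomial j)⟩)
  refine N.act_congr (F := F) hD (E.C.w_lt j) (E.C.w_lt i)
    (h := (E.lift i).choose * ((E.n i)⁻¹ * E.n j) * (E.lift j).choose⁻¹)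
    (mul_mem (mul_mem (E.n_diag i) hH) (inv_mem (E.n_diag j))) ?_ hs
  simp only [n]; group

theorem n_inj (i j : Fin E.C.k) (h : (E.n i)⁻¹ * E.n j ∈ D.borelSubgroup F) : i = j := by
  obtain ⟨a, ha⟩ := List.exists_mem_of_ne_nil _ (E.C.J_ne j)
  have hal := E.C.J_lt j a ha
  have hneg := (E.C.flip j _ (N.simple_pos hD hal) ((Parabolic.simple_inSub hD hal).2 ha)).1
  rw [E.same_of_nB i j h _ (Rel.simple_lt hD hal)] at hneg
  refine E.C.disj i j a ?_ ha
  by_contra hne
  have := (E.C.keep i _ (N.simple_pos hD hal) fun h' => hne ((Parabolic.simple_inSub hD hal).1 h')).1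
  exact N.not_pos_neg hD this (Checks.neg_pos_of_neg hD hneg.1 hneg)

theorem form {g : GL D.Idx F} (hg : g ∈ S.fix) : ∃ v ∈ D.posUnipotent F, v ∈ S.fix ∧ ∃ L : List (Fin E.C.k),
    ∃ h ∈ D.diagonalSubgroup F, h ∈ S.fix ∧ ∃ u ∈ RootGen.gen D F (Canonical.Minus D (E.C.flat L)), u ∈ S.fix ∧
      g = v * ((L.map E.n).prod * h) * u := by
  obtain ⟨v, hv, hvf, l, hl, k, hk, hmf, u, hu, huf, rfl⟩ := S.fix_form hg
  obtain ⟨L, hL, -⟩ := E.C.monomial_word E.lift le_rfl hl hk hmf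
  have hprod : ∀ L : List (Fin E.C.k), ∃ c ∈ D.diagonalSubgroup F,
      (L.map E.n).prod = N.nW hD F (E.C.flat L) * c ∧ (L.map E.n).prod ∈ S.fix := by
    intro L
    induction L with
    | nil => exact ⟨1, one_mem _, by simp [Classes.flat, N.nW], by simp [one_mem]⟩
    | cons j L ih =>
      obtain ⟨c, hc, e, hf⟩ := ih
      refine ⟨(N.nW hD F (E.C.flat L))⁻¹ * (E.lift j).choose * N.nW hD F (E.C.flat L) * c,
        mul_mem (N.diag_nW hD (E.C.flat_lt L) (E.n_diag j)) hc, ?_, ?_⟩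
      · rw [List.map_cons, List.prod_cons, e, Classes.flat_cons, N.nW_append, n]; group
      · rw [List.map_cons, List.prod_cons]; exact mul_mem (E.n_fix j) hf
  obtain ⟨c, hc, e, hf⟩ := hprod L
  refine ⟨v, hv, hvf, L, ((L.map E.n).prod)⁻¹ * (N.nW hD F l * k), ?_, mul_mem (inv_mem hf) hmf, u,
    RootGen.gen_mono (fun r hr => ⟨hr.1, hL r hr.1.1 ▸ hr.2⟩) hu, huf, by group⟩
  rw [e, show (N.nW hD F (E.C.flat L) * c)⁻¹ * (N.nW hD F l * k) =
    c⁻¹ * ((N.nW hD F (E.C.flat L))⁻¹ * N.nW hD F l) * k by group]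
  exact mul_mem (mul_mem (inv_mem hc) (Classes.coset_of_same hD hl (E.C.flat_lt L) hL)) hk

theorem list_mem_closure (L : List (Fin E.C.k)) :
    (L.map E.nf).prod ∈ Subgroup.closure (Set.range E.nf) :=
  Subgroup.list_prod_mem _ fun x hx => by
    obtain ⟨j, -, rfl⟩ := List.mem_map.1 hx
    exact Subgroup.subset_closure ⟨j, rfl⟩

theorem coe_list (L : List (Fin E.C.k)) :
    (((L.map E.nf).prod : ↥S.fix) : GL D.Idx F) = (L.map E.n).prod := by
  rw [Subgroup.val_list_prod, List.map_map]; rfl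

theorem monomial_closure {g : ↥S.fix} (hg : (g : GL D.Idx F) ∈ D.monomialSubgroup F) :
    ∃ L : List (Fin E.C.k), ∃ h : ↥S.fix, (h : GL D.Idx F) ∈ D.diagonalSubgroup F ∧ g = (L.map E.nf).prod * h := by
  obtain ⟨l, hl, k, hk, e⟩ := N.exists_word hD hg
  obtain ⟨v, hv, hvf, L, h, hh, hhf, u, hu, huf, e2⟩ := E.form g.2
  -- compare normal forms
  have huU : u ∈ D.posUnipotent F := RootGen.gen_le hD (fun r hr t => xGL_mem_pos hD hr.1 t) hu
  obtain ⟨c, hc, ec⟩ : ∃ c ∈ D.diagonalSubgroup F, (L.map E.n).prod * h = N.nW hD F (E.C.flat L) * c := by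
    clear e2 hu
    induction L with
    | nil => exact ⟨h, hh, by simp [Classes.flat, N.nW]⟩
    | cons j L ih =>
      obtain ⟨c, hc, ec⟩ := ih
      refine ⟨(N.nW hD F (E.C.flat L))⁻¹ * (E.lift j).choose * N.nW hD F (E.C.flat L) * c,
        mul_mem (N.diag_nW hD (E.C.flat_lt L) (E.n_diag j)) hc, ?_⟩
      rw [List.map_cons, List.prod_cons, mul_assoc, ec, Classes.flat_cons, N.nW_append, n]; group
  have hH := Canonical.cell_unique hD (b := 1) (u := 1) (one_mem _) (Subgroup.mem_sup_left hv) hg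
    (n' := (L.map E.n).prod * h) (by rw [ec]; exact mul_mem (N.nW_mem hD (E.C.flat_lt L)) (Subgroup.mem_sup_left hc))
    (one_mem _) (Subgroup.mem_sup_left huU) (by rw [one_mul, mul_one]; exact e2)
  refine ⟨L, ((L.map E.nf).prod)⁻¹ * g, ?_, by group⟩
  rw [Subgroup.coe_mul, Subgroup.coe_inv, E.coe_list]
  have : ((L.map E.n).prod)⁻¹ * (g : GL D.Idx F) = h * ((g : GL D.Idx F)⁻¹ * ((L.map E.n).prod * h))⁻¹ := by group
  rw [this]
  exact mul_mem hh (inv_mem hH)

theorem adm_one (a : ℕ) : ∃ s : F, E.O.Adm a s ∧ s ≠ 0 := ⟨1, Or.inr (map_one _), one_ne_zero⟩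

/-- the (B, N)-pair of the fixed group -/
noncomputable def bnPair : Cfsg.BNPair ↥S.fix where
  B := (D.borelSubgroup F).subgroupOf S.fix
  N := (D.monomialSubgroup F).subgroupOf S.fix
  S := Set.range E.nf
  sup_eq_top := by
    refine eq_top_iff.2 fun g _ => ?_
    obtain ⟨v, hv, hvf, L, h, hh, hhf, u, hu, huf, e⟩ := E.form g.2
    have hg : g = (⟨v, hvf⟩ : ↥S.fix) * ((L.map E.nf).prod * ⟨h, hhf⟩) * ⟨u, huf⟩ :=
      Subtype.ext (by simp only [Subgroup.coe_mul, E.coe_list]; exact e)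
    rw [hg]
    refine mul_mem (mul_mem (Subgroup.mem_sup_left (Subgroup.mem_subgroupOf.2 (Subgroup.mem_sup_left hv)))
      (mul_mem ?_ (Subgroup.mem_sup_left (Subgroup.mem_subgroupOf.2 (Subgroup.mem_sup_right hh)))))
      (Subgroup.mem_sup_left (Subgroup.mem_subgroupOf.2 (Subgroup.mem_sup_left
        (RootGen.gen_le hD (fun r hr t => xGL_mem_pos hD hr.1 t) hu))))
    refine Subgroup.list_prod_mem _ fun x hx => ?_
    obtain ⟨j, -, rfl⟩ := List.mem_map.1 hx
    exact Subgroup.mem_sup_right (Subgroup.mem_subgroupOf.2 (E.n_monomial j))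
  conj_mem n hn t ht := by
    simp only [Subgroup.mem_inf, Subgroup.mem_subgroupOf] at ht
    rw [Subgroup.mem_subgroupOf] at hn ⊢
    exact Subgroup.mem_sup_right (N.diagonal_normal hD hn ((BN.inf_monomial hD).le ht))
  subset := by
    rintro _ ⟨j, rfl⟩
    exact Subgroup.mem_subgroupOf.2 (E.n_monomial j)
  sq_mem := by
    rintro _ ⟨j, rfl⟩
    exact Subgroup.mem_subgroupOf.2 (Subgroup.mem_sup_right (E.n_sq j))
  inj := by
    rintro _ ⟨i, rfl⟩ _ ⟨j, rfl⟩ h
    rw [E.n_inj i j (Subgroup.mem_subgroupOf.1 h)]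
  closure_sup := by
    refine le_antisymm (sup_le ((Subgroup.closure_le _).2 ?_) inf_le_right) fun g hg => ?_
    · rintro _ ⟨j, rfl⟩
      exact Subgroup.mem_subgroupOf.2 (E.n_monomial j)
    · obtain ⟨L, h, hh, rfl⟩ := E.monomial_closure (Subgroup.mem_subgroupOf.1 hg)
      exact mul_mem (Subgroup.mem_sup_left (E.list_mem_closure L)) (Subgroup.mem_sup_right (Subgroup.mem_inf.2
        ⟨Subgroup.mem_subgroupOf.2 (Subgroup.mem_sup_right hh), Subgroup.mem_subgroupOf.2 (Subgroup.mem_sup_left hh)⟩))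
  mul_mem_union := by
    rintro _ ⟨j, rfl⟩ m hm b hb
    obtain ⟨c, hc, hcf, c', hc', hcf', h⟩ := E.union_mul j (Subgroup.mem_subgroupOf.1 hb) b.2
      (Subgroup.mem_subgroupOf.1 hm) m.2
    rcases h with h | h
    · left
      exact DoubleCoset.mem_doubleCoset.2 ⟨⟨c, hcf⟩, Subgroup.mem_subgroupOf.2 hc, ⟨c', hcf'⟩,
        Subgroup.mem_subgroupOf.2 hc', Subtype.ext (by simp only [Subgroup.coe_mul]; exact h)⟩
    · right
      exact DoubleCoset.mem_doubleCoset.2 ⟨⟨c, hcf⟩, Subgroup.mem_subgroupOf.2 hc, ⟨c', hcf'⟩,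
        Subgroup.mem_subgroupOf.2 hc', Subtype.ext (by simp only [Subgroup.coe_mul]; exact h)⟩
  conj_ne := by
    rintro _ ⟨j, rfl⟩ h
    obtain ⟨i, hi⟩ := List.exists_mem_of_ne_nil _ (E.C.J_ne j)
    obtain ⟨x, hx, hxf, hne⟩ := E.exists_moved j hi fun a _ => E.adm_one a
    have hxB : (⟨x, hxf⟩ : ↥S.fix) ∈ ((D.borelSubgroup F).subgroupOf S.fix : Set ↥S.fix) :=
      Subgroup.mem_subgroupOf.2 (Subgroup.mem_sup_left hx)
    have h1 := h ▸ Set.mem_image_of_mem (fun b => E.nf j * b * E.nf j) hxB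
    rw [SetLike.mem_coe, Subgroup.mem_subgroupOf] at h1
    refine hne ?_
    have e : E.n j * x * (E.n j)⁻¹ = (E.n j * x * E.n j) * (E.n j * E.n j)⁻¹ := by group
    rw [e]
    exact mul_mem h1 (inv_mem (Subgroup.mem_sup_right (E.n_sq j)))

/-- a representative as a distinguished generator -/
noncomputable def sg (j : Fin E.C.k) : E.bnPair.S := ⟨E.nf j, ⟨j, rfl⟩⟩

/-- a fundamental involution of the twisted Weyl group -/
noncomputable def rs (j : Fin E.C.k) : Bruhat.W E.bnPair := Bruhat.simp_ E.bnPair (E.sg j)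

theorem proj_list (L : List (Fin E.C.k)) :
    ∃ m : E.bnPair.N, ((m : ↥S.fix) : GL D.Idx F) = (L.map E.n).prod ∧
      Bruhat.proj E.bnPair m = (L.map E.rs).prod := by
  induction L with
  | nil => exact ⟨1, by simp, by simp⟩
  | cons j L ih =>
    obtain ⟨m, h1, h2⟩ := ih
    refine ⟨Bruhat.gen E.bnPair (E.sg j) * m, ?_, ?_⟩
    · simp only [Subgroup.coe_mul, List.map_cons, List.prod_cons, h1]; rfl
    · rw [map_mul, h2, List.map_cons, List.prod_cons]; rfl

theorem prod_eq_one_iff (L : List (Fin E.C.k)) :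
    (L.map E.rs).prod = 1 ↔ Weyl.Same D (E.C.flat L) [] := by
  obtain ⟨m, h1, h2⟩ := E.proj_list L
  rw [← h2, Bruhat.proj_eq_one_iff]
  have hprod : ∀ L : List (Fin E.C.k), ∃ c ∈ D.diagonalSubgroup F,
      (L.map E.n).prod = N.nW hD F (E.C.flat L) * c := by
    intro L
    induction L with
    | nil => exact ⟨1, one_mem _, by simp [Classes.flat, N.nW]⟩
    | cons j L ih =>
      obtain ⟨c, hc, e⟩ := ih
      refine ⟨(N.nW hD F (E.C.flat L))⁻¹ * (E.lift j).choose * N.nW hD F (E.C.flat L) * c,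
        mul_mem (N.diag_nW hD (E.C.flat_lt L) (E.n_diag j)) hc, ?_⟩
      rw [List.map_cons, List.prod_cons, e, Classes.flat_cons, N.nW_append, n]; group
  obtain ⟨c, hc, e⟩ := hprod L
  have hl := E.C.flat_lt L
  show (m : ↥S.fix) ∈ (D.borelSubgroup F).subgroupOf S.fix ↔ _
  rw [Subgroup.mem_subgroupOf, h1, e]
  constructor
  · intro h
    have hB : N.nW hD F (E.C.flat L) ∈ D.borelSubgroup F := by
      have := mul_mem h (inv_mem (Subgroup.mem_sup_right hc : c ∈ D.borelSubgroup F))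
      simpa using this
    exact fun r hr => N.act_congr hD hl (by simp)
      ((BN.inf_monomial hD).le (Subgroup.mem_inf.2 ⟨hB, N.nW_mem hD hl⟩)) (by simp [N.nW]) hr
  · intro h
    refine (le_sup_right : D.diagonalSubgroup F ≤ D.borelSubgroup F) (mul_mem ?_ hc)
    have := Classes.coset_of_same (F := F) hD hl (by simp) h
    simpa [N.nW] using this

/-- the Weyl group of the fixed group -/
theorem exists_weyl (M : CoxeterMatrix (Fin E.C.k))
    (hM0 : ∀ i j, 0 < M i j)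
    (hpow : ∀ i j, Weyl.Same D (E.C.flat (List.replicate (M i j) [i, j]).flatten) [])
    (hdvd : ∀ i j n, n < M i j → Weyl.Same D (E.C.flat (List.replicate n [i, j]).flatten) [] → n = 0) :
    ∃ φ : ↥E.bnPair.N →* M.Group, Function.Surjective φ ∧ φ.ker = (E.bnPair.B ⊓ E.bnPair.N).subgroupOf E.bnPair.N := by
  let g : Fin E.C.k ≃ E.bnPair.S := Equiv.ofBijective E.sg
    ⟨fun i j h => E.n_inj i j (by
      have h' : E.n i = E.n j := congrArg (fun x : E.bnPair.S => ((x : ↥S.fix) : GL D.Idx F)) h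
      rw [h', inv_mul_cancel]; exact one_mem _), fun x => by
      obtain ⟨j, hj⟩ := x.2; exact ⟨j, Subtype.ext hj⟩⟩
  let s := Bruhat.simp_ E.bnPair ∘ g
  have hs := exchange_comp g (Coxeter.exchange_bnPair E.bnPair)
  have hpw : ∀ i j n, (s i * s j) ^ n =
      ((List.replicate n [i, j]).flatten.map E.rs).prod := by
    intro i j n
    induction n with
    | zero => simp
    | succ n ih => rw [pow_succ', List.replicate_succ, List.flatten_cons, List.map_append, List.prod_append, ← ih]; simp [s, g, rs, Equiv.ofBijective, Function.comp_def]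
  have hp : ∀ i j, (s i * s j) ^ M i j = 1 := fun i j => by rw [hpw, E.prod_eq_one_iff]; exact hpow i j
  have hd : ∀ i j n, (s i * s j) ^ n = 1 → M i j ∣ n := fun i j n hn => by
    refine Nat.dvd_of_mod_eq_zero (hdvd i j _ (Nat.mod_lt _ (hM0 i j)) ?_)
    rw [← E.prod_eq_one_iff, ← hpw]
    have e := pow_add (s i * s j) (n % M i j) (M i j * (n / M i j))
    rw [Nat.mod_add_div, pow_mul, hp, one_pow, mul_one, hn] at e
    exact e.symm
  let e := MulEquiv.ofBijective (Coxeter.hom hp) (Coxeter.bijective hs hp hd)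
  refine ⟨e.symm.toMonoidHom.comp (Bruhat.proj E.bnPair), ?_, ?_⟩
  · exact e.symm.surjective.comp (QuotientGroup.mk'_surjective _)
  · rw [MonoidHom.ker_comp_of_injective _ _ e.symm.injective, QuotientGroup.ker_mk']

/-- irreducibility from a connected graph of non-commuting classes -/
theorem irreducible (adj : Fin E.C.k → Fin E.C.k → Bool)
    (hadj : ∀ i j, adj i j = true → ¬ Weyl.Same D (E.C.flat [i, j, i, j]) [])
    (hconn : ∀ J : Finset (Fin E.C.k), J.Nonempty → J ≠ Finset.univ → ∃ i ∈ J, ∃ j, j ∉ J ∧ adj i j = true) :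
    E.bnPair.Irreducible := by
  classical
  intro J hJS hJne hJc
  set L := Finset.univ.filter fun j => E.nf j ∈ J with hL
  have h0 : L.Nonempty := by
    obtain ⟨x, hx⟩ := hJne
    obtain ⟨j, rfl⟩ := hJS hx
    exact ⟨j, Finset.mem_filter.2 ⟨Finset.mem_univ _, hx⟩⟩
  have h1 : L ≠ Finset.univ := by
    obtain ⟨x, hxS, hxJ⟩ := hJc
    obtain ⟨j, rfl⟩ := hxS
    intro e
    exact hxJ (Finset.mem_filter.1 (e ▸ Finset.mem_univ j : j ∈ L)).2
  obtain ⟨i, hi, j, hj, hij⟩ := hconn L h0 h1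
  refine ⟨E.nf i, (Finset.mem_filter.1 hi).2, E.nf j,
    ⟨⟨j, rfl⟩, fun h => hj (Finset.mem_filter.2 ⟨Finset.mem_univ _, h⟩)⟩, fun hB => ?_⟩
  refine hadj i j hij ((E.prod_eq_one_iff _).1 ?_)
  have h2 : E.rs i * E.rs j * (E.rs i)⁻¹ * (E.rs j)⁻¹ = 1 := by
    have h3 : Bruhat.proj E.bnPair (Bruhat.gen E.bnPair (E.sg i) * Bruhat.gen E.bnPair (E.sg j) *
        (Bruhat.gen E.bnPair (E.sg i))⁻¹ * (Bruhat.gen E.bnPair (E.sg j))⁻¹) = 1 :=
      (Bruhat.proj_eq_one_iff E.bnPair).2 hB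
    simp only [map_mul, map_inv] at h3
    exact h3
  simp only [rs, Bruhat.simp_inv] at h2
  simpa [rs, mul_assoc] using h2

theorem borel_solvable : Group.IsSolvable E.bnPair.B := by
  have := BH.borel_solvable (F := F) hD
  exact Group.isSolvable_of_isSolvable_injective
    (f := ({ toFun := fun x => ⟨((x : ↥S.fix) : GL D.Idx F), Subgroup.mem_subgroupOf.1 x.2⟩
             map_one' := rfl
             map_mul' := fun _ _ => rfl } : E.bnPair.B →* ↥(D.borelSubgroup F)))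
    fun x y h => by
      have h' : ((x : ↥S.fix) : GL D.Idx F) = ((y : ↥S.fix) : GL D.Idx F) :=
        congrArg (fun z : ↥(D.borelSubgroup F) => (z : GL D.Idx F)) h
      exact Subtype.ext (Subtype.ext h')

/-- an opposite element -/
theorem exists_opp {L0 : List (Fin E.C.k)} (hL0 : ∀ r, D.IsPosRoot r → D.IsNegRoot (N.act D (E.C.flat L0) r)) :
    ∃ n ∈ S.fix, n ∈ D.monomialSubgroup F ∧ (∀ x ∈ D.posUnipotent F, n * x * n⁻¹ ∈ D.negUnipotent F) ∧
      ∀ y ∈ D.negUnipotent F, n⁻¹ * y * n ∈ D.posUnipotent F := by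
  obtain ⟨k, hk, hn⟩ := E.C.word_lift E.lift L0
  have hl := E.C.flat_lt L0
  refine ⟨_, hn, mul_mem (N.nW_mem hD hl) (Subgroup.mem_sup_left hk), fun x hx => ?_, fun y hy => ?_⟩
  · exact Canonical.conj_gen hD hl hk (fun r hr => hr.1) (fun r hr t => xGL_mem_neg hD (hL0 r hr) t) hx
  · refine conj_inv_pos (hD := hD) hl hk (fun r hr => ⟨hr.1, ?_⟩) hy
    have hlr : ∀ i ∈ (E.C.flat L0).reverse, i < D.rank := fun i hi => hl i (List.mem_reverse.1 hi)
    refine (Checks.pos_or_neg hD (N.act_lt hD hlr hr.1)).resolve_right fun hneg => ?_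
    have h2 := hL0 _ (Checks.neg_pos_of_neg hD hneg.1 hneg)
    rw [N.act_neg hD hl hneg.1, BN.act_reverse hD hl hr.1] at h2
    exact N.not_pos_neg hD (Checks.neg_pos_of_neg hD hr.1 hr) (Checks.neg_pos_of_neg hD h2.1 h2)

/-- fixed negative unipotent elements are conjugate into the positive ones -/
theorem neg_mem {L0 : List (Fin E.C.k)} (hL0 : ∀ r, D.IsPosRoot r → D.IsNegRoot (N.act D (E.C.flat L0) r))
    {M : Subgroup (GL D.Idx F)} (hM : ∀ g ∈ S.fix, ∀ x ∈ M, g * x * g⁻¹ ∈ M)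
    (hU : ∀ g ∈ D.posUnipotent F, g ∈ S.fix → g ∈ M) {y : GL D.Idx F} (hy : y ∈ D.negUnipotent F)
    (hyf : y ∈ S.fix) : y ∈ M := by
  obtain ⟨n, hn, -, -, h2⟩ := E.exists_opp hL0
  have h3 := hM n hn _ (hU _ (h2 y hy) (mul_mem (mul_mem (inv_mem hn) hyf) hn))
  rwa [show n * (n⁻¹ * y * n) * n⁻¹ = y by group] at h3

/-- trivial core -/
theorem core {L0 : List (Fin E.C.k)} (hL0 : ∀ r, D.IsPosRoot r → D.IsNegRoot (N.act D (E.C.flat L0) r)) :
    E.bnPair.B.normalCore = ⊥ := by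
  refine le_antisymm (fun g hg => ?_) bot_le
  rw [Subgroup.mem_bot]
  obtain ⟨n, hnf, hnN, hmap, -⟩ := E.exists_opp hL0
  set K := E.bnPair.B.normalCore
  have hKB : ∀ x ∈ K, (x : GL D.Idx F) ∈ D.borelSubgroup F := fun x hx =>
    Subgroup.mem_subgroupOf.1 (Subgroup.normalCore_le _ hx)
  have hKH : ∀ x ∈ K, (x : GL D.Idx F) ∈ D.diagonalSubgroup F := by
    intro x hx
    let n' : ↥S.fix := ⟨n, hnf⟩
    have h1 := hKB _ ((Subgroup.normalCore_normal _).conj_mem x hx n'⁻¹)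
    simp only [inv_inv, Subgroup.coe_mul, Subgroup.coe_inv] at h1
    obtain ⟨u, hu, k, hk, he⟩ := (BH.mem_borel_iff hD).1 h1
    refine (BH.borel_inf_negBorel hD).le (Subgroup.mem_inf.2 ⟨hKB x hx, ?_⟩)
    have hx' : (x : GL D.Idx F) = n * u * n⁻¹ * (n * k * n⁻¹) := by
      have : (n : GL D.Idx F) * (n⁻¹ * x * n) * n⁻¹ = x := by group
      rw [← this, ← he]; group
    rw [hx']
    exact mul_mem (Subgroup.mem_sup_left (hmap u hu)) (Subgroup.mem_sup_right (N.diagonal_normal hD hnN hk))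
  have hgH := hKH g hg
  have hcomm : ∀ x ∈ D.posUnipotent F, x ∈ S.fix → (g : GL D.Idx F) * x = x * g := by
    intro x hx hxf
    have h2 := hKH _ (mul_mem ((Subgroup.normalCore_normal _).conj_mem g hg ⟨x, hxf⟩) (inv_mem hg))
    simp only [Subgroup.coe_mul, Subgroup.coe_inv] at h2
    have h3 : (g : GL D.Idx F) * x⁻¹ * (g : GL D.Idx F)⁻¹ ∈ D.posUnipotent F :=
      (Subgroup.mem_normalizer_iff.1 (BH.diagonal_normalizes_pos hD hgH) _).1 (inv_mem hx)
    have h4 : x * ((g : GL D.Idx F) * x⁻¹ * (g : GL D.Idx F)⁻¹) = 1 := Subgroup.mem_bot.1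
      ((BH.pos_inf_diagonal hD).le (Subgroup.mem_inf.2 ⟨mul_mem hx h3, by
        have : x * ((g : GL D.Idx F) * x⁻¹ * (g : GL D.Idx F)⁻¹) = x * g * x⁻¹ * (g : GL D.Idx F)⁻¹ := by group
        rw [this]; exact h2⟩))
    calc (g : GL D.Idx F) * x = 1 * ((g : GL D.Idx F) * x) := (one_mul _).symm
      _ = x * g := by rw [← h4]; group
  refine Subtype.ext ?_
  have key : ∀ r, D.IsPosRoot r → ∀ t : F, (g : GL D.Idx F) * xGL hD F r t * (g : GL D.Idx F)⁻¹ = xGL hD F r t := by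
    intro r hr t
    obtain ⟨a, ha, i, hi⟩ := E.O.cover r hr
    obtain ⟨s, hs, hs0⟩ := E.adm_one a
    obtain ⟨x, -, hxf, hx, hxc, -⟩ := E.fam a ha (E.O.reps_pos a ha) s hs
    obtain ⟨c, -, hc⟩ := BH.conj_x hD hgH r hr.1
    -- coordinate at `r` of `x` is non-zero
    set L := E.O.lev a
    have hlev : ∀ i, D.IsPosRoot (S.ρ^[i] a) ∧ E.O.lev (S.ρ^[i] a) = L := E.O.lev_iterate (E.O.reps_pos a ha)
    have hne : coord hD x r ≠ 0 := by
      subst hi
      clear hr hc
      induction i with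
      | zero => rw [Function.iterate_zero_apply, hxc]; exact hs0
      | succ i ih =>
        obtain ⟨h1, h2⟩ := hlev i
        rw [Function.iterate_succ_apply', Orbits.zero_layer.fix_coord' E.O h1 h2 hx hxf]
        exact mul_ne_zero (S.c_ne h1.1) ((map_ne_zero _).2 ih)
    have hrL : E.O.lev r = L := hi ▸ (hlev i).2
    have hcl := E.O.pl_cl (cl_pos hD) L
    have hlead := E.O.pl_lead (cl_pos hD) hrL
    obtain ⟨q, hq, e⟩ := lead_decomp hD hcl ⟨hr, hrL.ge⟩ hlead hx
    generalize hs' : coord hD x r = s' at e hne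
    have hcc := hcomm x (gen_le_pos hD hcl hx) hxf
    have hq' : (g : GL D.Idx F) * q * (g : GL D.Idx F)⁻¹ ∈ RootGen.gen D F (fun s => E.O.PL D.IsPosRoot L s ∧ s ≠ r) :=
      (Subgroup.mem_normalizer_iff.1 (BH.diagonal_le_normalizer hD _ hgH) _).1 hq
    have e2 : x = xGL hD F r (c * s') * ((g : GL D.Idx F) * q * (g : GL D.Idx F)⁻¹) := by
      rw [← hc]
      calc x = (g : GL D.Idx F) * x * (g : GL D.Idx F)⁻¹ := by rw [hcc]; group
        _ = _ := by rw [e]; group
    have h5 := congrArg (fun y => coord hD y r) e2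
    simp only [coord_lead hD hcl ⟨hr, hrL.ge⟩ hlead hq', hs'] at h5
    have hc1 : c = 1 := mul_right_cancel₀ hne (by rw [one_mul]; exact h5.symm)
    rw [hc, hc1, one_mul]
  exact torus_eq_one hD hgH key

end Setup

end CfsgLib.Chev.Twisted
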